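import Mathlib

/-!
# Sheaves of modules on a small site form a Grothendieck abelian category
(helper53) — exact filtered colimits via the sheafification adjunction, separator from
sheafified free modules on representables.
-/

set_option autoImplicit false
universe u
open CategoryTheory Limits

namespace Groth.Agent.Lib.Helper53.ModGroth
variable {C : Type u} [SmallCategory C] (J : GrothendieckTopology C) (R : Sheaf J RingCat.{u})

instance presheafOfModules_hasExactColimitsOfShape (K : Type u) [SmallCategory K] [IsFiltered K] :
    HasExactColimitsOfShape K (PresheafOfModules.{u} R.obj) := by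
  have : (PresheafOfModules.toPresheaf.{u} R.obj).ReflectsIsomorphisms := inferInstance
  have : ReflectsFiniteLimits (PresheafOfModules.toPresheaf.{u} R.obj) :=
    ⟨fun _ _ _ => inferInstance⟩
  exact HasExactColimitsOfShape.domain_of_functor K (PresheafOfModules.toPresheaf.{u} R.obj)

instance sheafOfModules_hasExactColimitsOfShape (K : Type u) [SmallCategory K] [IsFiltered K] :
    HasExactColimitsOfShape K (SheafOfModules.{u} R) := by
  have : (SheafOfModules.forget.{u} R).Full := inferInstance
  exact (PresheafOfModules.sheafificationAdjunction (𝟙 R.obj)).hasExactColimitsOfShape K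

/-- The sheafified free module on the representable presheaf of `X`. -/
noncomputable abbrev gen (X : C) : SheafOfModules.{u} R :=
  (PresheafOfModules.sheafification (𝟙 R.obj)).obj
    ((PresheafOfModules.free R.obj).obj (yoneda.obj X))

lemma isSeparating_gen : ObjectProperty.IsSeparating (.ofObj (gen J R)) := by
  intro M N f₁ f₂ h
  let adj := PresheafOfModules.sheafificationAdjunction (𝟙 R.obj)
  apply (SheafOfModules.forget.{u} R ⋙
    PresheafOfModules.restrictScalars (𝟙 R.obj)).map_injective
  apply PresheafOfModules.freeYoneda.isSeparating R.obj
  rintro _ ⟨X⟩ g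
  have := h (gen J R X) ⟨X⟩ ((adj.homEquiv _ _).symm g)
  have h2 := congrArg (adj.homEquiv _ _) this
  rw [Adjunction.homEquiv_naturality_right, Adjunction.homEquiv_naturality_right,
    Equiv.apply_symm_apply] at h2
  exact h2

instance sheafOfModules_hasSeparator : HasSeparator (SheafOfModules.{u} R) :=
  ⟨⟨_, (isSeparating_gen J R).isSeparator_coproduct⟩⟩

theorem isGrothendieckAbelian : IsGrothendieckAbelian.{u} (SheafOfModules.{u} R) where
  ab5OfSize := ⟨fun K _ _ => inferInstance⟩

end Groth.Agent.Lib.Helper53.ModGroth
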