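import Groth.Prelude.Def_CohTop
import Mathlib.CategoryTheory.Limits.FunctorCategory.EpiMono
import Mathlib.Topology.Sheaves.LocallySurjective

/-!
# Exactness of sequences of abelian sheaves from exactness on sections
-/

universe u

open CategoryTheory TopologicalSpace Opposite CategoryTheory.Limits

namespace Groth.Agent.Lib.Helper53

variable {Y : TopCat.{u}}

/-- a monomorphism of abelian sheaves is injective on sections -/
lemma injective_app_of_mono {A B : CohTop.Ab Y} (φ : A ⟶ B) [Mono φ] (U : Opens Y) :
    Function.Injective (φ.hom.app (op U)) := by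
  have h1 : Mono ((sheafToPresheaf _ _).map φ) := inferInstance
  have h2 : Mono (φ.hom.app (op U)) := (NatTrans.mono_iff_mono_app _).1 h1 (op U)
  exact (AddCommGrpCat.mono_iff_injective _).1 h2

/-- a complex of abelian sheaves which is exact on sections over every open is exact -/
theorem exact_of_sections_exact (S : ShortComplex (CohTop.Ab Y))
    (h : ∀ (V : Opens Y) (s : S.X₂.obj.obj (op V)), S.g.hom.app (op V) s = 0 →
      ∃ t : S.X₁.obj.obj (op V), S.f.hom.app (op V) t = s) : S.Exact := by
  rw [ShortComplex.exact_iff_epi_kernel_lift]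
  rw [← CategoryTheory.Sheaf.isLocallySurjective_iff_epi']
  change TopCat.Presheaf.IsLocallySurjective (kernel.lift S.g S.f S.zero).hom
  rw [TopCat.Presheaf.isLocallySurjective_iff]
  intro U k x hx
  refine ⟨U, le_rfl, ?_, hx⟩
  have hk : S.g.hom.app (op U) ((kernel.ι S.g).hom.app (op U) k) = 0 := by
    have h0 : kernel.ι S.g ≫ S.g = 0 := kernel.condition _
    have := congrArg (fun φ : kernel S.g ⟶ S.X₃ => φ.hom.app (op U) k) h0
    exact this
  obtain ⟨t, ht⟩ := h U _ hk
  refine ⟨t, ?_⟩
  have hkk : TopCat.Presheaf.restrictOpen k U le_rfl = k := by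
    change (kernel S.g).obj.map (𝟙 (op U)) k = k
    rw [CategoryTheory.Functor.map_id]
    rfl
  rw [hkk]
  apply injective_app_of_mono (kernel.ι S.g) U
  have h1 : kernel.lift S.g S.f S.zero ≫ kernel.ι S.g = S.f := kernel.lift_ι _ _ _
  have h2 := congrArg (fun φ : S.X₁ ⟶ S.X₂ => φ.hom.app (op U) t) h1
  rw [← ht]
  exact h2

end Groth.Agent.Lib.Helper53
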