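import Groth.Agent.Lib.Helper53.Flasque

/-!
# Higher cohomology classes vanish locally
-/

universe u

open CategoryTheory TopologicalSpace Opposite CategoryTheory.Limits Abelian

namespace Groth.Agent.Lib.Helper53

variable {X : TopCat.{u}}

lemma res_eq (F : CohTop.Ab X) (n : ℕ) {U V : Opens X} (h : V ≤ U) (ξ : CohTop.HU F n U) :
    CohTop.res F n h ξ = (Ext.mk₀ (freeSheafMap (homOfLE h))).comp ξ (zero_add n) := rfl

/-- an epimorphism of abelian sheaves is locally surjective on sections -/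
lemma exists_local_lift_of_epi {A B : CohTop.Ab X} (π : A ⟶ B) [Epi π] (U : Opens X)
    (t : B.obj.obj (op U)) (x : X) (hx : x ∈ U) :
    ∃ (V : Opens X) (hV : V ≤ U) (s : A.obj.obj (op V)), x ∈ V ∧
      π.hom.app (op V) s = B.obj.map (homOfLE hV).op t := by
  have h1 : CategoryTheory.Sheaf.IsLocallySurjective π :=
    (CategoryTheory.Sheaf.isLocallySurjective_iff_epi' (φ := π)).2 inferInstance
  have h2 : TopCat.Presheaf.IsLocallySurjective π.hom := h1
  rw [TopCat.Presheaf.isLocallySurjective_iff] at h2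
  obtain ⟨V, hV, ⟨s, hs⟩, hxV⟩ := h2 U t x hx
  exact ⟨V, hV, s, hxV, hs⟩

theorem exists_cover_res_eq_zero_aux (n : ℕ) : ∀ (S : ShortComplex (CohTop.Ab X))
    (hS : S.ShortExact) [Injective S.X₂] (U : Opens X) (ξ : Ext (freeSheaf U) S.X₁ (n + 1)),
    ∃ (ι : Type u) (V : ι → Opens X) (hV : ∀ i, V i ≤ U), iSup V = U ∧
      ∀ i, (Ext.mk₀ (freeSheafMap (homOfLE (hV i)))).comp ξ (zero_add (n + 1)) = 0 := by
  induction n with
  | zero =>
    intro S hS _ U ξ
    have h1 : ξ.comp (Ext.mk₀ S.f) (add_zero 1) = 0 := Ext.eq_zero_of_injective _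
    obtain ⟨y, hy⟩ := Ext.covariant_sequence_exact₁ _ hS ξ h1 (zero_add 1)
    obtain ⟨g, rfl⟩ := (Ext.mk₀_bijective _ S.X₃).2 y
    have hepi : Epi S.g := hS.epi_g
    choose V hV s hxV hs using fun x : U =>
      exists_local_lift_of_epi S.g U (freeSheafHomEquiv U _ g) x.1 x.2
    refine ⟨U, V, hV, ?_, fun x => ?_⟩
    · apply le_antisymm (iSup_le hV)
      intro x hx
      exact Opens.mem_iSup.2 ⟨⟨x, hx⟩, hxV ⟨x, hx⟩⟩
    · have hfac : freeSheafMap (homOfLE (hV x)) ≫ g =
          (freeSheafHomEquiv (V x) S.X₂).symm (s x) ≫ S.g := by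
        apply (freeSheafHomEquiv (V x) _).injective
        rw [freeSheafHomEquiv_naturality_left, freeSheafHomEquiv_naturality_right,
          Equiv.apply_symm_apply, hs x]
      rw [← hy, ← Ext.comp_assoc_of_second_deg_zero, Ext.mk₀_comp_mk₀, hfac,
        ← Ext.mk₀_comp_mk₀, Ext.comp_assoc_of_second_deg_zero,
        hS.comp_extClass, Ext.comp_zero]
  | succ n ih =>
    intro S hS _ U ξ
    have h1 : ξ.comp (Ext.mk₀ S.f) (add_zero (n + 1 + 1)) = 0 :=
      Ext.eq_zero_of_injective _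
    obtain ⟨y, hy⟩ := Ext.covariant_sequence_exact₁ _ hS ξ h1 rfl
    obtain ⟨ι, V, hV, hsup, hz⟩ := ih (injSeq S.X₃) (injSeq_shortExact S.X₃) U y
    refine ⟨ι, V, hV, hsup, fun i => ?_⟩
    have hz' : (Ext.mk₀ (freeSheafMap (homOfLE (hV i)))).comp y (zero_add (n + 1)) = 0 := hz i
    rw [← hy, ← Ext.comp_assoc (Ext.mk₀ (freeSheafMap (homOfLE (hV i)))) y
      hS.extClass (zero_add (n + 1)) rfl (by omega), hz', Ext.zero_comp]

/-- every higher cohomology class over an open vanishes on the members of some open cover -/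
theorem exists_cover_res_eq_zero (n : ℕ) (F : CohTop.Ab X) (U : Opens X)
    (ξ : Ext (freeSheaf U) F (n + 1)) :
    ∃ (ι : Type u) (V : ι → Opens X) (hV : ∀ i, V i ≤ U), iSup V = U ∧
      ∀ i, (Ext.mk₀ (freeSheafMap (homOfLE (hV i)))).comp ξ (zero_add (n + 1)) = 0 :=
  exists_cover_res_eq_zero_aux n (injSeq F) (injSeq_shortExact F) U ξ

end Groth.Agent.Lib.Helper53
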