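import Groth.Prelude.Def_CohTop
import Groth.Agent.Lib.Helper53.SheafExact
import Mathlib.CategoryTheory.Abelian.Injective.Ext

/-!
# Flasque sheaves are acyclic

Sheaves of abelian groups on a topological space: maps out of the free sheaf on an open are its
sections, injective sheaves are flasque, and flasque sheaves have no higher cohomology.
-/

universe u

open CategoryTheory TopologicalSpace Opposite CategoryTheory.Limits

namespace Groth.Agent.Lib.Helper53

variable {X : TopCat.{u}}

/-- the free abelian sheaf on an open -/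
noncomputable abbrev freeSheaf (U : Opens X) : CohTop.Ab X :=
  (presheafToSheaf (Opens.grothendieckTopology X) AddCommGrpCat.{u}).obj
    (yoneda.obj U ⋙ AddCommGrpCat.free)

/-- the map of free abelian sheaves induced by an inclusion of opens -/
noncomputable def freeSheafMap {U V : Opens X} (i : V ⟶ U) : freeSheaf V ⟶ freeSheaf U :=
  (presheafToSheaf (Opens.grothendieckTopology X) AddCommGrpCat.{u}).map
    (Functor.whiskerRight (yoneda.map i) AddCommGrpCat.free)

/-- maps out of the free sheaf on `U` are sections over `U` -/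
noncomputable def freeSheafHomEquiv (U : Opens X) (F : CohTop.Ab X) :
    (freeSheaf U ⟶ F) ≃ F.obj.obj (op U) :=
  ((sheafificationAdjunction (Opens.grothendieckTopology X) AddCommGrpCat.{u}).homEquiv
      (yoneda.obj U ⋙ AddCommGrpCat.free) F).trans <|
    ((AddCommGrpCat.adj.whiskerRight (Opens X)ᵒᵖ).homEquiv (yoneda.obj U) F.obj).trans
      yonedaEquiv

lemma freeSheafHomEquiv_naturality_right (U : Opens X) {F G : CohTop.Ab X} (φ : F ⟶ G)
    (f : freeSheaf U ⟶ F) :
    freeSheafHomEquiv U G (f ≫ φ) = φ.hom.app (op U) (freeSheafHomEquiv U F f) := by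
  simp only [freeSheafHomEquiv, Equiv.trans_apply]
  rw [Adjunction.homEquiv_naturality_right, Adjunction.homEquiv_naturality_right]
  simp
  rfl

lemma freeSheafHomEquiv_naturality_left {U V : Opens X} (i : V ⟶ U) (F : CohTop.Ab X)
    (f : freeSheaf U ⟶ F) :
    freeSheafHomEquiv V F (freeSheafMap i ≫ f) = F.obj.map i.op (freeSheafHomEquiv U F f) := by
  simp only [freeSheafHomEquiv, Equiv.trans_apply, freeSheafMap]
  rw [Adjunction.homEquiv_naturality_left]
  erw [Adjunction.homEquiv_naturality_left]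
  erw [← yonedaEquiv_naturality]
  rfl

instance mono_freeSheafMap {U V : Opens X} (i : V ⟶ U) : Mono (freeSheafMap i) := by
  have h1 : Mono (Functor.whiskerRight (yoneda.map i) AddCommGrpCat.free) := by
    have h2 : ∀ W, Mono ((Functor.whiskerRight (yoneda.map i) AddCommGrpCat.free).app W) := by
      intro W
      have h3 : Mono ((yoneda.map i).app W) := by
        rw [mono_iff_injective]
        intro a b _
        exact Subsingleton.elim (α := (unop W ⟶ V)) a b
      simp only [Functor.whiskerRight_app]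
      infer_instance
    exact NatTrans.mono_of_mono_app _
  unfold freeSheafMap
  infer_instance

/-- an injective abelian sheaf is flasque -/
theorem isFlasque_of_injective (F : CohTop.Ab X) [Injective F] : TopCat.Sheaf.IsFlasque F where
  epi {U V} i := by
    refine (AddCommGrpCat.epi_iff_surjective _).mpr (fun t => ?_)
    obtain ⟨g, hg⟩ : ∃ g : freeSheaf U.unop ⟶ F,
        freeSheafMap i.unop ≫ g = (freeSheafHomEquiv V.unop F).symm t :=
      ⟨Injective.factorThru _ (freeSheafMap i.unop), Injective.comp_factorThru _ _⟩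
    refine ⟨freeSheafHomEquiv U.unop F g, ?_⟩
    have := freeSheafHomEquiv_naturality_left i.unop F g
    rw [hg, Equiv.apply_symm_apply] at this
    exact this.symm

open Abelian in
/-- the short exact sequence `0 → F → I → I/F → 0` with `I` injective -/
noncomputable def injSeq (F : CohTop.Ab X) : ShortComplex (CohTop.Ab X) :=
  ShortComplex.mk (Injective.ι F) (cokernel.π (Injective.ι F)) (cokernel.condition _)

lemma injSeq_shortExact (F : CohTop.Ab X) : (injSeq F).ShortExact where
  exact := ShortComplex.exact_cokernel _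
  mono_f := by dsimp [injSeq]; infer_instance
  epi_g := by dsimp [injSeq]; infer_instance

instance (F : CohTop.Ab X) : Injective (injSeq F).X₂ := by
  dsimp [injSeq]; infer_instance

instance (F : CohTop.Ab X) [TopCat.Sheaf.IsFlasque F] : TopCat.Sheaf.IsFlasque (injSeq F).X₁ := by
  dsimp [injSeq]; infer_instance

instance (F : CohTop.Ab X) : TopCat.Sheaf.IsFlasque (injSeq F).X₂ :=
  isFlasque_of_injective _

instance (F : CohTop.Ab X) [TopCat.Sheaf.IsFlasque F] : TopCat.Sheaf.IsFlasque (injSeq F).X₃ :=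
  TopCat.Sheaf.IsFlasque.of_shortExact_of_isFlasque₁₂ (injSeq_shortExact F)

open Abelian in
/-- if maps out of `P` lift along epimorphisms with flasque kernel, then the higher `Ext` groups
from `P` to flasque sheaves vanish -/
theorem ext_succ_eq_zero_of_isFlasque (P : CohTop.Ab X)
    (hP : ∀ (S : ShortComplex (CohTop.Ab X)), S.ShortExact → TopCat.Sheaf.IsFlasque S.X₁ →
      ∀ g : P ⟶ S.X₃, ∃ f : P ⟶ S.X₂, f ≫ S.g = g)
    (n : ℕ) : ∀ (F : CohTop.Ab X) [TopCat.Sheaf.IsFlasque F] (x : Ext P F (n + 1)), x = 0 := by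
  induction n with
  | zero =>
    intro F _ x
    have h1 : x.comp (Ext.mk₀ (injSeq F).f) (add_zero 1) = 0 := Ext.eq_zero_of_injective _
    obtain ⟨y, hy⟩ := Ext.covariant_sequence_exact₁ P (injSeq_shortExact F) x h1 (zero_add 1)
    obtain ⟨g, rfl⟩ := (Ext.mk₀_bijective P (injSeq F).X₃).2 y
    obtain ⟨f, hf⟩ := hP (injSeq F) (injSeq_shortExact F) inferInstance g
    rw [← hy, ← hf, ← Ext.mk₀_comp_mk₀, Ext.comp_assoc_of_second_deg_zero,
      (injSeq_shortExact F).comp_extClass, Ext.comp_zero]
    rfl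
  | succ n ih =>
    intro F _ x
    have h1 : x.comp (Ext.mk₀ (injSeq F).f) (add_zero (n + 1 + 1)) = 0 :=
      Ext.eq_zero_of_injective _
    obtain ⟨y, hy⟩ := Ext.covariant_sequence_exact₁ P (injSeq_shortExact F) x h1 rfl
    rw [← hy, ih (injSeq F).X₃ y, Ext.zero_comp]
    rfl

/-- maps out of the free sheaf on an open lift along epimorphisms with flasque kernel -/
lemma freeSheaf_lift (U : Opens X) (S : ShortComplex (CohTop.Ab X)) (hS : S.ShortExact)
    (h1 : TopCat.Sheaf.IsFlasque S.X₁) (g : freeSheaf U ⟶ S.X₃) :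
    ∃ f : freeSheaf U ⟶ S.X₂, f ≫ S.g = g := by
  have hepi : Epi (S.g.hom.app (op U)) := TopCat.Sheaf.IsFlasque.epi_of_shortExact hS
  obtain ⟨s, hs⟩ := (AddCommGrpCat.epi_iff_surjective _).mp hepi (freeSheafHomEquiv U S.X₃ g)
  refine ⟨(freeSheafHomEquiv U S.X₂).symm s, ?_⟩
  apply (freeSheafHomEquiv U S.X₃).injective
  rw [freeSheafHomEquiv_naturality_right, Equiv.apply_symm_apply, hs]

open Abelian in
/-- flasque sheaves have no higher cohomology over any open -/
theorem ext_freeSheaf_succ_eq_zero (U : Opens X) (F : CohTop.Ab X) [TopCat.Sheaf.IsFlasque F]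
    (n : ℕ) (x : Ext (freeSheaf U) F (n + 1)) : x = 0 :=
  ext_succ_eq_zero_of_isFlasque (freeSheaf U) (freeSheaf_lift U) n F x

/-- flasque sheaves have no higher cohomology over any open -/
theorem subsingleton_HU_succ (F : CohTop.Ab X) [TopCat.Sheaf.IsFlasque F] (U : Opens X) (n : ℕ) :
    Subsingleton (CohTop.HU F (n + 1) U) :=
  subsingleton_of_forall_eq 0 fun x => ext_freeSheaf_succ_eq_zero U F n x

open Abelian in
/-- maps out of the constant sheaf `ℤ` lift along epimorphisms with flasque kernel -/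
lemma constantSheaf_lift (S : ShortComplex (CohTop.Ab X)) (hS : S.ShortExact)
    (h1 : TopCat.Sheaf.IsFlasque S.X₁)
    (g : (constantSheaf (Opens.grothendieckTopology X) AddCommGrpCat.{u}).obj
      (AddCommGrpCat.of (ULift ℤ)) ⟶ S.X₃) :
    ∃ f : (constantSheaf (Opens.grothendieckTopology X) AddCommGrpCat.{u}).obj
      (AddCommGrpCat.of (ULift ℤ)) ⟶ S.X₂, f ≫ S.g = g := by
  have hT : IsTerminal (⊤ : Opens X) := isTerminalTop
  have hepi : Epi (S.g.hom.app (op (⊤ : Opens X))) :=
    TopCat.Sheaf.IsFlasque.epi_of_shortExact hS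
  obtain ⟨s, hs⟩ := (AddCommGrpCat.epi_iff_surjective _).mp hepi
    (Sheaf.H.equiv₀ S.X₃ hT (Ext.mk₀ g))
  obtain ⟨f, hf⟩ := (Ext.mk₀_bijective _ S.X₂).2 ((Sheaf.H.equiv₀ S.X₂ hT).symm s)
  refine ⟨f, ?_⟩
  apply (Ext.mk₀_bijective _ S.X₃).1
  apply (Sheaf.H.equiv₀ S.X₃ hT).injective
  rw [← hs, ← Ext.mk₀_comp_mk₀, hf]
  have := Sheaf.H.equiv₀_naturality (F := S.X₂) (G := S.X₃) hT S.g
    ((Sheaf.H.equiv₀ S.X₂ hT).symm s)
  rw [AddEquiv.apply_symm_apply] at this
  rw [this]
  rfl

/-- flasque sheaves have no higher cohomology -/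
theorem subsingleton_H_succ (F : CohTop.Ab X) [TopCat.Sheaf.IsFlasque F] (n : ℕ) :
    Subsingleton (CohTop.H F (n + 1)) :=
  subsingleton_of_forall_eq 0 fun x =>
    ext_succ_eq_zero_of_isFlasque _ constantSheaf_lift n F x

lemma freeSheafHomEquiv_zero (U : Opens X) (F : CohTop.Ab X) :
    freeSheafHomEquiv U F 0 = 0 := by
  have h := freeSheafHomEquiv_naturality_right U (0 : F ⟶ F) (0 : freeSheaf U ⟶ F)
  rw [comp_zero] at h
  rw [h]
  rfl

open Abelian in
/-- sections of an injective resolution of a flasque sheaf form an exact complex in positive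
degrees -/
lemma sections_injectiveResolution_exact (F : CohTop.Ab X) [TopCat.Sheaf.IsFlasque F]
    (I : InjectiveResolution F) (W : Opens X) (q : ℕ)
    (s : (I.cocomplex.X (q + 1)).obj.obj (op W))
    (hs : (I.cocomplex.d (q + 1) (q + 2)).hom.app (op W) s = 0) :
    ∃ t : (I.cocomplex.X q).obj.obj (op W), (I.cocomplex.d q (q + 1)).hom.app (op W) t = s := by
  have hσ : (freeSheafHomEquiv W (I.cocomplex.X (q + 1))).symm s ≫ I.cocomplex.d (q + 1) (q + 2) =
      0 := by
    apply (freeSheafHomEquiv W _).injective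
    rw [freeSheafHomEquiv_naturality_right, Equiv.apply_symm_apply, hs, freeSheafHomEquiv_zero]
  have h0 := ext_freeSheaf_succ_eq_zero W F q (I.extMk _ (q + 2) rfl hσ)
  rw [I.extMk_eq_zero_iff _ (q + 2) rfl hσ q rfl] at h0
  obtain ⟨g, hg⟩ := h0
  refine ⟨freeSheafHomEquiv W _ g, ?_⟩
  rw [← freeSheafHomEquiv_naturality_right, hg, Equiv.apply_symm_apply]

/-- the higher direct images of a flasque sheaf vanish -/
theorem isZero_Rpush_succ {Y : TopCat.{u}} (f : X ⟶ Y) (F : CohTop.Ab X)
    [TopCat.Sheaf.IsFlasque F] (q : ℕ) : IsZero ((CohTop.Rpush f (q + 1)).obj F) := by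
  let I : InjectiveResolution F := Classical.choice (HasInjectiveResolution.out)
  refine IsZero.of_iso ?_ (I.isoRightDerivedObj (CohTop.push f) (q + 1))
  change IsZero ((((CohTop.push f).mapHomologicalComplex _).obj I.cocomplex).homology (q + 1))
  rw [← HomologicalComplex.exactAt_iff_isZero_homology,
    HomologicalComplex.exactAt_iff' _ q (q + 1) (q + 2) (by simp) (by simp)]
  apply exact_of_sections_exact
  intro V s hs
  exact sections_injectiveResolution_exact F I ((Opens.map f).obj V) q s hs

end Groth.Agent.Lib.Helper53
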