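import Mathlib.Algebra.Homology.DerivedCategory.Ext.ExactSequences
import Mathlib.Algebra.Homology.DerivedCategory.Ext.EnoughInjectives
import Mathlib.GroupTheory.QuotientGroup.Basic

/-!
# Comparing `Ext` groups along an exact functor

Dimension shifting for `Ext` along a short exact sequence whose middle term is acyclic, and a
comparison theorem: an exact functor `Φ` with a natural identification
`Hom(P, G) ≃ Hom(P', Φ G)` sending injectives to `P'`-acyclic objects identifies
`Ext^n(P, F)` with `Ext^n(P', Φ F)`.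
-/

universe w w' v v' u u'

open CategoryTheory Abelian CategoryTheory.Limits

namespace Groth.Agent.Lib.Helper53.ExtCompare

section Shift

variable {C : Type u} [Category.{v} C] [Abelian C] [HasExt.{w} C]
  {S : ShortComplex C} (hS : S.ShortExact) (P : C)
  (h₂ : ∀ (n : ℕ) (x : Ext P S.X₂ (n + 1)), x = 0)

include h₂ in
lemma extClass_postcomp_bijective (n : ℕ) :
    Function.Bijective (hS.extClass.postcomp P (rfl : n + 1 + 1 = n + 2)) := by
  constructor
  · rw [injective_iff_map_eq_zero]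
    intro x hx
    obtain ⟨x₂, hx₂⟩ := Ext.covariant_sequence_exact₃ P hS x rfl hx
    rw [← hx₂, h₂ n x₂, Ext.zero_comp]
  · intro x₁
    exact Ext.covariant_sequence_exact₁ P hS x₁ (h₂ _ _) rfl

/-- dimension shifting: `Ext^{n+1}(P, X₃) ≃ Ext^{n+2}(P, X₁)` -/
noncomputable def extShiftEquiv (n : ℕ) : Ext P S.X₃ (n + 1) ≃+ Ext P S.X₁ (n + 2) :=
  AddEquiv.ofBijective (hS.extClass.postcomp P (rfl : n + 1 + 1 = n + 2))
    (extClass_postcomp_bijective hS P h₂ n)

include h₂ in
lemma extClass_postcomp_zero_surjective :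
    Function.Surjective (hS.extClass.postcomp P (zero_add 1)) := by
  intro x₁
  exact Ext.covariant_sequence_exact₁ P hS x₁ (h₂ _ _) (zero_add 1)

lemma extClass_postcomp_zero_ker :
    (hS.extClass.postcomp P (zero_add 1)).ker =
      ((Ext.mk₀ S.g).postcomp P (add_zero 0)).range := by
  ext x
  rw [AddMonoidHom.mem_ker, AddMonoidHom.mem_range]
  constructor
  · intro hx
    exact Ext.covariant_sequence_exact₃ P hS x (zero_add 1) hx
  · rintro ⟨x₂, rfl⟩
    change (x₂.comp (Ext.mk₀ S.g) (add_zero 0)).comp hS.extClass (zero_add 1) = 0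
    rw [Ext.comp_assoc_of_second_deg_zero, hS.comp_extClass, Ext.comp_zero]

/-- `Ext^1(P, X₁)` is the cokernel of `Hom(P, X₂) → Hom(P, X₃)` -/
noncomputable def extOneEquiv :
    (Ext P S.X₃ 0 ⧸ ((Ext.mk₀ S.g).postcomp P (add_zero 0)).range) ≃+ Ext P S.X₁ 1 :=
  (QuotientAddGroup.quotientAddEquivOfEq (extClass_postcomp_zero_ker hS P).symm).trans
    (QuotientAddGroup.quotientKerEquivOfSurjective _
      (extClass_postcomp_zero_surjective hS P h₂))

end Shift

section Compare

variable {A : Type u} [Category.{v} A] [Abelian A] [HasExt.{w} A] [EnoughInjectives A]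
  {B : Type u'} [Category.{v'} B] [Abelian B] [HasExt.{w'} B]
  (Φ : A ⥤ B) [Φ.Additive] [PreservesFiniteLimits Φ] [PreservesFiniteColimits Φ]
  (P : A) (P' : B)
  (θ : ∀ G : A, Ext P G 0 ≃+ Ext P' (Φ.obj G) 0)
  (hθ : ∀ {G G' : A} (φ : G ⟶ G') (x : Ext P G 0),
    θ G' (x.comp (Ext.mk₀ φ) (add_zero 0)) = (θ G x).comp (Ext.mk₀ (Φ.map φ)) (add_zero 0))
  (hacyc : ∀ (I : A) [Injective I] (n : ℕ) (x : Ext P' (Φ.obj I) (n + 1)), x = 0)

/-- the short exact sequence `0 → F → I → I/F → 0` with `I` injective -/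
noncomputable def injSeq (F : A) : ShortComplex A :=
  ShortComplex.mk (Injective.ι F) (cokernel.π (Injective.ι F)) (cokernel.condition _)

lemma injSeq_shortExact (F : A) : (injSeq F).ShortExact where
  exact := ShortComplex.exact_cokernel _
  mono_f := by dsimp [injSeq]; infer_instance
  epi_g := by dsimp [injSeq]; infer_instance

instance (F : A) : Injective (injSeq F).X₂ := by
  dsimp [injSeq]; infer_instance

include hθ hacyc in
theorem nonempty_ext_one_equiv (F : A) :
    Nonempty (Ext P F 1 ≃+ Ext P' (Φ.obj F) 1) := by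
  have hS := injSeq_shortExact F
  have hS' : ((injSeq F).map Φ).ShortExact := hS.map_of_exact Φ
  have h₂ : ∀ (n : ℕ) (x : Ext P (injSeq F).X₂ (n + 1)), x = 0 :=
    fun n x => Ext.eq_zero_of_injective x
  have h₂' : ∀ (n : ℕ) (x : Ext P' ((injSeq F).map Φ).X₂ (n + 1)), x = 0 :=
    fun n x => hacyc (injSeq F).X₂ n x
  let e₃ : Ext P (injSeq F).X₃ 0 ≃+ Ext P' ((injSeq F).map Φ).X₃ 0 := θ (injSeq F).X₃
  have he : AddSubgroup.map (e₃ : Ext P (injSeq F).X₃ 0 →+ Ext P' ((injSeq F).map Φ).X₃ 0)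
      ((Ext.mk₀ (injSeq F).g).postcomp P (add_zero 0)).range =
      ((Ext.mk₀ ((injSeq F).map Φ).g).postcomp P' (add_zero 0)).range := by
    ext y
    constructor
    · rintro ⟨_, ⟨x₂, rfl⟩, rfl⟩
      exact ⟨θ (injSeq F).X₂ x₂, (hθ (injSeq F).g x₂).symm⟩
    · rintro ⟨x₂', rfl⟩
      refine ⟨_, ⟨(θ (injSeq F).X₂).symm x₂', rfl⟩, ?_⟩
      have := hθ (injSeq F).g ((θ (injSeq F).X₂).symm x₂')
      rw [AddEquiv.apply_symm_apply] at this
      exact this
  exact ⟨((extOneEquiv hS P h₂).symm.trans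
    (QuotientAddGroup.congr _ _ e₃ he)).trans (extOneEquiv hS' P' h₂')⟩

include hθ hacyc in
theorem nonempty_ext_succ_equiv : ∀ (p : ℕ) (F : A),
    Nonempty (Ext P F (p + 1) ≃+ Ext P' (Φ.obj F) (p + 1))
  | 0, F => nonempty_ext_one_equiv Φ P P' θ hθ hacyc F
  | p + 1, F => by
    obtain ⟨e⟩ := nonempty_ext_succ_equiv p (injSeq F).X₃
    have hS := injSeq_shortExact F
    have hS' : ((injSeq F).map Φ).ShortExact := hS.map_of_exact Φ
    have h₂ : ∀ (n : ℕ) (x : Ext P (injSeq F).X₂ (n + 1)), x = 0 :=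
      fun n x => Ext.eq_zero_of_injective x
    have h₂' : ∀ (n : ℕ) (x : Ext P' ((injSeq F).map Φ).X₂ (n + 1)), x = 0 :=
      fun n x => hacyc (injSeq F).X₂ n x
    exact ⟨((extShiftEquiv hS P h₂ p).symm.trans e).trans (extShiftEquiv hS' P' h₂' p)⟩

include hθ hacyc in
/-- the comparison theorem -/
theorem nonempty_ext_equiv (p : ℕ) (F : A) :
    Nonempty (Ext P F p ≃+ Ext P' (Φ.obj F) p) := by
  cases p with
  | zero => exact ⟨θ F⟩
  | succ p => exact nonempty_ext_succ_equiv Φ P P' θ hθ hacyc p F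

end Compare

end Groth.Agent.Lib.Helper53.ExtCompare
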