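import Mathlib

universe w w' v u v' u'

open CategoryTheory Abelian Limits

namespace Groth.Agent.Lib.Helper53.ExtRes

section

variable {C : Type u} [Category.{v} C] [Abelian C]
  {Y : C} (R : InjectiveResolution Y) (P : C)

/-- cocycles of degree `n` in `Hom(P, R^•)` -/
def Z (n : ℕ) : AddSubgroup (P ⟶ R.cocomplex.X n) :=
  (Preadditive.rightComp P (R.cocomplex.d n (n + 1))).ker

lemma mem_Z {n : ℕ} (g : P ⟶ R.cocomplex.X n) : g ∈ Z R P n ↔ g ≫ R.cocomplex.d n (n + 1) = 0 :=
  Iff.rfl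

variable [HasExt.{w} C]

/-- the class of a cocycle -/
noncomputable def cls (n : ℕ) : Z R P n →+ Ext P Y n where
  toFun z := R.extMk z.1 (n + 1) rfl z.2
  map_zero' := R.extMk_zero (n + 1) rfl
  map_add' a b := (R.add_extMk a.1 b.1 (n + 1) rfl a.2 b.2).symm

lemma cls_surjective (n : ℕ) : Function.Surjective (cls R P n) := by
  intro α
  obtain ⟨g, hg, rfl⟩ := R.extMk_surjective α (n + 1) rfl
  exact ⟨⟨g, hg⟩, rfl⟩

lemma cls_eq_zero_iff (n : ℕ) (z : Z R P (n + 1)) :
    cls R P (n + 1) z = 0 ↔ ∃ g : P ⟶ R.cocomplex.X n, g ≫ R.cocomplex.d n (n + 1) = z.1 :=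
  R.extMk_eq_zero_iff z.1 (n + 1 + 1) rfl z.2 n rfl

end

section

variable {C : Type u} [Category.{v} C] [Abelian C]
  {D : Type u'} [Category.{v'} D] [Abelian D]
  {Y : C} (R : InjectiveResolution Y) (P : C)
  {Y' : D} (R' : InjectiveResolution Y') (P' : D)
  (e : ∀ n, (P ⟶ R.cocomplex.X n) ≃+ (P' ⟶ R'.cocomplex.X n))
  (he : ∀ n (g : P ⟶ R.cocomplex.X n),
    e (n + 1) (g ≫ R.cocomplex.d n (n + 1)) = e n g ≫ R'.cocomplex.d n (n + 1))

include he in
lemma symm_comp_d (n : ℕ) (g' : P' ⟶ R'.cocomplex.X n) :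
    (e (n + 1)).symm (g' ≫ R'.cocomplex.d n (n + 1)) = (e n).symm g' ≫ R.cocomplex.d n (n + 1) := by
  apply (e (n + 1)).injective
  rw [he, AddEquiv.apply_symm_apply, AddEquiv.apply_symm_apply]

/-- the induced equivalence on cocycles -/
noncomputable def ZEquiv (n : ℕ) : Z R P n ≃+ Z R' P' n where
  toFun z := ⟨e n z.1, by rw [mem_Z, ← he, (mem_Z R P z.1).1 z.2, map_zero]⟩
  invFun z := ⟨(e n).symm z.1, by
    rw [mem_Z, ← symm_comp_d R P R' P' e he, (mem_Z R' P' z.1).1 z.2, map_zero]⟩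
  left_inv z := by ext; simp
  right_inv z := by ext; simp
  map_add' a b := by ext; simp

variable [HasExt.{w} C] [HasExt.{w'} D]

include he in
/-- comparison of `Ext^{n+1}` computed through injective resolutions -/
theorem nonempty_ext_succ_equiv (n : ℕ) : Nonempty (Ext P Y (n + 1) ≃+ Ext P' Y' (n + 1)) := by
  let π := cls R P (n + 1)
  let π' := cls R' P' (n + 1)
  let eZ := ZEquiv R P R' P' e he (n + 1)
  have hker : AddSubgroup.map (eZ : _ →+ _) π.ker = π'.ker := by
    ext z'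
    simp only [AddSubgroup.mem_map, AddMonoidHom.mem_ker]
    constructor
    · rintro ⟨z, hz, rfl⟩
      obtain ⟨g, hg⟩ := (cls_eq_zero_iff R P n z).1 hz
      exact (cls_eq_zero_iff R' P' n _).2 ⟨e n g, by rw [← he, hg]; rfl⟩
    · intro hz'
      obtain ⟨g', hg'⟩ := (cls_eq_zero_iff R' P' n z').1 hz'
      refine ⟨eZ.symm z', (cls_eq_zero_iff R P n _).2 ⟨(e n).symm g', ?_⟩,
        eZ.apply_symm_apply z'⟩
      rw [← symm_comp_d R P R' P' e he, hg']
      rfl
  exact ⟨((QuotientAddGroup.quotientKerEquivOfSurjective π (cls_surjective R P (n + 1))).symm.trans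
    (QuotientAddGroup.congr π.ker π'.ker eZ hker)).trans
    (QuotientAddGroup.quotientKerEquivOfSurjective π' (cls_surjective R' P' (n + 1)))⟩

end


section

variable {C : Type u} [Category.{v} C] [Abelian C]
  {D : Type u'} [Category.{v'} D] [Abelian D]
  (Φ : C ⥤ D) [Φ.Additive] 

/-- the augmentation `Y ⟶ R^0` -/
def aug {Y : C} (R : InjectiveResolution Y) : Y ⟶ R.cocomplex.X 0 := R.ι.f 0

lemma aug_d {Y : C} (R : InjectiveResolution Y) : aug R ≫ R.cocomplex.d 0 1 = 0 :=
  R.ι_f_zero_comp_complex_d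

lemma map_aug_d {Y : C} (R : InjectiveResolution Y) :
    Φ.map (aug R) ≫ Φ.map (R.cocomplex.d 0 1) = 0 := by
  rw [← Φ.map_comp, aug_d, Φ.map_zero]

variable [HasInjectiveResolutions C] [PreservesFiniteLimits Φ]

set_option backward.isDefEq.respectTransparency false in
/-- the image of an injective resolution of a `Φ`-acyclic object under a left exact functor `Φ`
preserving the injectivity of the terms is an injective resolution -/
noncomputable def mapRes {Y : C} (R : InjectiveResolution Y)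
    (hinj : ∀ n, Injective (Φ.obj (R.cocomplex.X n)))
    (hacyc : ∀ n, IsZero ((Φ.rightDerived (n + 1)).obj Y)) : InjectiveResolution (Φ.obj Y) where
  cocomplex := (Φ.mapHomologicalComplex _).obj R.cocomplex
  injective n := hinj n
  ι := (CochainComplex.fromSingle₀Equiv _ _).symm ⟨Φ.map (aug R), map_aug_d Φ R⟩
  quasiIso := ⟨fun n => by
    cases n with
    | zero =>
      rw [CochainComplex.quasiIsoAt₀_iff, ShortComplex.quasiIso_iff_of_zeros]
      · refine (ShortComplex.exact_and_mono_f_iff_of_iso ?_).2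
          ((ShortComplex.exact_and_mono_f_iff_f_is_kernel
          (ShortComplex.mk (Φ.map (aug R)) (Φ.map (R.cocomplex.d 0 1)) (map_aug_d Φ R))).2
          ⟨KernelFork.mapIsLimit _ R.isLimitKernelFork Φ⟩)
        exact ShortComplex.isoMk (Iso.refl _) (Iso.refl _) (Iso.refl _) (by simp) (by simp)
      · rfl
      · rfl
      · show Φ.map (R.cocomplex.d 0 0) = 0
        rw [R.cocomplex.shape 0 0 (by simp), Φ.map_zero]
    | succ n =>
      rw [quasiIsoAt_iff_exactAt]
      · rw [HomologicalComplex.exactAt_iff_isZero_homology]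
        exact (hacyc n).of_iso (R.isoRightDerivedObj Φ (n + 1)).symm
      · apply CochainComplex.exactAt_succ_single_obj⟩

end


section

variable {C : Type u} [Category.{v} C] [Abelian C] [HasInjectiveResolutions C] [HasExt.{w} C]
  {D : Type u'} [Category.{v'} D] [Abelian D] [HasExt.{w'} D]
  (Φ : C ⥤ D) [Φ.Additive] [PreservesFiniteLimits Φ]

/-- **Degenerate Grothendieck spectral sequence, acyclic object**: if `Φ` is left exact, preserves
injectives, `Hom(P, -) ≃ Hom(P', Φ -)` naturally and `Y` is `Φ`-acyclic, then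
`Ext^n(P, Y) ≃ Ext^n(P', Φ Y)`. -/
theorem nonempty_ext_equiv_of_acyclic
    (hinj : ∀ I : C, Injective I → Injective (Φ.obj I))
    (P : C) (P' : D) (θ : ∀ G : C, (P ⟶ G) ≃+ (P' ⟶ Φ.obj G))
    (hθ : ∀ {G G' : C} (φ : G ⟶ G') (g : P ⟶ G), θ G' (g ≫ φ) = θ G g ≫ Φ.map φ)
    (Y : C) (hacyc : ∀ n, IsZero ((Φ.rightDerived (n + 1)).obj Y)) (n : ℕ) :
    Nonempty (Ext.{w} P Y n ≃+ Ext.{w'} P' (Φ.obj Y) n) := by
  cases n with
  | zero => exact ⟨Ext.addEquiv₀.trans ((θ Y).trans Ext.addEquiv₀.symm)⟩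
  | succ n =>
    let R := injectiveResolution Y
    let R' := mapRes Φ R (fun n => hinj _ (R.injective n)) hacyc
    exact nonempty_ext_succ_equiv R P R' P' (fun n => θ (R.cocomplex.X n))
      (fun n g => hθ (R.cocomplex.d n (n + 1)) g) n

end

end Groth.Agent.Lib.Helper53.ExtRes
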