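import Groth.Agent.Lib.Helper53.SiteCoh
import Groth.Prelude.Def_CohSite

/-!
# Higher direct images as sheafified cohomology presheaves

For a continuous functor `u : D ⥤ C` of small sites, `R^i u_* F` is the sheafification of
`V ↦ H^i(u V, F)`.
-/

universe u

open CategoryTheory Opposite Limits Abelian

namespace Groth.Agent.Lib.Helper53.SiteCoh

section

variable {𝒜 ℬ : Type*} [Category 𝒜] [Category ℬ] [Abelian 𝒜] [Abelian ℬ]
  (G : 𝒜 ⥤ ℬ) [G.Additive] [PreservesFiniteLimits G] [PreservesFiniteColimits G]

/-- an exact functor commutes with the homology of a complex -/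
noncomputable def mapHomologyIsoOfExact {ι : Type*} {c : ComplexShape ι}
    (K : HomologicalComplex 𝒜 c) (i : ι) :
    ((G.mapHomologicalComplex c).obj K).homology i ≅ G.obj (K.homology i) :=
  (K.sc i).mapHomologyIso G

end

section

variable {D : Type u} [SmallCategory D] (K : GrothendieckTopology D)

/-- a sheaf is the sheafification of its underlying presheaf -/
noncomputable def counitIso (P : Sheaf K AddCommGrpCat.{u}) :
    (presheafToSheaf K AddCommGrpCat.{u}).obj ((sheafToPresheaf K AddCommGrpCat.{u}).obj P) ≅ P :=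
  asIso ((sheafificationAdjunction K AddCommGrpCat.{u}).counit.app P)

/-- a complex of sheaves is the sheafification of its underlying complex of presheaves -/
noncomputable def sheafifyCxIso {ι : Type*} {c : ComplexShape ι}
    (Kx : HomologicalComplex (Sheaf K AddCommGrpCat.{u}) c) :
    ((presheafToSheaf K AddCommGrpCat.{u}).mapHomologicalComplex c).obj
      (((sheafToPresheaf K AddCommGrpCat.{u}).mapHomologicalComplex c).obj Kx) ≅ Kx :=
  HomologicalComplex.Hom.isoOfComponents
    (fun n => counitIso K (Kx.X n))
    (fun i j _ => ((sheafificationAdjunction K AddCommGrpCat.{u}).counit.naturality (Kx.d i j)).symm)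

/-- the homology of a complex of sheaves is the sheafification of the homology of the underlying
complex of presheaves -/
noncomputable def homologySheafifyIso {ι : Type*} {c : ComplexShape ι}
    (Kx : HomologicalComplex (Sheaf K AddCommGrpCat.{u}) c) (i : ι) :
    Kx.homology i ≅ (presheafToSheaf K AddCommGrpCat.{u}).obj
      ((((sheafToPresheaf K AddCommGrpCat.{u}).mapHomologicalComplex c).obj Kx).homology i) :=
  ((HomologicalComplex.homologyFunctor _ c i).mapIso (sheafifyCxIso K Kx)).symm ≪≫
    mapHomologyIsoOfExact (presheafToSheaf K AddCommGrpCat.{u}) _ i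

end

section

variable {C D : Type u} [SmallCategory C] [SmallCategory D]
  (J : GrothendieckTopology C) (K : GrothendieckTopology D) (u : D ⥤ C) [u.IsContinuous K J]
  (F : Sheaf J AddCommGrpCat.{u}) (i : ℕ)

/-- `R^i u_* F` is the sheafification of `V ↦ H^i(u V, F)` -/
theorem nonempty_Rpush_iso :
    Nonempty ((CohSite.Rpush J K u i).obj F ≅
      (presheafToSheaf K AddCommGrpCat.{u}).obj (u.op ⋙ F.cohomologyPresheaf i)) := by
  let I := injectiveResolution F
  let push := CohSite.push J K u
  let Kx := (push.mapHomologicalComplex _).obj I.cocomplex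
  let e1 : (CohSite.Rpush J K u i).obj F ≅ Kx.homology i := I.isoRightDerivedObj push i
  let e2 := homologySheafifyIso K Kx i
  let L := ((sheafToPresheaf J AddCommGrpCat.{u}).mapHomologicalComplex _).obj I.cocomplex
  let ustar := (Functor.whiskeringLeft Dᵒᵖ Cᵒᵖ AddCommGrpCat.{u}).obj u.op
  let e3 : (((sheafToPresheaf K AddCommGrpCat.{u}).mapHomologicalComplex _).obj Kx).homology i ≅
      ustar.obj (L.homology i) := mapHomologyIsoOfExact ustar L i
  let e4 : L.homology i ≅ ((sheafToPresheaf J AddCommGrpCat.{u}).rightDerived i).obj F :=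
    (I.isoRightDerivedObj (sheafToPresheaf J AddCommGrpCat.{u}) i).symm
  obtain ⟨e5⟩ := nonempty_rightDerived_sheafToPresheaf_iso J F i
  exact ⟨e1 ≪≫ e2 ≪≫ (presheafToSheaf K AddCommGrpCat.{u}).mapIso
    (e3 ≪≫ ustar.mapIso (e4 ≪≫ e5))⟩

end

end Groth.Agent.Lib.Helper53.SiteCoh
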