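import Groth.Agent.Lib.Helper28.TotAcyc
import Groth.Agent.Lib.Helper53.SitePush
import Groth.Agent.Lib.Helper53.ExtRes
import Mathlib.CategoryTheory.Sites.Pullback

/-!
# Direct images of totally acyclic abelian sheaves (helper53)
-/

set_option autoImplicit false
universe w v u v' u'
open CategoryTheory Limits Opposite Abelian
open Groth.Agent.Lib.Helper28

namespace Groth.Agent.Lib.Helper53.TotPush

section Nat

variable {A : Type u} [Category.{v} A] [Preadditive A] {B : Type u'} [Category.{v'} B]
  [Preadditive B] (Φ : A ⥤ B) [Φ.Additive] (P : A) (P' : B)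
  (θ : ∀ G : A, (P ⟶ G) ≃ (P' ⟶ Φ.obj G))
  (hθ : ∀ {G G' : A} (φ : G ⟶ G') (g : P ⟶ G), θ G' (g ≫ φ) = θ G g ≫ Φ.map φ)

include hθ in
lemma nat_eq (G : A) (g : P ⟶ G) : θ G g = θ P (𝟙 P) ≫ Φ.map g := by
  rw [← hθ, Category.id_comp]

/-- a natural family of bijections `Hom(P, G) ≃ Hom(P', Φ G)` is additive -/
def addEquivOfNatural (G : A) : (P ⟶ G) ≃+ (P' ⟶ Φ.obj G) where
  toEquiv := θ G
  map_add' g g' := by
    change θ G (g + g') = θ G g + θ G g'
    rw [nat_eq Φ P P' θ hθ, nat_eq Φ P P' θ hθ G g, nat_eq Φ P P' θ hθ G g', Φ.map_add,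
      Preadditive.comp_add]

end Nat

variable {C D : Type u} [SmallCategory C] [SmallCategory D]
  (J : GrothendieckTopology C) (K : GrothendieckTopology D) (u : D ⥤ C) [u.IsContinuous K J]

/-- pushforward of sheaves of sets -/
noncomputable abbrev pushSet : Sheaf J (Type u) ⥤ Sheaf K (Type u) :=
  u.sheafPushforwardContinuous (Type u) K J

/-- pullback of sheaves of sets -/
noncomputable abbrev pullSet : Sheaf K (Type u) ⥤ Sheaf J (Type u) :=
  u.sheafPullback (Type u) K J

/-- `Hom(ℤ[u⁻¹L], G) ≃ Hom(ℤ[L], u_* G)` -/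
noncomputable def theta₀ (L : Sheaf K (Type u)) (G : Sheaf J AddCommGrpCat.{u}) :
    ((TotAcyc.G J).obj ((pullSet J K u).obj L) ⟶ G) ≃
      ((TotAcyc.G K).obj L ⟶ (CohSite.push J K u).obj G) :=
  ((TotAcyc.adjG J).homEquiv _ G).trans
    (((u.sheafAdjunctionContinuous (Type u) K J).homEquiv L ((TotAcyc.Uf J).obj G)).trans
      ((TotAcyc.adjG K).homEquiv L ((CohSite.push J K u).obj G)).symm)

lemma theta₀_naturality (L : Sheaf K (Type u)) {G G' : Sheaf J AddCommGrpCat.{u}} (φ : G ⟶ G')
    (g : (TotAcyc.G J).obj ((pullSet J K u).obj L) ⟶ G) :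
    theta₀ J K u L G' (g ≫ φ) = theta₀ J K u L G g ≫ (CohSite.push J K u).map φ := by
  unfold theta₀
  simp only [Equiv.trans_apply]
  rw [(TotAcyc.adjG J).homEquiv_naturality_right,
    (u.sheafAdjunctionContinuous (Type u) K J).homEquiv_naturality_right]
  exact (TotAcyc.adjG K).homEquiv_naturality_right_symm _ ((CohSite.push J K u).map φ)

/-- the additive version of `theta₀` -/
noncomputable def theta (L : Sheaf K (Type u)) (G : Sheaf J AddCommGrpCat.{u}) :
    ((TotAcyc.G J).obj ((pullSet J K u).obj L) ⟶ G) ≃+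
      ((TotAcyc.G K).obj L ⟶ (CohSite.push J K u).obj G) :=
  addEquivOfNatural (CohSite.push J K u) _ _ (theta₀ J K u L)
    (fun φ g => theta₀_naturality J K u L φ g) G

/-- If `u_*` preserves injectives and `F` is totally acyclic and `u_*`-acyclic, then `u_* F` is
totally acyclic. -/
theorem isTotallyAcyclic_push [PreservesFiniteLimits (CohSite.push J K u)]
    (hinj : ∀ I : Sheaf J AddCommGrpCat.{u}, Injective I → Injective ((CohSite.push J K u).obj I))
    (F : Sheaf J AddCommGrpCat.{u}) (hF : CohCx.IsTotallyAcyclic F)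
    (hacyc : ∀ n, IsZero (((CohSite.push J K u).rightDerived (n + 1)).obj F)) :
    CohCx.IsTotallyAcyclic ((CohSite.push J K u).obj F) := by
  intro L p
  obtain ⟨e⟩ := ExtRes.nonempty_ext_equiv_of_acyclic (CohSite.push J K u) hinj
    ((TotAcyc.G J).obj ((pullSet J K u).obj L)) ((TotAcyc.G K).obj L) (theta J K u L)
    (fun φ g => theta₀_naturality J K u L φ g) F hacyc (p + 1)
  haveI : Subsingleton (Ext.{u} ((TotAcyc.G J).obj ((pullSet J K u).obj L)) F (p + 1)) :=
    hF ((pullSet J K u).obj L) p
  exact e.symm.toEquiv.subsingleton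


section Flat

variable [HasFiniteLimits D] [PreservesFiniteLimits u]

omit [u.IsContinuous K J] in
lemma lan_preservesFiniteLimits :
    PreservesFiniteLimits (u.op.lan : (Dᵒᵖ ⥤ AddCommGrpCat.{u}) ⥤ (Cᵒᵖ ⥤ AddCommGrpCat.{u})) :=
  lan_preservesFiniteLimits_of_preservesFiniteLimits AddCommGrpCat.{u} u

omit [u.IsContinuous K J] in
/-- the pullback of abelian sheaves along a morphism of sites is left exact -/
lemma preservesFiniteLimits_sheafPullback :
    PreservesFiniteLimits
      (Functor.sheafPullbackConstruction.sheafPullback u AddCommGrpCat.{u} K J) := by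
  have := lan_preservesFiniteLimits u
  have h1 : PreservesFiniteLimits (u.op.lan ⋙ presheafToSheaf J AddCommGrpCat.{u}) :=
    comp_preservesFiniteLimits _ _
  exact comp_preservesFiniteLimits (sheafToPresheaf K AddCommGrpCat.{u})
    (u.op.lan ⋙ presheafToSheaf J AddCommGrpCat.{u})

/-- the direct image along a morphism of sites preserves injectives -/
lemma injective_push (I : Sheaf J AddCommGrpCat.{u}) [Injective I] :
    Injective ((CohSite.push J K u).obj I) := by
  have := preservesFiniteLimits_sheafPullback J K u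
  exact Injective.injective_of_adjoint
    (Functor.sheafPullbackConstruction.sheafAdjunctionContinuous u AddCommGrpCat.{u} K J) I

end Flat

lemma push_preservesFiniteLimits : PreservesFiniteLimits (CohSite.push J K u) := by
  have : (CohSite.push J K u).IsRightAdjoint := inferInstance
  have := (Adjunction.ofIsRightAdjoint (CohSite.push J K u)).rightAdjoint_preservesLimits
  infer_instance

/-- the direct image of a totally acyclic sheaf along a morphism of sites is totally acyclic -/
theorem isTotallyAcyclic_push_of_flat [HasFiniteLimits D] [PreservesFiniteLimits u]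
    (F : Sheaf J AddCommGrpCat.{u}) (hF : CohCx.IsTotallyAcyclic F)
    (hU : ∀ (U : C) (n : ℕ), Subsingleton (CohSite.HU F (n + 1) U)) :
    CohCx.IsTotallyAcyclic ((CohSite.push J K u).obj F) := by
  have := push_preservesFiniteLimits J K u
  refine isTotallyAcyclic_push J K u
    (fun I hI => by have := hI; exact injective_push J K u I) F hF (fun n => ?_)
  obtain ⟨e⟩ := SiteCoh.nonempty_Rpush_iso J K u F (n + 1)
  refine IsZero.of_iso ?_ e
  apply Functor.map_isZero
  rw [Functor.isZero_iff]
  intro V
  haveI : Subsingleton ↑((u.op ⋙ F.cohomologyPresheaf (n + 1)).obj V) := hU (u.obj V.unop) n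
  exact AddCommGrpCat.isZero_of_subsingleton _

end Groth.Agent.Lib.Helper53.TotPush
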