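import Groth.Agent.Lib.Helper28.TotAcyc
import Groth.Agent.Lib.Helper53.TotPush
import Mathlib

/-!
# Injective sheaves of modules are totally acyclic as abelian sheaves (helper53)
-/

set_option autoImplicit false
universe u
open CategoryTheory Limits Opposite Abelian Simplicial AlgebraicTopology
open Groth.Agent.Lib.Helper28

namespace Groth.Agent.Lib.Helper53.ModTot

variable {C : Type u} [SmallCategory C] (J : GrothendieckTopology C) (R : Sheaf J RingCat.{u})

/-- the free sheaf of modules on a presheaf of sets -/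
noncomputable abbrev freeP : (Cᵒᵖ ⥤ Type u) ⥤ SheafOfModules.{u} R :=
  PresheafOfModules.free R.obj ⋙ PresheafOfModules.sheafification (𝟙 R.obj)

/-- underlying presheaf of sets of a sheaf of modules -/
noncomputable abbrev undP : SheafOfModules.{u} R ⥤ (Cᵒᵖ ⥤ Type u) :=
  (SheafOfModules.forget R ⋙ PresheafOfModules.restrictScalars (𝟙 R.obj)) ⋙
    (PresheafOfModules.toPresheaf R.obj ⋙ (Functor.whiskeringRight _ _ _).obj (forget Ab))

noncomputable def adjP : freeP J R ⊣ undP J R :=
  (PresheafOfModules.freeAdjunction R.obj).comp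
    (PresheafOfModules.sheafificationAdjunction (𝟙 R.obj))


/-- morphisms of presheaves into the underlying presheaf of sets, as morphisms of sheaves -/
def homCast (L : Sheaf J (Type u)) (M : SheafOfModules.{u} R) :
    (L.obj ⟶ (undP J R).obj M) ≃
      (L ⟶ (TotAcyc.Uf J).obj ((SheafOfModules.toSheaf R).obj M)) where
  toFun f := ⟨f⟩
  invFun g := g.hom
  left_inv _ := rfl
  right_inv _ := rfl

/-- `Hom_O(O[L], M) ≃ Hom(ℤ[L], M_ab)` -/
noncomputable def Theta₀ (L : Sheaf J (Type u)) (M : SheafOfModules.{u} R) :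
    ((freeP J R).obj L.obj ⟶ M) ≃ ((TotAcyc.G J).obj L ⟶ (SheafOfModules.toSheaf R).obj M) :=
  ((adjP J R).homEquiv L.obj M).trans
    ((homCast J R L M).trans
      ((TotAcyc.adjG J).homEquiv L ((SheafOfModules.toSheaf R).obj M)).symm)

lemma Theta₀_naturality_right (L : Sheaf J (Type u)) {M M' : SheafOfModules.{u} R} (φ : M ⟶ M')
    (x : (freeP J R).obj L.obj ⟶ M) :
    Theta₀ J R L M' (x ≫ φ) = Theta₀ J R L M x ≫ (SheafOfModules.toSheaf R).map φ := by
  unfold Theta₀
  simp only [Equiv.trans_apply]
  rw [(adjP J R).homEquiv_naturality_right]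
  rw [← (TotAcyc.adjG J).homEquiv_naturality_right_symm]
  rfl

lemma Theta₀_naturality_left {L L' : Sheaf J (Type u)} (a : L' ⟶ L) (M : SheafOfModules.{u} R)
    (x : (freeP J R).obj L.obj ⟶ M) :
    Theta₀ J R L' M ((freeP J R).map a.hom ≫ x) = (TotAcyc.G J).map a ≫ Theta₀ J R L M x := by
  unfold Theta₀
  simp only [Equiv.trans_apply]
  rw [(adjP J R).homEquiv_naturality_left]
  rw [← (TotAcyc.adjG J).homEquiv_naturality_left_symm]
  rfl

/-- additive version -/
noncomputable def Theta (L : Sheaf J (Type u)) (M : SheafOfModules.{u} R) :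
    ((freeP J R).obj L.obj ⟶ M) ≃+ ((TotAcyc.G J).obj L ⟶ (SheafOfModules.toSheaf R).obj M) :=
  TotPush.addEquivOfNatural (SheafOfModules.toSheaf R) _ _ (Theta₀ J R L)
    (fun φ x => Theta₀_naturality_right J R L φ x) M

section Eval

variable {C : Type u} [SmallCategory C] (R₀ : Cᵒᵖ ⥤ RingCat.{u})

lemma isZero_of_evaluation (M : PresheafOfModules.{u} R₀)
    (h : ∀ V : Cᵒᵖ, IsZero ((PresheafOfModules.evaluation R₀ V).obj M)) : IsZero M := by
  rw [IsZero.iff_id_eq_zero]
  ext V : 1
  exact (h V).eq_of_src _ _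

instance (V : Cᵒᵖ) : (PresheafOfModules.evaluation.{u} R₀ V).Additive where

/-- evaluations jointly reflect exactness of complexes of presheaves of modules -/
lemma exactAt_of_evaluation {ι : Type*} {c : ComplexShape ι}
    (K : HomologicalComplex (PresheafOfModules.{u} R₀) c) (i : ι)
    (h : ∀ V : Cᵒᵖ,
      (((PresheafOfModules.evaluation R₀ V).mapHomologicalComplex c).obj K).ExactAt i) :
    K.ExactAt i := by
  rw [HomologicalComplex.exactAt_iff_isZero_homology]
  apply isZero_of_evaluation
  intro V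
  have := h V
  rw [HomologicalComplex.exactAt_iff_isZero_homology] at this
  exact IsZero.of_iso this
    (SiteCoh.mapHomologyIsoOfExact (PresheafOfModules.evaluation R₀ V) K i).symm

end Eval


section Exact

variable {C : Type u} [SmallCategory C] (J : GrothendieckTopology C) (R : Sheaf J RingCat.{u})
  {K' K : Sheaf J (Type u)} (f : K' ⟶ K)

/-- the simplicial presheaf of free modules on the Čech nerve of `f` -/
noncomputable abbrev Sm : SimplicialObject (PresheafOfModules.{u} R.obj) :=
  (Groth.Agent.S6161.pshAug J f).left ⋙ PresheafOfModules.free R.obj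

lemma exactAt_Sm (n : ℕ) :
    ((alternatingFaceMapComplex (PresheafOfModules.{u} R.obj)).obj (Sm J R f)).ExactAt (n + 1) := by
  apply exactAt_of_evaluation
  intro V
  have hA := Groth.Agent.S6161.sectionwiseCechLike_pshAug J f
  let Xv : SimplicialObject.Augmented (ModuleCat.{u} (R.obj.obj V)) :=
    ((SimplicialObject.Augmented.whiskering _ _).obj (ModuleCat.free (R.obj.obj V))).obj
      (CechQ.evalAug (CechQ.rangeAug (Groth.Agent.S6161.pshAug J f)) V)
  have ed : Xv.ExtraDegeneracy :=
    (CechQ.extraDegeneracy hA V).map (ModuleCat.free (R.obj.obj V))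
  haveI : QuasiIso (AlternatingFaceMapComplex.ε.app Xv) := ed.homotopyEquiv.quasiIso_hom
  have h1 := CechH.exactAt_succ_of_quasiIso Xv n
  have e := CechH.afmcMapIso (PresheafOfModules.evaluation R.obj V) (Sm J R f)
  exact HomologicalComplex.ExactAt.of_iso h1 e.symm

end Exact


section Main

variable {C : Type u} [SmallCategory C] (J : GrothendieckTopology C) (R : Sheaf J RingCat.{u})
  {K' K : Sheaf J (Type u)} (f : K' ⟶ K)

/-- the simplicial sheaf of free modules on the Čech nerve of `f` -/
noncomputable abbrev Mm : SimplicialObject (SheafOfModules.{u} R) :=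
  (Arrow.mk f).cechNerve ⋙ (sheafToPresheaf J (Type u) ⋙ freeP J R)

/-- the chain complex of free sheaves of modules on the Čech nerve of `f` -/
noncomputable abbrev Mc : ChainComplex (SheafOfModules.{u} R) ℕ :=
  (alternatingFaceMapComplex _).obj (Mm J R f)

instance : (PresheafOfModules.sheafification.{u} (𝟙 R.obj)).Additive :=
  Functor.additive_of_preserves_binary_products _

instance : PreservesFiniteColimits (PresheafOfModules.sheafification.{u} (𝟙 R.obj)) := by
  have := (PresheafOfModules.sheafificationAdjunction.{u} (𝟙 R.obj)).leftAdjoint_preservesColimits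
  infer_instance

lemma exactAt_Mc (n : ℕ) : (Mc J R f).ExactAt (n + 1) := by
  have h := exactAt_Sm J R f n
  have e := CechH.afmcMapIso (PresheafOfModules.sheafification.{u} (𝟙 R.obj)) (Sm J R f)
  refine HomologicalComplex.ExactAt.of_iso ?_ e
  rw [HomologicalComplex.exactAt_iff_isZero_homology] at h ⊢
  exact IsZero.of_iso (Functor.map_isZero _ h)
    (SiteCoh.mapHomologyIsoOfExact (PresheafOfModules.sheafification.{u} (𝟙 R.obj)) _ (n + 1))

variable (I : SheafOfModules.{u} R)

lemma Theta_d (n : ℕ) (y : (Mc J R f).X n ⟶ I) :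
    Theta J R ((Arrow.mk f).cechNerve.obj (op ⦋n + 1⦌)) I ((Mc J R f).d (n + 1) n ≫ y) =
      (TotAcyc.L f).d (n + 1) n ≫ Theta J R ((Arrow.mk f).cechNerve.obj (op ⦋n⦌)) I y := by
  have h1 : (Mc J R f).d (n + 1) n = ∑ i : Fin (n + 2), (-1 : ℤ) ^ (i : ℕ) • (Mm J R f).δ i :=
    alternatingFaceMapComplex_obj_d _ n
  have h2 : (TotAcyc.L f).d (n + 1) n = ∑ i : Fin (n + 2), (-1 : ℤ) ^ (i : ℕ) •
      SimplicialObject.δ ((Arrow.mk f).cechNerve ⋙ TotAcyc.G J) i :=
    alternatingFaceMapComplex_obj_d _ n
  rw [h1, h2, Preadditive.sum_comp, Preadditive.sum_comp, map_sum]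
  refine Finset.sum_congr rfl fun i _ => ?_
  rw [Preadditive.zsmul_comp, Preadditive.zsmul_comp, map_zsmul]
  congr 1
  exact Theta₀_naturality_left J R ((Arrow.mk f).cechNerve.δ i) I y

/-- the underlying abelian sheaf of an injective sheaf of modules is Čech-acyclic -/
theorem cechAcyclic_of_injective [Injective I] :
    TotAcyc.CechAcyclic ((SheafOfModules.toSheaf R).obj I) := by
  intro K' K f hf q x hx
  let xt : (Mc J R f).X (q + 1) ⟶ I :=
    (Theta J R ((Arrow.mk f).cechNerve.obj (op ⦋q + 1⦌)) I).symm x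
  have hxt : (Mc J R f).d (q + 2) (q + 1) ≫ xt = 0 := by
    apply (Theta J R ((Arrow.mk f).cechNerve.obj (op ⦋q + 1 + 1⦌)) I).injective
    rw [Theta_d, map_zero, AddEquiv.apply_symm_apply]
    exact hx
  have hE : ((Mc J R f).sc' (q + 2) (q + 1) q).Exact := by
    have h := exactAt_Mc J R f q
    rw [HomologicalComplex.exactAt_iff' _ (q + 2) (q + 1) q (by simp) (by simp)] at h
    exact h
  refine ⟨Theta J R ((Arrow.mk f).cechNerve.obj (op ⦋q⦌)) I (hE.descToInjective xt hxt), ?_⟩
  rw [← Theta_d]
  have : (Mc J R f).d (q + 1) q ≫ hE.descToInjective xt hxt = xt :=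
    hE.comp_descToInjective xt hxt
  rw [this, AddEquiv.apply_symm_apply]

/-- **Injective sheaves of modules are totally acyclic as abelian sheaves.** -/
theorem isTotallyAcyclic_of_injective [Injective I] :
    CohCx.IsTotallyAcyclic ((SheafOfModules.toSheaf R).obj I) := by
  intro L p
  exact subsingleton_of_forall_eq 0 fun x =>
    TotAcyc.ext_eq_zero_of_cechAcyclic p _ (cechAcyclic_of_injective J R I) L x

end Main

end Groth.Agent.Lib.Helper53.ModTot
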