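import Groth.Agent.Lib.Helper53.SiteCoh

/-!
# Sections of abelian sheaves on a small site as morphisms out of free sheaves
-/

universe u

open CategoryTheory Opposite Limits Abelian

namespace Groth.Agent.Lib.Helper53.SiteCoh

variable {C : Type u} [SmallCategory C] (J : GrothendieckTopology C)

/-- morphisms out of the free abelian sheaf on `U` are sections over `U` -/
noncomputable def shSecEquiv (U : C) (G : Sheaf J AddCommGrpCat.{u}) :
    (freeSh J U ⟶ G) ≃+ G.obj.obj (op U) :=
  (shTheta J U G).trans (freePreHomAddEquiv U G.obj)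

lemma shSecEquiv_naturality_right (U : C) {G G' : Sheaf J AddCommGrpCat.{u}} (φ : G ⟶ G')
    (g : freeSh J U ⟶ G) :
    shSecEquiv J U G' (g ≫ φ) = φ.hom.app (op U) (shSecEquiv J U G g) := by
  simp only [shSecEquiv, AddEquiv.trans_apply]
  rw [shTheta_naturality_right, freePreHomAddEquiv_naturality_right]
  rfl

lemma shSecEquiv_naturality_left {U V : C} (i : V ⟶ U) (G : Sheaf J AddCommGrpCat.{u})
    (g : freeSh J U ⟶ G) :
    shSecEquiv J V G (freeShMap J i ≫ g) = G.obj.map i.op (shSecEquiv J U G g) := by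
  simp only [shSecEquiv, AddEquiv.trans_apply]
  rw [shTheta_naturality_left, freePreHomAddEquiv_naturality_left]

/-- an epimorphism of abelian sheaves is locally surjective: morphisms from a free sheaf lift
on a covering sieve -/
lemma exists_cover_lift_of_epi {A B : Sheaf J AddCommGrpCat.{u}} (π : A ⟶ B) [Epi π] (U : C)
    (g : freeSh J U ⟶ B) :
    ∃ S : J.Cover U, ∀ a : S.Arrow, ∃ h : freeSh J a.Y ⟶ A, h ≫ π = freeShMap J a.f ≫ g := by
  haveI h1 : CategoryTheory.Sheaf.IsLocallySurjective π :=
    (CategoryTheory.Sheaf.isLocallySurjective_iff_epi' (φ := π)).2 inferInstance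
  haveI h2 : Presheaf.IsLocallySurjective J π.hom := h1
  refine ⟨⟨Presheaf.imageSieve π.hom (shSecEquiv J U B g),
    Presheaf.imageSieve_mem J π.hom _⟩, fun a => ?_⟩
  obtain ⟨t, ht⟩ := a.hf
  refine ⟨(shSecEquiv J a.Y A).symm t, ?_⟩
  apply (shSecEquiv J a.Y B).injective
  rw [shSecEquiv_naturality_right, shSecEquiv_naturality_left, AddEquiv.apply_symm_apply]
  exact ht

end Groth.Agent.Lib.Helper53.SiteCoh
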