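import Groth.Agent.Lib.Helper53.LocRlim
import Groth.Agent.Lib.Helper53.ModTot
import Groth.Agent.Lib.Helper53.ModGroth
import Groth.Agent.Lib.Helper53.ExtCompare
import Groth.Agent.Lib.Helper53.SiteSec
import Groth.Agent.Lib.Helper42.ModSheaf

/-!
# Local data for sheaves of modules on a small site (helper53)
-/

set_option autoImplicit false
universe u
open CategoryTheory Limits Opposite Abelian
open Groth.Agent.Lib.Helper28

namespace Groth.Agent.Lib.Helper53.ModLoc

open Groth.Agent.Lib.Helper53.SiteCoh Groth.Agent.Lib.Helper53.LocData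

section Rep

/-- two objects corepresenting the same functor are isomorphic -/
lemma nonempty_iso_of_natural_equiv {𝒞 : Type*} [Category 𝒞] (A B : 𝒞)
    (e : ∀ F : 𝒞, (A ⟶ F) ≃ (B ⟶ F))
    (he : ∀ {F F' : 𝒞} (φ : F ⟶ F') (x : A ⟶ F), e F' (x ≫ φ) = e F x ≫ φ) :
    Nonempty (A ≅ B) := by
  refine ⟨⟨(e B).symm (𝟙 B), e A (𝟙 A), ?_, ?_⟩⟩
  · apply (e A).injective
    rw [he, Equiv.apply_symm_apply, Category.id_comp]
  · have := he ((e B).symm (𝟙 B)) (𝟙 A)
    rw [Category.id_comp, Equiv.apply_symm_apply] at this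
    exact this.symm

end Rep

variable {C : Type u} [SmallCategory C] (J : GrothendieckTopology C)

section AbRep

/-- the sheaf of sets associated with a representable presheaf -/
noncomputable abbrev LU (U : C) : Sheaf J (Type u) := (presheafToSheaf J (Type u)).obj (yoneda.obj U)

/-- `Hom(ℤ[h_U^#], F) ≃ F(U)` -/
noncomputable def repB (U : C) (F : Sheaf J AddCommGrpCat.{u}) :
    ((TotAcyc.G J).obj (LU J U) ⟶ F) ≃ F.obj.obj (op U) :=
  ((TotAcyc.adjG J).homEquiv _ F).trans
    (((sheafificationAdjunction J (Type u)).homEquiv (yoneda.obj U) ((TotAcyc.Uf J).obj F)).trans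
      yonedaEquiv)

lemma repB_naturality (U : C) {F F' : Sheaf J AddCommGrpCat.{u}} (φ : F ⟶ F')
    (x : (TotAcyc.G J).obj (LU J U) ⟶ F) :
    repB J U F' (x ≫ φ) = φ.hom.app (op U) (repB J U F x) := by
  simp only [repB, Equiv.trans_apply]
  rw [Adjunction.homEquiv_naturality_right, Adjunction.homEquiv_naturality_right]
  exact yonedaEquiv_comp _ _

/-- the free abelian sheaf on `U` is the free abelian sheaf on the sheaf of sets `h_U^#` -/
lemma nonempty_freeSh_iso (U : C) : Nonempty (freeSh J U ≅ (TotAcyc.G J).obj (LU J U)) := by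
  refine nonempty_iso_of_natural_equiv _ _
    (fun F => (shSecEquiv J U F).toEquiv.trans (repB J U F).symm) ?_
  intro F F' φ x
  apply (repB J U F').injective
  simp only [Equiv.trans_apply, Equiv.apply_symm_apply]
  rw [repB_naturality, Equiv.apply_symm_apply]
  exact shSecEquiv_naturality_right J U φ x

end AbRep

variable (R : Sheaf J RingCat.{u})

/-- the test module: free module on the representable presheaf -/
noncomputable abbrev Tm (U : C) : SheafOfModules.{u} R := (ModTot.freeP J R).obj (yoneda.obj U)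

/-- functoriality -/
noncomputable abbrev TmMap {U V : C} (i : V ⟶ U) : Tm J R V ⟶ Tm J R U :=
  (ModTot.freeP J R).map (yoneda.map i)

/-- sections (as a bijection) -/
noncomputable def sec₀ (U : C) (M : SheafOfModules.{u} R) :
    (Tm J R U ⟶ M) ≃ ((SheafOfModules.toSheaf R).obj M).obj.obj (op U) :=
  ((ModTot.adjP J R).homEquiv (yoneda.obj U) M).trans yonedaEquiv

lemma sec₀_right (U : C) {M M' : SheafOfModules.{u} R} (φ : M ⟶ M') (x : Tm J R U ⟶ M) :
    sec₀ J R U M' (x ≫ φ) = ((SheafOfModules.toSheaf R).map φ).hom.app (op U) (sec₀ J R U M x) := by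
  simp only [sec₀, Equiv.trans_apply]
  rw [Adjunction.homEquiv_naturality_right]
  exact yonedaEquiv_comp _ _

lemma sec₀_left {U V : C} (i : V ⟶ U) (M : SheafOfModules.{u} R) (x : Tm J R U ⟶ M) :
    sec₀ J R V M (TmMap J R i ≫ x) =
      ((SheafOfModules.toSheaf R).obj M).obj.map i.op (sec₀ J R U M x) := by
  simp only [sec₀, Equiv.trans_apply]
  rw [Adjunction.homEquiv_naturality_left]
  exact (yonedaEquiv_naturality _ _).symm

/-- `Hom_O(T_U, M) ≃ Hom(ℤ_U, M_ab)` as a bijection -/
noncomputable def θ₀ (U : C) (M : SheafOfModules.{u} R) :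
    (Tm J R U ⟶ M) ≃ (freeSh J U ⟶ (SheafOfModules.toSheaf R).obj M) :=
  (sec₀ J R U M).trans (shSecEquiv J U ((SheafOfModules.toSheaf R).obj M)).symm.toEquiv

lemma θ₀_right (U : C) {M M' : SheafOfModules.{u} R} (φ : M ⟶ M') (x : Tm J R U ⟶ M) :
    θ₀ J R U M' (x ≫ φ) = θ₀ J R U M x ≫ (SheafOfModules.toSheaf R).map φ := by
  apply (shSecEquiv J U ((SheafOfModules.toSheaf R).obj M')).injective
  rw [shSecEquiv_naturality_right]
  simp only [θ₀, Equiv.trans_apply, AddEquiv.toEquiv_eq_coe, AddEquiv.coe_toEquiv,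
    AddEquiv.apply_symm_apply]
  exact sec₀_right J R U φ x

/-- additive version -/
noncomputable def θ (U : C) (M : SheafOfModules.{u} R) :
    (Tm J R U ⟶ M) ≃+ (freeSh J U ⟶ (SheafOfModules.toSheaf R).obj M) :=
  TotPush.addEquivOfNatural (SheafOfModules.toSheaf R) _ _ (θ₀ J R U)
    (fun φ x => θ₀_right J R U φ x) M

/-- sections, additively -/
noncomputable def sec (U : C) (M : SheafOfModules.{u} R) :
    (Tm J R U ⟶ M) ≃+ ((SheafOfModules.toSheaf R).obj M).obj.obj (op U) :=
  (θ J R U M).trans (shSecEquiv J U ((SheafOfModules.toSheaf R).obj M))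

lemma sec_eq (U : C) (M : SheafOfModules.{u} R) (x : Tm J R U ⟶ M) :
    sec J R U M x = sec₀ J R U M x := by
  show shSecEquiv J U _ ((shSecEquiv J U _).symm (sec₀ J R U M x)) = _
  rw [AddEquiv.apply_symm_apply]

lemma sec_right (U : C) {M M' : SheafOfModules.{u} R} (φ : M ⟶ M') (x : Tm J R U ⟶ M) :
    sec J R U M' (x ≫ φ) = ((SheafOfModules.toSheaf R).map φ).hom.app (op U) (sec J R U M x) := by
  rw [sec_eq, sec_eq, sec₀_right]

lemma sec_left {U V : C} (i : V ⟶ U) (M : SheafOfModules.{u} R) (x : Tm J R U ⟶ M) :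
    sec J R V M (TmMap J R i ≫ x) =
      ((SheafOfModules.toSheaf R).obj M).obj.map i.op (sec J R U M x) := by
  rw [sec_eq, sec_eq, sec₀_left]

instance : PreservesFiniteColimits (SheafOfModules.toSheaf.{u} R) := by
  have : PreservesColimitsOfSize.{u, u} (SheafOfModules.toSheaf.{u} R) :=
    Groth.Agent.Lib.Helper42.ModSheaf.toSheaf_preservesColimitsOfSize R
  exact PreservesColimitsOfSize.preservesFiniteColimits _

lemma cover_lift {A B : SheafOfModules.{u} R} (π : A ⟶ B) [Epi π] (U : C) (g : Tm J R U ⟶ B) :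
    ∃ S : J.Cover U, ∀ a : S.Arrow, ∃ h : Tm J R a.Y ⟶ A, h ≫ π = TmMap J R a.f ≫ g := by
  haveI : Epi ((SheafOfModules.toSheaf R).map π) := inferInstance
  haveI h1 : CategoryTheory.Sheaf.IsLocallySurjective ((SheafOfModules.toSheaf R).map π) :=
    (CategoryTheory.Sheaf.isLocallySurjective_iff_epi'
      (φ := (SheafOfModules.toSheaf R).map π)).2 inferInstance
  haveI h2 : Presheaf.IsLocallySurjective J ((SheafOfModules.toSheaf R).map π).hom := h1
  refine ⟨⟨Presheaf.imageSieve ((SheafOfModules.toSheaf R).map π).hom (sec J R U B g),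
    Presheaf.imageSieve_mem J ((SheafOfModules.toSheaf R).map π).hom _⟩, fun a => ?_⟩
  obtain ⟨t, ht⟩ := a.hf
  refine ⟨(sec J R a.Y A).symm t, ?_⟩
  apply (sec J R a.Y B).injective
  rw [sec_right, sec_left, AddEquiv.apply_symm_apply]
  exact ht

lemma epi_of_locSurj {A B : SheafOfModules.{u} R} (φ : A ⟶ B)
    (h : Presheaf.IsLocallySurjective J ((SheafOfModules.toSheaf R).map φ).hom) : Epi φ := by
  haveI h1 : CategoryTheory.Sheaf.IsLocallySurjective ((SheafOfModules.toSheaf R).map φ) := h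
  haveI : Epi ((SheafOfModules.toSheaf R).map φ) :=
    (CategoryTheory.Sheaf.isLocallySurjective_iff_epi'
      (φ := (SheafOfModules.toSheaf R).map φ)).1 h1
  exact (SheafOfModules.toSheaf R).epi_of_epi_map inferInstance

lemma mono_of_locInj {A B : SheafOfModules.{u} R} (φ : A ⟶ B)
    (h : Presheaf.IsLocallyInjective J ((SheafOfModules.toSheaf R).map φ).hom) : Mono φ := by
  haveI h1 : CategoryTheory.Sheaf.IsLocallyInjective ((SheafOfModules.toSheaf R).map φ) := h
  haveI : Mono ((SheafOfModules.toSheaf R).map φ) := Sheaf.mono_of_isLocallyInjective _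
  exact (SheafOfModules.toSheaf R).mono_of_mono_map inferInstance

/-- the local data of sheaves of modules -/
noncomputable def modLocData : LocData C J (SheafOfModules.{u} R) where
  Γ := SheafOfModules.toSheaf R
  T := Tm J R
  Tmap := TmMap J R
  sec := sec J R
  sec_right := sec_right J R
  sec_left := sec_left J R
  cover_lift := cover_lift J R
  epi_of_locSurj := epi_of_locSurj J R
  mono_of_locInj := mono_of_locInj J R

section ExtCmp

variable [HasExt.{u} (SheafOfModules.{u} R)]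

lemma ext_freeSh_eq_zero (U : C) (I : SheafOfModules.{u} R) [Injective I] (n : ℕ)
    (x : Ext.{u} (freeSh J U) ((SheafOfModules.toSheaf R).obj I) (n + 1)) : x = 0 := by
  obtain ⟨e⟩ := nonempty_freeSh_iso J U
  have hI := ModTot.isTotallyAcyclic_of_injective J R I (LU J U) n
  have h1 : x = (Ext.mk₀ e.hom).comp ((Ext.mk₀ e.inv).comp x (zero_add _)) (zero_add _) := by
    rw [← Ext.comp_assoc_of_second_deg_zero, Ext.mk₀_comp_mk₀, e.hom_inv_id, Ext.mk₀_id_comp]
  have h2 : (Ext.mk₀ e.inv).comp x (zero_add _) = 0 :=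
    Subsingleton.elim (α := CohCx.HK (LU J U) ((SheafOfModules.toSheaf R).obj I) (n + 1)) _ _
  rw [h1, h2, Ext.comp_zero]

/-- `Ext^k_O(T_U, F) ≃ H^k(U, F_ab)` -/
theorem nonempty_ext_Tm_equiv (U : C) (F : SheafOfModules.{u} R) (k : ℕ) :
    Nonempty (Ext.{u} (Tm J R U) F k ≃+ Ext.{u} (freeSh J U) ((SheafOfModules.toSheaf R).obj F) k) := by
  have := ModGroth.isGrothendieckAbelian J R
  exact ExtCompare.nonempty_ext_equiv (SheafOfModules.toSheaf.{u} R) (Tm J R U) (freeSh J U)
    (fun G => Ext.addEquiv₀.trans ((θ J R U G).trans Ext.addEquiv₀.symm))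
    (fun {G G'} φ x => by
      obtain ⟨g, rfl⟩ := Ext.addEquiv₀.symm.surjective x
      have h1 : (Ext.addEquiv₀.symm g : Ext (Tm J R U) G 0) = Ext.mk₀ g := rfl
      rw [h1, Ext.mk₀_comp_mk₀]
      simp only [AddEquiv.trans_apply]
      have h2 : ∀ (G₁ : SheafOfModules.{u} R) (g₁ : Tm J R U ⟶ G₁),
          Ext.addEquiv₀ (Ext.mk₀ g₁) = g₁ := fun G₁ g₁ => Ext.addEquiv₀.apply_symm_apply g₁
      rw [h2, h2]
      have h3 : θ J R U G' (g ≫ φ) = θ J R U G g ≫ (SheafOfModules.toSheaf R).map φ :=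
        θ₀_right J R U φ g
      rw [h3]
      exact (Ext.mk₀_comp_mk₀ _ _).symm)
    (fun I _ n x => ext_freeSh_eq_zero J R U I n x) k F

theorem subsingleton_ext_Tm (U : C) (F : SheafOfModules.{u} R) (k : ℕ)
    (h : Subsingleton (CohSite.HU ((SheafOfModules.toSheaf R).obj F) k U)) :
    Subsingleton (Ext.{u} (Tm J R U) F k) := by
  obtain ⟨e⟩ := nonempty_ext_Tm_equiv J R U F k
  haveI : Subsingleton (Ext.{u} (freeSh J U) ((SheafOfModules.toSheaf R).obj F) k) := h
  exact e.toEquiv.subsingleton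

end ExtCmp

end Groth.Agent.Lib.Helper53.ModLoc
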