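import Groth.Agent.Lib.Helper53.LerayDeg

/-!
# Sheaf cohomology on a small site through the derived functors of the inclusion into presheaves

* free abelian presheaves on representables are projective;
* `R^p ι (F) ≅ (U ↦ H^p(U, F))` as presheaves, `ι` the inclusion of sheaves in presheaves;
* `R^p u_* F ≅ (V ↦ H^p(u V, F))^#` for a continuous functor `u`.
-/

universe u

open CategoryTheory Opposite Limits Abelian

namespace Groth.Agent.Lib.Helper53.SiteCoh

variable {C : Type u} [SmallCategory C]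

/-- the free abelian presheaf on a representable presheaf -/
noncomputable abbrev freePre (U : C) : Cᵒᵖ ⥤ AddCommGrpCat.{u} :=
  yoneda.obj U ⋙ AddCommGrpCat.free

/-- functoriality of `freePre` -/
noncomputable def freePreMap {U V : C} (i : V ⟶ U) : freePre V ⟶ freePre U :=
  Functor.whiskerRight (yoneda.map i) AddCommGrpCat.free

/-- morphisms out of the free presheaf on `U` are sections over `U` -/
noncomputable def freePreHomEquiv (U : C) (G : Cᵒᵖ ⥤ AddCommGrpCat.{u}) :
    (freePre U ⟶ G) ≃ G.obj (op U) :=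
  ((AddCommGrpCat.adj.whiskerRight Cᵒᵖ).homEquiv (yoneda.obj U) G).trans yonedaEquiv

lemma freePreHomEquiv_apply (U : C) (G : Cᵒᵖ ⥤ AddCommGrpCat.{u}) (f : freePre U ⟶ G) :
    freePreHomEquiv U G f = f.app (op U) (FreeAbelianGroup.of (𝟙 U)) := by
  simp [freePreHomEquiv]
  rfl

/-- morphisms out of the free presheaf on `U` are sections over `U`, additively -/
noncomputable def freePreHomAddEquiv (U : C) (G : Cᵒᵖ ⥤ AddCommGrpCat.{u}) :
    (freePre U ⟶ G) ≃+ G.obj (op U) :=
  { freePreHomEquiv U G with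
    map_add' := fun f g => by
      change freePreHomEquiv U G (f + g) = freePreHomEquiv U G f + freePreHomEquiv U G g
      simp only [freePreHomEquiv_apply]
      rfl }

lemma freePreHomAddEquiv_apply (U : C) (G : Cᵒᵖ ⥤ AddCommGrpCat.{u}) (f : freePre U ⟶ G) :
    freePreHomAddEquiv U G f = f.app (op U) (FreeAbelianGroup.of (𝟙 U)) :=
  freePreHomEquiv_apply U G f

lemma freePreHomAddEquiv_naturality_right (U : C) {G G' : Cᵒᵖ ⥤ AddCommGrpCat.{u}} (φ : G ⟶ G')
    (f : freePre U ⟶ G) :
    freePreHomAddEquiv U G' (f ≫ φ) = φ.app (op U) (freePreHomAddEquiv U G f) := by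
  simp only [freePreHomAddEquiv_apply]
  rfl

lemma freePreHomAddEquiv_naturality_left {U V : C} (i : V ⟶ U) (G : Cᵒᵖ ⥤ AddCommGrpCat.{u})
    (f : freePre U ⟶ G) :
    freePreHomAddEquiv V G (freePreMap i ≫ f) = G.map i.op (freePreHomAddEquiv U G f) := by
  simp only [freePreHomAddEquiv_apply]
  have h := congrArg (fun k => k (FreeAbelianGroup.of (𝟙 U))) (congrArg (fun k => k.hom) (f.naturality i.op))
  simp only [AddCommGrpCat.hom_comp, AddMonoidHom.coe_comp, Function.comp_apply] at h
  rw [← h]
  change (f.app (op V)).hom (FreeAbelianGroup.map (fun g => g ≫ i) (FreeAbelianGroup.of (𝟙 V))) =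
    (f.app (op V)).hom (FreeAbelianGroup.map (fun g => i ≫ g) (FreeAbelianGroup.of (𝟙 U)))
  rw [FreeAbelianGroup.map_of_apply, FreeAbelianGroup.map_of_apply, Category.id_comp,
    Category.comp_id]

instance projective_freePre (U : C) : Projective (freePre U : Cᵒᵖ ⥤ AddCommGrpCat.{u}) where
  factors {E X} f e _ := by
    have : Epi (e.app (op U)) := inferInstance
    obtain ⟨s, hs⟩ := (AddCommGrpCat.epi_iff_surjective _).1 this (freePreHomAddEquiv U X f)
    refine ⟨(freePreHomAddEquiv U E).symm s, ?_⟩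
    apply (freePreHomAddEquiv U X).injective
    rw [freePreHomAddEquiv_naturality_right, AddEquiv.apply_symm_apply, hs]

variable (J : GrothendieckTopology C)

/-- the free abelian sheaf on a representable presheaf -/
noncomputable abbrev freeSh (U : C) : Sheaf J AddCommGrpCat.{u} :=
  (presheafToSheaf J AddCommGrpCat.{u}).obj (freePre U)

/-- functoriality of `freeSh` -/
noncomputable def freeShMap {U V : C} (i : V ⟶ U) : freeSh J V ⟶ freeSh J U :=
  (presheafToSheaf J AddCommGrpCat.{u}).map (freePreMap i)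

/-- `Hom(ℤ_U, G) ≃ Hom(ℤ_U^{pre}, G)` -/
noncomputable def shTheta (U : C) (G : Sheaf J AddCommGrpCat.{u}) :
    (freeSh J U ⟶ G) ≃+ (freePre U ⟶ (sheafToPresheaf J AddCommGrpCat.{u}).obj G) :=
  (sheafificationAdjunction J AddCommGrpCat.{u}).homAddEquiv (freePre U) G

lemma shTheta_naturality_right (U : C) {G G' : Sheaf J AddCommGrpCat.{u}} (φ : G ⟶ G')
    (g : freeSh J U ⟶ G) :
    shTheta J U G' (g ≫ φ) = shTheta J U G g ≫ (sheafToPresheaf J AddCommGrpCat.{u}).map φ :=
  Adjunction.homEquiv_naturality_right _ _ _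

lemma shTheta_naturality_left {U V : C} (i : V ⟶ U) (G : Sheaf J AddCommGrpCat.{u})
    (g : freeSh J U ⟶ G) :
    shTheta J V G (freeShMap J i ≫ g) = freePreMap i ≫ shTheta J U G g :=
  Adjunction.homEquiv_naturality_left _ _ _


instance injective_sheafToPresheaf (I : Sheaf J AddCommGrpCat.{u}) [Injective I] :
    Injective ((sheafToPresheaf J AddCommGrpCat.{u}).obj I) :=
  Injective.injective_of_adjoint (sheafificationAdjunction J AddCommGrpCat.{u}) I

section Iso

variable (F : Sheaf J AddCommGrpCat.{u})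

/-- degree zero: `F ≅ (U ↦ H^0(U, F))` -/
noncomputable def zeroIso :
    (sheafToPresheaf J AddCommGrpCat.{u}).obj F ≅ Sheaf.cohomologyPresheaf.{u} F 0 :=
  NatIso.ofComponents (fun U => AddEquiv.toAddCommGrpIso
    (((freePreHomAddEquiv U.unop F.obj).symm.trans (shTheta J U.unop F).symm).trans
      Ext.addEquiv₀.symm)) (by
    intro U V f
    ext s
    obtain ⟨h, rfl⟩ := (freePreHomAddEquiv U.unop F.obj).surjective s
    obtain ⟨g, rfl⟩ := (shTheta J U.unop F).surjective h
    have h1 : F.obj.map f (freePreHomAddEquiv U.unop F.obj (shTheta J U.unop F g)) =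
        freePreHomAddEquiv V.unop F.obj (shTheta J V.unop F (freeShMap J f.unop ≫ g)) := by
      rw [shTheta_naturality_left, freePreHomAddEquiv_naturality_left]
      rfl
    change Ext.addEquiv₀.symm ((shTheta J V.unop F).symm ((freePreHomAddEquiv V.unop F.obj).symm
        (F.obj.map f (freePreHomAddEquiv U.unop F.obj (shTheta J U.unop F g))))) =
      (Ext.mk₀ (freeShMap J f.unop)).comp (Ext.addEquiv₀.symm ((shTheta J U.unop F).symm
        ((freePreHomAddEquiv U.unop F.obj).symm
          (freePreHomAddEquiv U.unop F.obj (shTheta J U.unop F g))))) (zero_add 0)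
    rw [h1, AddEquiv.symm_apply_apply, AddEquiv.symm_apply_apply, AddEquiv.symm_apply_apply,
      AddEquiv.symm_apply_apply]
    change Ext.mk₀ _ = (Ext.mk₀ _).comp (Ext.mk₀ _) _
    rw [Ext.mk₀_comp_mk₀])

/-- positive degrees: `R^{q+1} ι (F) ≅ (U ↦ H^{q+1}(U, F))` -/
theorem nonempty_succIso (q : ℕ) :
    Nonempty (((sheafToPresheaf J AddCommGrpCat.{u}).rightDerived (q + 1)).obj F ≅
      Sheaf.cohomologyPresheaf.{u} F (q + 1)) := by
  letI : HasExt.{u + 1} (Cᵒᵖ ⥤ AddCommGrpCat.{u}) := HasExt.standard _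
  let Φ := sheafToPresheaf J AddCommGrpCat.{u}
  let R' := (Φ.rightDerived (q + 1)).obj F
  have hθ : ∀ (U : C) {G G' : Sheaf J AddCommGrpCat.{u}} (φ : G ⟶ G') (g : freeSh J U ⟶ G),
      shTheta J U G' (g ≫ φ) = shTheta J U G g ≫ Φ.map φ :=
    fun U _ _ φ g => shTheta_naturality_right J U φ g
  have hex := fun U : C => LerayDeg.exists_ext_succ_equiv_hom_rightDerived.{u, u + 1} Φ
    (fun I hI => by haveI := hI; exact injective_sheafToPresheaf J I)
    (freeSh J U) (freePre U) (shTheta J U) (hθ U) F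
    (fun q p x => Ext.eq_zero_of_projective x) q
  choose e he using hex
  refine ⟨NatIso.ofComponents (fun U => AddEquiv.toAddCommGrpIso
    ((freePreHomAddEquiv U.unop R').symm.trans (e U.unop).symm)) ?_⟩
  intro U V f
  ext s
  obtain ⟨h, rfl⟩ := (freePreHomAddEquiv U.unop R').surjective s
  obtain ⟨x, rfl⟩ := (e U.unop).surjective h
  have h1 : R'.map f (freePreHomAddEquiv U.unop R' (e U.unop x)) =
      freePreHomAddEquiv V.unop R' (freePreMap f.unop ≫ e U.unop x) :=
    (freePreHomAddEquiv_naturality_left f.unop R' _).symm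
  have h2 : e V.unop ((Ext.mk₀ (freeShMap J f.unop)).comp x (zero_add _)) =
      freePreMap f.unop ≫ e U.unop x :=
    LerayDeg.compat_naturality Φ (shTheta J U.unop) (hθ U.unop) (shTheta J V.unop) (hθ V.unop)
      (freeShMap J f.unop) (freePreMap f.unop)
      (fun G g => shTheta_naturality_left J f.unop G g) q (e U.unop) (he U.unop)
      (e V.unop) (he V.unop) x
  change (e V.unop).symm ((freePreHomAddEquiv V.unop R').symm
      (R'.map f (freePreHomAddEquiv U.unop R' (e U.unop x)))) =
    (Ext.mk₀ (freeShMap J f.unop)).comp ((e U.unop).symm ((freePreHomAddEquiv U.unop R').symm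
      (freePreHomAddEquiv U.unop R' (e U.unop x)))) (zero_add (q + 1))
  rw [h1, AddEquiv.symm_apply_apply, AddEquiv.symm_apply_apply, AddEquiv.symm_apply_apply,
    ← h2, AddEquiv.symm_apply_apply]

/-- `R^p ι (F) ≅ (U ↦ H^p(U, F))` as presheaves, where `ι` is the inclusion of abelian sheaves
into abelian presheaves -/
theorem nonempty_rightDerived_sheafToPresheaf_iso (p : ℕ) :
    Nonempty (((sheafToPresheaf J AddCommGrpCat.{u}).rightDerived p).obj F ≅
      Sheaf.cohomologyPresheaf.{u} F p) := by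
  cases p with
  | zero =>
    exact ⟨((sheafToPresheaf J AddCommGrpCat.{u}).rightDerivedZeroIsoSelf.app F).trans
      (zeroIso J F)⟩
  | succ q => exact nonempty_succIso J F q

end Iso

end Groth.Agent.Lib.Helper53.SiteCoh
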