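import Mathlib.AlgebraicGeometry.Morphisms.UniversallyOpen
import Mathlib.AlgebraicGeometry.Morphisms.QuasiCompact
import Mathlib.AlgebraicGeometry.AffineScheme

/-!
# Compact subsets of schemes stable under generalization

A compact subset of a scheme contained in an open lies in a compact open inside that open, and a
compact subset stable under generalization is the intersection of the compact opens containing it.
-/

namespace Groth.Agent.Lib.Helper53

open AlgebraicGeometry TopologicalSpace

universe u

/-- a compact subset of a scheme inside an open lies in a compact open inside that open -/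
lemma exists_isCompact_opens_between {X : Scheme.{u}} {E : Set X} (hE : IsCompact E)
    (O : X.Opens) (hEO : E ⊆ O) :
    ∃ V : X.Opens, IsCompact (V : Set X) ∧ E ⊆ V ∧ V ≤ O := by
  have key : ∀ e : X, ∃ U : X.Opens, (e ∈ O → e ∈ U) ∧ IsCompact (U : Set X) ∧ U ≤ O := by
    intro e
    by_cases he : e ∈ O
    · obtain ⟨U, hU, heU, hUO⟩ := exists_isAffineOpen_mem_and_subset (x := e) (U := O) he
      exact ⟨U, fun _ => heU, hU.isCompact, hUO⟩
    · exact ⟨⊥, fun h => absurd h he, isCompact_empty, bot_le⟩
  choose U hU1 hU2 hU3 using key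
  obtain ⟨t, -, ht⟩ := hE.elim_nhds_subcover (fun e => (U e : Set X))
    (fun e he => (U e).isOpen.mem_nhds (hU1 e (hEO he)))
  refine ⟨⟨⋃ x ∈ t, (U x : Set X), isOpen_biUnion fun x _ => (U x).isOpen⟩, ?_, ht, ?_⟩
  · exact t.isCompact_biUnion fun x _ => hU2 x
  · intro y hy
    obtain ⟨x, hx, hyx⟩ := Set.mem_iUnion₂.1 hy
    exact hU3 x hyx

/-- a compact subset of a scheme stable under generalization is the intersection of a nonempty
family of compact opens -/
lemma exists_eq_iInter_isCompact_opens {X : Scheme.{u}} {E : Set X} (hE : IsCompact E)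
    (hgen : StableUnderGeneralization E) :
    ∃ (ι : Type u) (_ : Nonempty ι) (V : ι → X.Opens),
      (∀ i, IsCompact (V i : Set X)) ∧ E = ⋂ i, (V i : Set X) := by
  refine ⟨{V : X.Opens // IsCompact (V : Set X) ∧ E ⊆ V}, ?_, fun V => V.1, fun V => V.2.1, ?_⟩
  · obtain ⟨V, hV, hEV, -⟩ := exists_isCompact_opens_between hE ⊤ (fun _ _ => trivial)
    exact ⟨⟨V, hV, hEV⟩⟩
  · apply Set.Subset.antisymm
    · exact Set.subset_iInter fun V => V.2.2
    · intro x hx
      by_contra hxE
      have hsub : E ⊆ ((⟨(closure {x})ᶜ, isClosed_closure.isOpen_compl⟩ : X.Opens) : Set X) := by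
        intro e he hmem
        exact hxE (hgen (specializes_iff_mem_closure.2 hmem) he)
      obtain ⟨V, hV, hEV, hVO⟩ := exists_isCompact_opens_between hE _ hsub
      have hxV : x ∈ (V : Set X) := Set.mem_iInter.1 hx ⟨V, hV, hEV⟩
      exact hVO hxV (subset_closure rfl)

end Groth.Agent.Lib.Helper53
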