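import Groth.Agent.Lib.Helper13.MLLimHomology
import Groth.Prelude.Def_CohCx

/-!
# Homology sheaves of complexes of abelian sheaves via sections (helper53)

* `quasiIsoAt_map_iff_isIso_map_homologyMap`: for `F` preserving homology,
  `F(φ)` is a quasi-isomorphism in degree `i` iff `F(H^i(φ))` is an isomorphism.
* `isIso_homologyMap_of_sections`: a morphism of complexes of abelian sheaves on a site which
  induces isomorphisms on `H^m` of the complexes of sections over all members of a class `B` of
  objects covering every object induces an isomorphism on the `m`-th homology sheaves.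
* `exists_section_limit`, `section_limit_ext`: sections of the terms of the limit of a tower of
  complexes of sheaves.
-/

set_option autoImplicit false
universe u

namespace Groth.Agent.Lib.Helper53.HomShf

open CategoryTheory Limits HomologicalComplex Opposite

section GenLemma
variable {C₁ C₂ : Type*} [Category C₁] [Category C₂] [Abelian C₁] [Abelian C₂]
  (F : C₁ ⥤ C₂) [F.Additive] [F.PreservesHomology]
  {ι : Type*} {c : ComplexShape ι} {K L : HomologicalComplex C₁ c} (φ : K ⟶ L) (i : ι)

lemma quasiIsoAt_map_iff_isIso_map_homologyMap :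
    QuasiIsoAt ((F.mapHomologicalComplex c).map φ) i ↔ IsIso (F.map (homologyMap φ i)) := by
  rw [quasiIsoAt_iff]
  let ψ := (shortComplexFunctor C₁ c i).map φ
  change ShortComplex.QuasiIso (F.mapShortComplex.map ψ) ↔
    IsIso (F.map (ShortComplex.homologyMap ψ))
  rw [ShortComplex.quasiIso_iff]
  have hnat := ShortComplex.mapHomologyIso_hom_naturality ψ F
  constructor
  · intro h
    have h1 := (congrArg IsIso hnat).mp (IsIso.comp_isIso' h inferInstance)
    exact @IsIso.of_isIso_comp_left _ _ _ _ _ _ _ (Iso.isIso_hom _) h1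
  · intro h
    have h1 := (congrArg IsIso hnat).mpr (IsIso.comp_isIso' inferInstance h)
    exact @IsIso.of_isIso_comp_right _ _ _ _ _ _ _ (Iso.isIso_hom _) h1

end GenLemma

variable {C : Type u} [SmallCategory C] (J : GrothendieckTopology C)

section LocBij
variable {J}
variable {P Q : Cᵒᵖ ⥤ AddCommGrpCat.{u}} (ψ : P ⟶ Q) (B : Set C)
  (hB : ∀ U : C, ∃ (ι : Type u) (Y : ι → C) (f : ∀ i, Y i ⟶ U),
    Sieve.ofArrows Y f ∈ J U ∧ ∀ i, Y i ∈ B)

include hB in
lemma isLocallyInjective_of_basis (h : ∀ U ∈ B, Function.Injective (ψ.app (op U)).hom) :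
    Presheaf.IsLocallyInjective J ψ where
  equalizerSieve_mem {X} x y hxy := by
    obtain ⟨ι, Yc, f, hcov, hY⟩ := hB X.unop
    refine J.superset_covering ?_ hcov
    change Sieve.generate (Presieve.ofArrows Yc f) ≤ _
    rw [Sieve.generate_le_iff]
    rintro W b ⟨i⟩
    show P.map (f i).op x = P.map (f i).op y
    apply h (Yc i) (hY i)
    have h1 := ConcreteCategory.congr_hom (ψ.naturality (f i).op) x
    have h2 := ConcreteCategory.congr_hom (ψ.naturality (f i).op) y
    simp only [ConcreteCategory.comp_apply] at h1 h2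
    refine h1.trans ?_
    refine Eq.trans ?_ h2.symm
    exact congrArg _ hxy

include hB in
lemma isLocallySurjective_of_basis (h : ∀ U ∈ B, Function.Surjective (ψ.app (op U)).hom) :
    Presheaf.IsLocallySurjective J ψ where
  imageSieve_mem {X} s := by
    obtain ⟨ι, Yc, f, hcov, hY⟩ := hB X
    refine J.superset_covering ?_ hcov
    change Sieve.generate (Presieve.ofArrows Yc f) ≤ _
    rw [Sieve.generate_le_iff]
    rintro W b ⟨i⟩
    obtain ⟨r, hr⟩ := h (Yc i) (hY i) (Q.map (f i).op s)
    exact ⟨r, hr⟩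

end LocBij

section Main
variable {L K : CochainComplex (Sheaf J AddCommGrpCat.{u}) ℤ} (φ : L ⟶ K) (m : ℤ)

/-- the counit of sheafification on complexes -/
noncomputable def counitCx (K : CochainComplex (Sheaf J AddCommGrpCat.{u}) ℤ) :
    ((presheafToSheaf J AddCommGrpCat.{u}).mapHomologicalComplex _).obj
      (((sheafToPresheaf J AddCommGrpCat.{u}).mapHomologicalComplex _).obj K) ⟶ K where
  f i := (sheafificationAdjunction J AddCommGrpCat.{u}).counit.app (K.X i)
  comm' i j _ := by
    exact ((sheafificationAdjunction J AddCommGrpCat.{u}).counit.naturality (K.d i j)).symm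

instance (K : CochainComplex (Sheaf J AddCommGrpCat.{u}) ℤ) : IsIso (counitCx J K) := by
  have : ∀ i, IsIso ((counitCx J K).f i) := fun i => by
    show IsIso ((sheafificationAdjunction J AddCommGrpCat.{u}).counit.app (K.X i))
    infer_instance
  exact HomologicalComplex.Hom.isIso_of_components _

lemma counitCx_naturality :
    ((presheafToSheaf J AddCommGrpCat.{u}).mapHomologicalComplex _).map
      (((sheafToPresheaf J AddCommGrpCat.{u}).mapHomologicalComplex _).map φ) ≫ counitCx J K =
      counitCx J L ≫ φ := by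
  apply HomologicalComplex.hom_ext
  intro i
  exact ((sheafificationAdjunction J AddCommGrpCat.{u}).counit.naturality (φ.f i))

theorem isIso_homologyMap_of_sections (B : Set C)
    (hB : ∀ U : C, ∃ (ι : Type u) (Y : ι → C) (f : ∀ i, Y i ⟶ U),
      Sieve.ofArrows Y f ∈ J U ∧ ∀ i, Y i ∈ B)
    (h : ∀ U ∈ B, IsIso (homologyMap ((CohCx.sectCx J U).map φ) m)) :
    IsIso (homologyMap φ m) := by
  let φ' := ((sheafToPresheaf J AddCommGrpCat.{u}).mapHomologicalComplex _).map φ
  let ψ := homologyMap φ' m
  have h1 : ∀ U ∈ B, IsIso (ψ.app (op U)) := by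
    intro U hU
    have h0 := h U hU
    rw [← quasiIsoAt_iff_isIso_homologyMap] at h0
    have h2 : QuasiIsoAt ((((evaluation Cᵒᵖ AddCommGrpCat.{u}).obj (op U)).mapHomologicalComplex
        _).map φ') m := h0
    exact (quasiIsoAt_map_iff_isIso_map_homologyMap _ φ' m).1 h2
  have hbij : ∀ U ∈ B, Function.Bijective (ψ.app (op U)).hom := fun U hU =>
    (ConcreteCategory.isIso_iff_bijective (ψ.app (op U))).1 (h1 U hU)
  have hinj : Presheaf.IsLocallyInjective J ψ :=
    isLocallyInjective_of_basis ψ B hB (fun U hU => (hbij U hU).1)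
  have hsurj : Presheaf.IsLocallySurjective J ψ :=
    isLocallySurjective_of_basis ψ B hB (fun U hU => (hbij U hU).2)
  have hW : J.W ψ := (J.W_iff_isLocallyBijective ψ).2 ⟨hinj, hsurj⟩
  have h3 : IsIso ((presheafToSheaf J AddCommGrpCat.{u}).map ψ) := (J.W_iff ψ).1 hW
  have h4 : QuasiIsoAt (((presheafToSheaf J AddCommGrpCat.{u}).mapHomologicalComplex _).map φ') m :=
    (quasiIsoAt_map_iff_isIso_map_homologyMap _ φ' m).2 h3
  have h5 : QuasiIsoAt (counitCx J L ≫ φ) m := by
    rw [← counitCx_naturality]
    infer_instance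
  have h6 : QuasiIsoAt φ m := (quasiIsoAt_iff_comp_left (counitCx J L) φ m).1 h5
  exact (quasiIsoAt_iff_isIso_homologyMap φ m).1 h6

end Main

section Lim
variable (F : ℕ → CochainComplex (Sheaf J AddCommGrpCat.{u}) ℤ) (t : ∀ n, F (n + 1) ⟶ F n)
  (U : C) (j : ℤ)

/-- the functor "sections over `U` of the degree `j` term" -/
noncomputable abbrev secFun : CochainComplex (Sheaf J AddCommGrpCat.{u}) ℤ ⥤ AddCommGrpCat.{u} :=
  HomologicalComplex.eval _ _ j ⋙ sheafToPresheaf J AddCommGrpCat.{u} ⋙
    (evaluation Cᵒᵖ AddCommGrpCat.{u}).obj (op U)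

lemma secFun_map_compat (x : ∀ n, ((CohCx.sectCx J U).obj (F n)).X j)
    (hx : ∀ n, (((CohCx.sectCx J U).map (t n)).f j).hom (x (n + 1)) = x n) :
    ∀ (a b : ℕ) (hab : b ≤ a),
      ((CohCx.opSequence F t ⋙ secFun J U j).map (homOfLE hab).op).hom (x a) = x b := by
  intro a b hab
  induction a, hab using Nat.le_induction with
  | base =>
    have h1 : (homOfLE (le_refl b)).op = 𝟙 (op b) := rfl
    rw [h1, CategoryTheory.Functor.map_id]
    rfl
  | succ a hab ih =>
    have h1 : (homOfLE (hab.trans (Nat.le_succ a))).op =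
        (homOfLE (Nat.le_add_right a 1)).op ≫ (homOfLE hab).op := rfl
    have h2 : (homOfLE (Nat.le_succ_of_le hab)).op = (homOfLE (hab.trans (Nat.le_succ a))).op :=
      rfl
    rw [h2, h1, CategoryTheory.Functor.map_comp]
    have h3 : (CohCx.opSequence F t ⋙ secFun J U j).map (homOfLE (Nat.le_add_right a 1)).op =
        ((CohCx.sectCx J U).map (t a)).f j := by
      show (secFun J U j).map ((CohCx.opSequence F t).map (homOfLE (Nat.le_add_right a 1)).op) = _
      rw [Functor.ofOpSequence_map_homOfLE_succ]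
      rfl
    rw [h3]
    show ((CohCx.opSequence F t ⋙ secFun J U j).map (homOfLE hab).op).hom
      ((((CohCx.sectCx J U).map (t a)).f j).hom (x (a + 1))) = x b
    rw [hx a, ih]

theorem exists_section_limit (x : ∀ n, ((CohCx.sectCx J U).obj (F n)).X j)
    (hx : ∀ n, (((CohCx.sectCx J U).map (t n)).f j).hom (x (n + 1)) = x n) :
    ∃ l : ((CohCx.sectCx J U).obj (limit (CohCx.opSequence F t))).X j,
      ∀ n, (((CohCx.sectCx J U).map (limit.π (CohCx.opSequence F t) (op n))).f j).hom l = x n := by
  have hlim := isLimitOfPreserves (secFun J U j) (limit.isLimit (CohCx.opSequence F t))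
  obtain ⟨l, hl⟩ := Groth.Agent.Lib.Helper13.MLLim.cone_exists_of_section hlim
    (fun a => x a.unop) (by
      intro a b f
      have hf : f = (homOfLE (leOfHom f.unop)).op := Subsingleton.elim _ _
      rw [hf]
      exact secFun_map_compat J F t U j x hx a.unop b.unop _)
  exact ⟨l, fun n => hl (op n)⟩

theorem section_limit_ext
    (l : ((CohCx.sectCx J U).obj (limit (CohCx.opSequence F t))).X j)
    (h : ∀ n, (((CohCx.sectCx J U).map (limit.π (CohCx.opSequence F t) (op n))).f j).hom l = 0) :
    l = 0 := by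
  have hlim := isLimitOfPreserves (secFun J U j) (limit.isLimit (CohCx.opSequence F t))
  refine Groth.Agent.Lib.Helper13.MLLim.cone_ext hlim l 0 (fun a => ?_)
  have h1 := h a.unop
  refine Eq.trans h1 ?_
  exact (map_zero _).symm

end Lim

end Groth.Agent.Lib.Helper53.HomShf
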