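import Groth.Agent.Lib.Helper53.LocData
import Groth.Agent.Lib.Helper53.HomShf

/-!
# Vanishing of cohomology objects from local vanishing of `Hom(T_U, K[m])` on a basis (helper53)
-/

set_option autoImplicit false
universe w u
open CategoryTheory Limits Pretriangulated Opposite

namespace Groth.Agent.Lib.Helper53.LocVanish

open DerivedCategory Groth.Agent.Lib.Helper53.LocData

/-- coverings can be refined to coverings by members of a basis inside a given covering sieve -/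
lemma exists_refinement {C : Type u} [SmallCategory C] (J : GrothendieckTopology C) (B : Set C)
    (hB : ∀ U : C, ∃ (ι : Type u) (Y : ι → C) (g : ∀ i, Y i ⟶ U),
      Sieve.ofArrows Y g ∈ J U ∧ ∀ i, Y i ∈ B)
    (V : C) (T : Sieve V) (hT : T ∈ J V) :
    ∃ (ι : Type u) (Y : ι → C) (g : ∀ i, Y i ⟶ V),
      (∀ i, T.arrows (g i)) ∧ Sieve.ofArrows Y g ∈ J V ∧ ∀ i, Y i ∈ B := by
  choose ι Y g hcov hYB using hB
  refine ⟨Σ (a : Σ (W : C), {f : W ⟶ V // T.arrows f}), ι a.1,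
    fun i => Y i.1.1 i.2, fun i => g i.1.1 i.2 ≫ i.1.2.1, ?_, ?_, fun i => hYB _ _⟩
  · intro i
    exact T.downward_closed i.1.2.2 _
  · refine J.transitive hT _ ?_
    intro W f hf
    refine J.superset_covering ?_ (hcov W)
    change Sieve.generate (Presieve.ofArrows (Y W) (g W)) ≤ _
    rw [Sieve.generate_le_iff]
    rintro Z b ⟨i⟩
    show (Sieve.ofArrows _ _).arrows (g W i ≫ f)
    exact Sieve.ofArrows_mk _ _ (⟨⟨W, ⟨f, hf⟩⟩, i⟩ :
      Σ (a : Σ (W : C), {f : W ⟶ V // T.arrows f}), ι a.1)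

variable {C : Type u} [SmallCategory C] {J : GrothendieckTopology C}
  {𝒜 : Type (u + 1)} [Category.{u} 𝒜] [Abelian 𝒜] [HasDerivedCategory.{w} 𝒜]
  (D : LocData C J 𝒜)

lemma HSres_comp (K : DerivedCategory 𝒜) (m : ℤ) {U V W : C} (f : V ⟶ U) (g : W ⟶ V)
    (s : HS D K m U) : HSres D K m (g ≫ f) s = HSres D K m g (HSres D K m f s) := by
  show (D.Γ.obj ((homologyFunctor 𝒜 m).obj K)).obj.map (g ≫ f).op s = _
  rw [op_comp, Functor.map_comp]
  rfl

/-- if `Hom(T_U, K[m]) = 0` for all `U` in a basis, then `H^m(K) = 0` -/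
theorem isZero_homology_of_subsingleton_HDU (K : DerivedCategory 𝒜) (m : ℤ) (B : Set C)
    (hB : ∀ U : C, ∃ (ι : Type u) (Y : ι → C) (g : ∀ i, Y i ⟶ U),
      Sieve.ofArrows Y g ∈ J U ∧ ∀ i, Y i ∈ B)
    (hv : ∀ U ∈ B, Subsingleton (HDU D K m U)) :
    IsZero ((homologyFunctor 𝒜 m).obj K) := by
  have hloc : ∀ (U : C) (s : HS D K m U), ∃ S : Sieve U, S ∈ J U ∧
      ∀ ⦃W : C⦄ (f : W ⟶ U), S f → HSres D K m f s = 0 := by
    intro U s
    obtain ⟨S, hS⟩ := loc_surj D K m U s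
    obtain ⟨ι, Yc, gc, hT, hcov, hYB⟩ := exists_refinement J B hB U S.1 S.2
    refine ⟨Sieve.ofArrows Yc gc, hcov, ?_⟩
    rintro W f ⟨Z, l, k, hk, rfl⟩
    obtain ⟨i⟩ := hk
    obtain ⟨φ, hφ⟩ := hS ⟨Yc i, gc i, hT i⟩
    have h0 : (singleFunctor _ 0).map (D.Tmap (𝟙 (Yc i))) ≫ φ = 0 :=
      (hv (Yc i) (hYB i)).elim _ _
    have h1 : HSres D K m (gc i) s = 0 := by
      have h2 := kU_res D K m (𝟙 (Yc i)) φ
      rw [h0, kU_zero] at h2
      have h3 : HSres D K m (𝟙 (Yc i)) (kU D K m (Yc i) φ) = kU D K m (Yc i) φ := by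
        show (D.Γ.obj ((homologyFunctor 𝒜 m).obj K)).obj.map (𝟙 (Yc i)).op _ = _
        rw [op_id, CategoryTheory.Functor.map_id]
        rfl
      rw [h3] at h2
      rw [← hφ]
      exact h2.symm
    rw [HSres_comp, h1]
    exact map_zero _
  let M := (homologyFunctor 𝒜 m).obj K
  haveI : Mono (0 : M ⟶ M) := by
    apply D.mono_of_locInj
    refine ⟨fun {U} x y _ => ?_⟩
    obtain ⟨Sx, hSx, hx⟩ := hloc U.unop x
    obtain ⟨Sy, hSy, hy⟩ := hloc U.unop y
    refine J.superset_covering ?_ (J.intersection_covering hSx hSy)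
    rintro W f ⟨h1, h2⟩
    show (D.Γ.obj M).obj.map f.op x = (D.Γ.obj M).obj.map f.op y
    exact (hx f h1).trans (hy f h2).symm
  exact IsZero.of_mono_eq_zero (0 : M ⟶ M) rfl

end Groth.Agent.Lib.Helper53.LocVanish
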