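import Groth.Agent.Lib.Helper53.LocConst
import Groth.Agent.Lib.Helper53.LocVanish

/-!
# The abstract local data of the category of modules over a ring (one-point site) (helper53)
-/

set_option autoImplicit false
universe w u
open CategoryTheory Limits Opposite

namespace Groth.Agent.Lib.Helper53.ModCatLoc

open DerivedCategory Groth.Agent.Lib.Helper53.LocData

/-- the one-point category -/
abbrev Pt : Type u := Discrete PUnit.{u + 1}

variable (R : Type u) [Ring R]

/-- the underlying "sheaf" on the one-point site -/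
noncomputable def Γ₀ : ModuleCat.{u} R ⥤ Sheaf (⊥ : GrothendieckTopology Pt.{u}) AddCommGrpCat.{u} :=
  forget₂ (ModuleCat.{u} R) AddCommGrpCat.{u} ⋙ Functor.const Pt.{u}ᵒᵖ ⋙
    (sheafBotEquivalence AddCommGrpCat.{u}).inverse

/-- morphisms out of `R` are elements -/
noncomputable def sec (G : ModuleCat.{u} R) : (ModuleCat.of R R ⟶ G) ≃+ G where
  toFun g := g.hom (1 : R)
  invFun x := ModuleCat.ofHom (LinearMap.toSpanSingleton R G x)
  left_inv g := by
    ext
    simp
  right_inv x := by simp
  map_add' g g' := rfl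

/-- the local data of `ModuleCat R` -/
noncomputable def modCatLocData :
    LocData Pt.{u} (⊥ : GrothendieckTopology Pt.{u}) (ModuleCat.{u} R) where
  Γ := Γ₀ R
  T _ := ModuleCat.of R R
  Tmap _ := 𝟙 _
  sec _ G := sec R G
  sec_right _ {G G'} φ g := rfl
  sec_left {U V} i G g := by
    show (𝟙 _ ≫ g).hom (1 : R) = g.hom (1 : R)
    rw [Category.id_comp]
  cover_lift {A B} π _ U g := by
    have hs : Function.Surjective π := (ModuleCat.epi_iff_surjective π).1 inferInstance
    obtain ⟨x, hx⟩ := hs (g.hom (1 : R))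
    refine ⟨⊤, fun a => ⟨(sec R A).symm x, ?_⟩⟩
    apply (sec R B).injective
    show ((sec R A).symm x ≫ π).hom (1 : R) = (𝟙 _ ≫ g).hom (1 : R)
    rw [Category.id_comp]
    show π.hom (((sec R A).symm x).hom (1 : R)) = g.hom 1
    have : ((sec R A).symm x).hom (1 : R) = x := (sec R A).apply_symm_apply x
    rw [this]
    exact hx
  epi_of_locSurj {A B} φ h := by
    rw [ModuleCat.epi_iff_surjective]
    intro s
    have h1 := h.imageSieve_mem (U := ⟨PUnit.unit⟩) (s : B)
    rw [GrothendieckTopology.bot_covering] at h1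
    have h2 : (Presheaf.imageSieve ((Γ₀ R).map φ).hom (s : B)).arrows
        (𝟙 (⟨PUnit.unit⟩ : Pt.{u})) := by
      rw [h1]; trivial
    obtain ⟨t, ht⟩ := h2
    exact ⟨t, ht.trans (by
      show ((Γ₀ R).obj B).obj.map (𝟙 _) s = s
      rw [CategoryTheory.Functor.map_id]; rfl)⟩
  mono_of_locInj {A B} φ h := by
    rw [ModuleCat.mono_iff_injective]
    intro x y hxy
    have h1 := h.equalizerSieve_mem (X := op ⟨PUnit.unit⟩) (x : A) (y : A) hxy
    rw [GrothendieckTopology.bot_covering] at h1
    have h2 : (Presheaf.equalizerSieve (F := ((Γ₀ R).obj A).obj) (x : A) (y : A)).arrows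
        (𝟙 (⟨PUnit.unit⟩ : Pt.{u})) := by
      rw [h1]; trivial
    have h3 : ((Γ₀ R).obj A).obj.map (𝟙 _) x = ((Γ₀ R).obj A).obj.map (𝟙 _) y := h2
    rw [CategoryTheory.Functor.map_id] at h3
    exact h3

end Groth.Agent.Lib.Helper53.ModCatLoc
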