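import Groth.Agent.Lib.Helper53.SchemeTower
import Groth.Agent.Lib.Helper53.ModCatLoc

/-!
# `Ext^{p+1}(R~, F) = 0` for quasi-coherent `F` on `Spec R` (helper53)
-/
set_option autoImplicit false
universe u
open CategoryTheory Limits Opposite AlgebraicGeometry Abelian

namespace Groth.Agent.Lib.Helper53.ExtTildeSelf

open Groth.Agent.Lib.Helper53.ModLoc

variable (R : CommRingCat.{u})

/-- `Hom(R~, G) ≃ Hom(T_⊤, G)` -/
noncomputable def eG (G : (Spec (CommRingCat.of R)).Modules) :
    ((tilde.functor R).obj (ModuleCat.of R R) ⟶ G) ≃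
      (Tm (Opens.grothendieckTopology (Spec (CommRingCat.of R)))
        (Spec (CommRingCat.of R)).ringCatSheaf ⊤ ⟶ G) :=
  ((tilde.adjunction (R := R)).homEquiv (ModuleCat.of R R) G).trans
    ((Groth.Agent.Lib.Helper53.ModCatLoc.sec R (moduleSpecΓFunctor.obj G)).toEquiv.trans
      (sec₀ (Opens.grothendieckTopology (Spec (CommRingCat.of R)))
        (Spec (CommRingCat.of R)).ringCatSheaf ⊤ G).symm)

lemma sec₀_eG (G : (Spec (CommRingCat.of R)).Modules)
    (x : (tilde.functor R).obj (ModuleCat.of R R) ⟶ G) :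
    sec₀ (Opens.grothendieckTopology (Spec (CommRingCat.of R)))
        (Spec (CommRingCat.of R)).ringCatSheaf ⊤ G (eG R G x) =
      (((tilde.adjunction (R := R)).homEquiv (ModuleCat.of R R) G x).hom (1 : R) :
        ((SheafOfModules.toSheaf (Spec (CommRingCat.of R)).ringCatSheaf).obj G).obj.obj (op ⊤)) :=
  Equiv.apply_symm_apply (sec₀ (Opens.grothendieckTopology (Spec (CommRingCat.of R)))
        (Spec (CommRingCat.of R)).ringCatSheaf ⊤ G) _

lemma eG_naturality {G G' : (Spec (CommRingCat.of R)).Modules} (φ : G ⟶ G')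
    (x : (tilde.functor R).obj (ModuleCat.of R R) ⟶ G) :
    eG R G' (x ≫ φ) = eG R G x ≫ φ := by
  apply (sec₀ (Opens.grothendieckTopology (Spec (CommRingCat.of R)))
        (Spec (CommRingCat.of R)).ringCatSheaf ⊤ G').injective
  refine (sec₀_eG R G' (x ≫ φ)).trans ?_
  refine Eq.trans ?_ (sec₀_right (Opens.grothendieckTopology (Spec (CommRingCat.of R)))
        (Spec (CommRingCat.of R)).ringCatSheaf ⊤ φ (eG R G x)).symm
  rw [sec₀_eG R G x, Adjunction.homEquiv_naturality_right]
  rfl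

lemma nonempty_tilde_self_iso :
    Nonempty ((tilde.functor R).obj (ModuleCat.of R R) ≅
      Tm (Opens.grothendieckTopology (Spec (CommRingCat.of R)))
        (Spec (CommRingCat.of R)).ringCatSheaf ⊤) :=
  nonempty_iso_of_natural_equiv _ _ (eG R) (fun φ x => eG_naturality R φ x)

lemma subsingleton_ext_of_iso {𝒞 : Type*} [Category 𝒞] [Abelian 𝒞] [HasExt.{u} 𝒞] {A B F : 𝒞}
    (e : A ≅ B) (n : ℕ) (h : Subsingleton (Ext.{u} B F n)) : Subsingleton (Ext.{u} A F n) := by
  have key : ∀ z : Ext.{u} A F n, z = 0 := by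
    intro z
    have h1 : z = (Ext.mk₀ e.hom).comp ((Ext.mk₀ e.inv).comp z (zero_add _)) (zero_add _) := by
      rw [← Ext.comp_assoc_of_second_deg_zero, Ext.mk₀_comp_mk₀, e.hom_inv_id, Ext.mk₀_id_comp]
    have h2 : (Ext.mk₀ e.inv).comp z (zero_add _) = 0 := h.elim _ _
    rw [h1, h2, Ext.comp_zero]
  exact ⟨fun x y => by rw [key x, key y]⟩

theorem subsingleton_ext_tilde_self (F : (Spec (CommRingCat.of R)).Modules) (hF : Coh.IsQCoh F)
    (p : ℕ) [HasExt.{u} (Spec (CommRingCat.of R)).Modules] :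
    Subsingleton (Abelian.Ext.{u} ((tilde.functor R).obj (ModuleCat.of R R)) F (p + 1)) := by
  obtain ⟨e⟩ := nonempty_tilde_self_iso R
  exact subsingleton_ext_of_iso e (p + 1)
    (Groth.Agent.Lib.Helper53.SchemeTower.hvan ⊤ (isAffineOpen_top _) F hF p)

end Groth.Agent.Lib.Helper53.ExtTildeSelf
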