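import Groth.Agent.Lib.Helper53.ProdExtTower

/-!
# Products and towers acyclic for a class of test objects (helper53)

Abstract version of `ProdExtTop`: `𝒜` an abelian category with `Ext` and enough injectives, `𝒯` a class
of test objects which detects epimorphisms (`Detects`).  An object is `Good` if `Ext^{q+1}(T, -)`
vanishes on it for all `T ∈ 𝒯`.
-/

set_option autoImplicit false
universe w v u
open CategoryTheory Limits Abelian Opposite

namespace Groth.Agent.Lib.Helper53.RlimAbs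

open Groth.Agent.Lib.Helper53.ProdExt

variable {𝒜 : Type u} [Category.{v} 𝒜] [Abelian 𝒜] [HasExt.{w} 𝒜]

/-- morphisms from `T` lift along `φ` -/
def LiftsOn (T : 𝒜) {A A' : 𝒜} (φ : A ⟶ A') : Prop :=
  ∀ t : T ⟶ A', ∃ s : T ⟶ A, s ≫ φ = t

/-- the class `𝒯` detects epimorphisms -/
def Detects (𝒯 : Set 𝒜) : Prop :=
  ∀ {A A' : 𝒜} (φ : A ⟶ A'), (∀ T ∈ 𝒯, LiftsOn T φ) → Epi φ

/-- acyclic for the test objects -/
def Good (𝒯 : Set 𝒜) (G : 𝒜) : Prop :=
  ∀ T ∈ 𝒯, ∀ q : ℕ, Subsingleton (Ext.{w} T G (q + 1))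

variable {𝒯 : Set 𝒜}

lemma liftsOn_of_ext_one {S : ShortComplex 𝒜} (hS : S.ShortExact) (T : 𝒜)
    (h : Subsingleton (Ext.{w} T S.X₁ 1)) : LiftsOn T S.g := by
  intro t
  have h0 : (Ext.mk₀ t).comp hS.extClass (zero_add 1) = 0 := Subsingleton.elim _ _
  obtain ⟨s, hs⟩ := Ext.covariant_sequence_exact₃ _ hS (Ext.mk₀ t) (zero_add 1) h0
  obtain ⟨s', rfl⟩ := (Ext.mk₀_bijective _ _).2 s
  refine ⟨s', ?_⟩
  apply (Ext.mk₀_bijective _ _).1
  rw [← Ext.mk₀_comp_mk₀]
  exact hs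

lemma liftsOn_piMap {ι : Type*} {I Q : ι → 𝒜} [HasProduct I] [HasProduct Q]
    (g : ∀ n, I n ⟶ Q n) (T : 𝒜)
    (h : ∀ n, LiftsOn T (g n)) : LiftsOn T (Limits.Pi.map g) := by
  intro t
  choose s hs using fun n => h n (t ≫ Pi.π Q n)
  refine ⟨Pi.lift s, ?_⟩
  apply Limits.Pi.hom_ext
  intro n
  rw [Category.assoc, Limits.Pi.map_π, Pi.lift_π_assoc, hs]

lemma good_cokernel {S : ShortComplex 𝒜} (hS : S.ShortExact) (hX₁ : Good.{w} 𝒯 S.X₁)
    [Injective S.X₂] : Good.{w} 𝒯 S.X₃ := by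
  intro V hV q
  have key : ∀ y : Ext.{w} V S.X₃ (q + 1), y = 0 := by
    intro y
    have h0 : y.comp hS.extClass rfl = 0 := (hX₁ V hV (q + 1)).elim _ _
    obtain ⟨x₂, hx₂⟩ := Ext.covariant_sequence_exact₃ _ hS y rfl h0
    rw [← hx₂, Ext.eq_zero_of_injective x₂, Ext.zero_comp]
  exact ⟨fun a b => by rw [key a, key b]⟩

variable [EnoughInjectives 𝒜]

theorem cmp_bijective_of_good {ι : Type*} [HasProductsOfShape ι 𝒜]
    (hdet : Detects 𝒯) :
    ∀ (i : ℕ) (G : ι → 𝒜) (_ : ∀ n, Good.{w} 𝒯 (G n)) (T : 𝒜),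
      Function.Bijective (cmp.{w} T G i)
  | 0, G, _, T => cmp_zero_bijective T G
  | i + 1, G, hG, T => by
    let I := fun n => Injective.under (G n)
    let f : ∀ n, G n ⟶ I n := fun n => Injective.ι (G n)
    let Q := fun n => cokernel (f n)
    let g : ∀ n, I n ⟶ Q n := fun n => cokernel.π (f n)
    have w : ∀ n, f n ≫ g n = 0 := fun n => cokernel.condition _
    have hS : ∀ n, (ShortComplex.mk (f n) (g n) (w n)).ShortExact := fun n =>
      ShortComplex.ShortExact.mk' (ShortComplex.exact_cokernel (f n)) inferInstance inferInstance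
    haveI : ∀ n, Injective (I n) := fun n => inferInstance
    have hQ : ∀ n, Good.{w} 𝒯 (Q n) := fun n => good_cokernel (hS n) (hG n)
    have hepi : Epi (Limits.Pi.map g) := hdet _ (fun V hV =>
      liftsOn_piMap g V (fun n => liftsOn_of_ext_one (hS n) V (hG n V hV 0)))
    have hmono : Mono (Limits.Pi.map f) := inferInstance
    have hP : (ShortComplex.mk (Limits.Pi.map f) (Limits.Pi.map g)
        (piMap_comp_zero f g w)).ShortExact :=
      ShortComplex.ShortExact.mk' (piMap_exact f g w (fun n => (hS n).exact)) hmono hepi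
    exact cmp_bijective_succ T f g w hS hP i (cmp_surjective_of_injective T I i)
      (cmp_bijective_of_good hdet i Q hQ T)

section Tower
variable [HasProductsOfShape ℕ 𝒜] (F : ℕᵒᵖ ⥤ 𝒜) [HasLimit F]

theorem towerSC_shortExact (hdet : Detects 𝒯) (hl : ∀ T ∈ 𝒯, LiftsOn T (diff F)) :
    (towerSC F).ShortExact :=
  ShortComplex.ShortExact.mk' (towerSC_exact F) inferInstance (hdet _ hl)

/-- the limit of a tower of good objects with `R¹lim = 0` on test objects is good -/
theorem good_limit (hdet : Detects 𝒯) (hl : ∀ T ∈ 𝒯, LiftsOn T (diff F))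
    (hG : ∀ n, Good.{w} 𝒯 (tobj F n)) : Good.{w} 𝒯 (limit F) := by
  have hS := towerSC_shortExact F hdet hl
  have hzero : ∀ T ∈ 𝒯, ∀ (q : ℕ) (y : Ext.{w} T (∏ᶜ (tobj F)) (q + 1)), y = 0 := by
    intro T hT q y
    apply (cmp_bijective_of_good hdet (q + 1) (tobj F) hG T).1
    funext n
    exact (hG n T hT q).elim _ _
  intro T hT q
  have key : ∀ x : Ext.{w} T (limit F) (q + 1), x = 0 := by
    intro x
    have h0 : x.comp (Ext.mk₀ (towerSC F).f) (add_zero (q + 1)) = 0 := hzero T hT q _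
    obtain ⟨y, hy⟩ := Ext.covariant_sequence_exact₁ T hS x h0 (n₀ := q) rfl
    rw [← hy]
    cases q with
    | zero =>
      obtain ⟨t, rfl⟩ := (Ext.mk₀_bijective _ _).2 y
      obtain ⟨s, rfl⟩ := hl T hT t
      rw [← Ext.mk₀_comp_mk₀, Ext.comp_assoc_of_second_deg_zero]
      have h2 : (Ext.mk₀ (towerSC F).g).comp hS.extClass (zero_add 1) = 0 := hS.comp_extClass
      have h3 : (Ext.mk₀ (diff F)).comp hS.extClass (zero_add 1) = 0 := h2
      rw [h3, Ext.comp_zero]
    | succ q' =>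
      have : y = 0 := hzero T hT q' y
      rw [this, Ext.zero_comp]
  exact ⟨fun a b => by rw [key a, key b]⟩

end Tower

end Groth.Agent.Lib.Helper53.RlimAbs
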