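import Groth.Agent.Lib.Helper53.ExtTildeSelf
import Groth.Agent.Lib.Helper53.RlimAbs
import Groth.Agent.Lib.Helper21.QCohKernel
import Groth.Prelude.Def_WeakSerre

/-!
# Quasi-coherent modules on `Spec R` form a weak Serre subcategory (helper53)
-/

set_option autoImplicit false
universe u
open CategoryTheory Limits Opposite AlgebraicGeometry Abelian ZeroObject

namespace Groth.Agent.Lib.Helper53.QCohWSerre

variable (R : CommRingCat.{u})

/-- global sections preserve the epimorphism of a short exact sequence with quasi-coherent kernel -/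
lemma surjective_Γ_map (S : ShortComplex (Spec (CommRingCat.of R)).Modules) (hS : S.ShortExact)
    (h₁ : Coh.IsQCoh S.X₁) : Function.Surjective ((moduleSpecΓFunctor (R := R)).map S.g) := by
  haveI hG : IsGrothendieckAbelian.{u} (Spec (CommRingCat.of R)).Modules :=
    Groth.Agent.Lib.Helper53.ModGroth.isGrothendieckAbelian
      (Opens.grothendieckTopology (Spec (CommRingCat.of R))) (Spec (CommRingCat.of R)).ringCatSheaf
  haveI : HasExt.{u} (Spec (CommRingCat.of R)).Modules := hasExt_of_enoughInjectives _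
  have hl := Groth.Agent.Lib.Helper53.RlimAbs.liftsOn_of_ext_one hS
    ((tilde.functor R).obj (ModuleCat.of R R))
    (Groth.Agent.Lib.Helper53.ExtTildeSelf.subsingleton_ext_tilde_self R S.X₁ h₁ 0)
  intro y
  let adj := tilde.adjunction (R := R)
  let t : (tilde.functor R).obj (ModuleCat.of R R) ⟶ S.X₃ :=
    (adj.homEquiv _ _).symm ((Groth.Agent.Lib.Helper53.ModCatLoc.sec R _).symm y)
  obtain ⟨s, hs⟩ := hl t
  refine ⟨Groth.Agent.Lib.Helper53.ModCatLoc.sec R _ (adj.homEquiv _ _ s), ?_⟩
  have h1 : adj.homEquiv _ _ (s ≫ S.g) = adj.homEquiv _ _ s ≫ (moduleSpecΓFunctor (R := R)).map S.g :=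
    Adjunction.homEquiv_naturality_right _ _ _
  rw [hs] at h1
  have h2 : adj.homEquiv _ _ t = (Groth.Agent.Lib.Helper53.ModCatLoc.sec R _).symm y :=
    (adj.homEquiv _ _).apply_symm_apply _
  rw [h2] at h1
  have h3 := congrArg (Groth.Agent.Lib.Helper53.ModCatLoc.sec R _) h1
  rw [AddEquiv.apply_symm_apply] at h3
  exact h3.symm

theorem isWeakSerre_qcoh_spec [PreservesFiniteLimits (tilde.functor R)] :
    WSerre.IsWeakSerre (fun M : (Spec (CommRingCat.of R)).Modules => Coh.IsQCoh M) := by
  let adj := tilde.adjunction (R := R)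
  haveI : (moduleSpecΓFunctor (R := R)).Additive := adj.right_adjoint_additive
  haveI : PreservesFiniteColimits (tilde.functor R) := by
    haveI := adj.leftAdjoint_preservesColimits
    infer_instance
  haveI : PreservesLimits (moduleSpecΓFunctor (R := R)) := adj.rightAdjoint_preservesLimits
  have hiso : ∀ {M N : (Spec (CommRingCat.of R)).Modules} (e : M ≅ N), Coh.IsQCoh M → Coh.IsQCoh N :=
    fun e h => (SheafOfModules.isQuasicoherent (Spec (CommRingCat.of R)).ringCatSheaf).prop_of_iso e h
  refine { exists_zero := ?_, kernels_le := ?_, cokernels_le := ?_, prop_X₂_of_shortExact := ?_ }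
  · exact ⟨(tilde.functor R).obj 0, (tilde.functor R).map_isZero (isZero_zero _),
      (inferInstance : ((tilde.functor R).obj 0).IsQuasicoherent)⟩
  · rintro _ ⟨f, k, hk, ⟨hX, hY⟩⟩
    exact hiso (IsLimit.conePointUniqueUpToIso (kernelIsKernel f) hk)
      (@Groth.Agent.Lib.Helper21.QCohKernel.isQuasicoherent_kernel _ _ _ f hX hY)
  · rintro _ ⟨f, k, hk, ⟨hX, hY⟩⟩
    exact hiso (IsColimit.coconePointUniqueUpToIso (cokernelIsCokernel f) hk)
      (@Groth.Agent.Lib.Helper21.QCohKernel.isQuasicoherent_cokernel _ _ _ f hX hY)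
  · intro S hS h₁ h₃
    haveI := hS.mono_f
    haveI : Epi ((moduleSpecΓFunctor (R := R)).map S.g) :=
      (ModuleCat.epi_iff_surjective _).2 (surjective_Γ_map R S hS h₁)
    have hΓS : (S.map (moduleSpecΓFunctor (R := R))).ShortExact :=
      ShortComplex.ShortExact.mk'
        (hS.exact.map_of_mono_of_preservesKernel _ inferInstance inferInstance)
        (show Mono ((moduleSpecΓFunctor (R := R)).map S.f) from inferInstance)
        (show Epi ((moduleSpecΓFunctor (R := R)).map S.g) from inferInstance)
    have hLΓS : ((S.map (moduleSpecΓFunctor (R := R))).map (tilde.functor R)).ShortExact :=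
      hΓS.map_of_exact (tilde.functor R)
    let φ : (S.map (moduleSpecΓFunctor (R := R))).map (tilde.functor R) ⟶ S :=
      { τ₁ := adj.counit.app S.X₁
        τ₂ := adj.counit.app S.X₂
        τ₃ := adj.counit.app S.X₃
        comm₁₂ := (adj.counit.naturality S.f).symm
        comm₂₃ := (adj.counit.naturality S.g).symm }
    haveI : IsIso φ.τ₁ :=
      @Scheme.Modules.isIso_fromTildeΓ_of_isQuasicoherent R S.X₁ h₁
    haveI : IsIso φ.τ₃ :=
      @Scheme.Modules.isIso_fromTildeΓ_of_isQuasicoherent R S.X₃ h₃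
    haveI := ShortComplex.isIso₂_of_shortExact_of_isIso₁₃ φ hLΓS hS
    exact hiso (asIso φ.τ₂)
      (inferInstance : ((tilde.functor R).obj ((moduleSpecΓFunctor (R := R)).obj S.X₂)).IsQuasicoherent)

end Groth.Agent.Lib.Helper53.QCohWSerre
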