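import Groth.Agent.Lib.Helper62.WSerreEquiv

/-!
# The derived unit on `single N` when the exact functor `L₀` is bijective on morphisms into `N`
(helper53; variant of `AdjSingle`)
-/

set_option autoImplicit false
universe w w' v v' u u'
open CategoryTheory Limits

namespace Groth.Agent.Lib.Helper53.AdjSingle2

open DerivedCategory

section Derived

variable {𝒜 : Type u} [Category.{v} 𝒜] [Abelian 𝒜] [HasDerivedCategory.{w} 𝒜]
  {ℬ : Type u'} [Category.{v'} ℬ] [Abelian ℬ] [HasDerivedCategory.{w'} ℬ]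
  {L₀ : 𝒜 ⥤ ℬ} [L₀.Additive] [PreservesFiniteLimits L₀] [PreservesFiniteColimits L₀]
  {R : DerivedCategory ℬ ⥤ DerivedCategory 𝒜} (adj : L₀.mapDerivedCategory ⊣ R)

/-- the derived functor of `L₀` is bijective on `Hom(single T, single N)` -/
lemma bijective_mapDerivedCategory_map (T N : 𝒜)
    (hb : Function.Bijective (fun φ : T ⟶ N => L₀.map φ)) :
    Function.Bijective (fun φ : (singleFunctor 𝒜 0).obj T ⟶ (singleFunctor 𝒜 0).obj N =>
      L₀.mapDerivedCategory.map φ) := by
  let ι := L₀.mapDerivedCategorySingleFunctor 0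
  have h1 := hb
  have hnat : ∀ φ₀ : T ⟶ N, L₀.mapDerivedCategory.map ((singleFunctor 𝒜 0).map φ₀) =
      ι.hom.app T ≫ (singleFunctor ℬ 0).map (L₀.map φ₀) ≫ ι.inv.app N := by
    intro φ₀
    have := ι.hom.naturality φ₀
    simp only [Functor.comp_map] at this
    rw [← Category.assoc, ← this, Category.assoc, Iso.hom_inv_id_app, Category.comp_id]
  constructor
  · intro φ ψ h
    obtain ⟨φ₀, rfl⟩ := (singleFunctor 𝒜 0).map_surjective φ
    obtain ⟨ψ₀, rfl⟩ := (singleFunctor 𝒜 0).map_surjective ψ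
    have h' : L₀.mapDerivedCategory.map ((singleFunctor 𝒜 0).map φ₀) =
        L₀.mapDerivedCategory.map ((singleFunctor 𝒜 0).map ψ₀) := h
    rw [hnat, hnat] at h'
    have h2 := (cancel_epi (ι.hom.app T)).1 h'
    have h3 := (cancel_mono (ι.inv.app N)).1 h2
    have h4 := (singleFunctor ℬ 0).map_injective h3
    rw [h1.1 h4]
  · intro y
    obtain ⟨y₀, hy₀⟩ := (singleFunctor ℬ 0).map_surjective
      (ι.inv.app T ≫ y ≫ ι.hom.app N)
    obtain ⟨φ₀, hφ₀⟩ := h1.2 y₀
    refine ⟨(singleFunctor 𝒜 0).map φ₀, ?_⟩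
    show L₀.mapDerivedCategory.map ((singleFunctor 𝒜 0).map φ₀) = y
    have hφ₀' : L₀.map φ₀ = y₀ := hφ₀
    rw [hnat, hφ₀', hy₀]
    simp

include adj in
/-- postcomposition with the derived unit is bijective on `Hom(single T, single N)` -/
lemma bijective_comp_unit (T N : 𝒜)
    (hb : Function.Bijective (fun φ : T ⟶ N => L₀.map φ)) :
    Function.Bijective (fun φ : (singleFunctor 𝒜 0).obj T ⟶ (singleFunctor 𝒜 0).obj N =>
      φ ≫ adj.unit.app ((singleFunctor 𝒜 0).obj N)) := by
  have h1 := bijective_mapDerivedCategory_map (L₀ := L₀) T N hb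
  have : (fun φ : (singleFunctor 𝒜 0).obj T ⟶ (singleFunctor 𝒜 0).obj N =>
      φ ≫ adj.unit.app ((singleFunctor 𝒜 0).obj N)) =
      (adj.homEquiv _ _) ∘ (fun φ => L₀.mapDerivedCategory.map φ) := by
    funext φ
    show _ = adj.homEquiv _ _ (L₀.mapDerivedCategory.map φ)
    rw [Adjunction.homEquiv_unit]
    exact adj.unit.naturality φ
  rw [this]
  exact (adj.homEquiv _ _).bijective.comp h1

/-- the derived unit at `single N` is invertible as soon as the higher cohomology of the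
target vanishes -/
theorem isIso_unit_single (N : 𝒜)
    (hb : ∀ T : 𝒜, Function.Bijective (fun φ : T ⟶ N => L₀.map φ))
    (hv : ∀ p : ℤ, 0 < p → IsZero ((homologyFunctor 𝒜 p).obj
      (R.obj (L₀.mapDerivedCategory.obj ((singleFunctor 𝒜 0).obj N))))) :
    IsIso (adj.unit.app ((singleFunctor 𝒜 0).obj N)) := by
  let _ : R.CommShift ℤ := adj.rightAdjointCommShift ℤ
  have : adj.CommShift ℤ := adj.commShift_of_leftAdjoint ℤ
  have : R.IsTriangulated := adj.isTriangulated_rightAdjoint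
  let X := (singleFunctor 𝒜 0).obj N
  let Z := R.obj (L₀.mapDerivedCategory.obj X)
  haveI : X.IsGE 0 := by
    show ((singleFunctor 𝒜 0).obj N).IsGE 0
    infer_instance
  haveI : (L₀.mapDerivedCategory.obj X).IsGE 0 :=
    Groth.Agent.Lib.Helper62.WSE.isGE_mapDerivedCategory L₀ X 0
  haveI : Z.IsGE 0 := Groth.Agent.Lib.Helper62.WSE.isGE_rightAdjoint adj _ 0
  haveI : Z.IsLE 0 := by
    rw [isLE_iff]
    intro i hi
    exact hv i hi
  obtain ⟨M, ⟨θ⟩⟩ := exists_iso_singleFunctor_obj_of_isGE_of_isLE Z 0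
  obtain ⟨ψ, hψ⟩ := (singleFunctor 𝒜 0).map_surjective (adj.unit.app X ≫ θ.hom)
  have hψiso : IsIso ψ := by
    apply isIso_of_yoneda_map_bijective
    intro T
    have hb := bijective_comp_unit adj T N (hb T)
    have hθ : Function.Bijective (fun x : (singleFunctor 𝒜 0).obj T ⟶ Z => x ≫ θ.hom) :=
      ⟨fun a b h => (cancel_mono θ.hom).1 h, fun y => ⟨y ≫ θ.inv, by simp⟩⟩
    have hcomp := hθ.comp hb
    constructor
    · intro a b hab
      have hab' : a ≫ ψ = b ≫ ψ := hab
      apply (singleFunctor 𝒜 0).map_injective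
      apply hcomp.1
      show ((singleFunctor 𝒜 0).map a ≫ adj.unit.app X) ≫ θ.hom =
        ((singleFunctor 𝒜 0).map b ≫ adj.unit.app X) ≫ θ.hom
      rw [Category.assoc, Category.assoc, ← hψ, ← Functor.map_comp, ← Functor.map_comp, hab']
    · intro y
      obtain ⟨x, hx⟩ := hcomp.2 ((singleFunctor 𝒜 0).map y)
      obtain ⟨x₀, rfl⟩ := (singleFunctor 𝒜 0).map_surjective x
      refine ⟨x₀, ?_⟩
      apply (singleFunctor 𝒜 0).map_injective
      have hx' : ((singleFunctor 𝒜 0).map x₀ ≫ adj.unit.app X) ≫ θ.hom =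
          (singleFunctor 𝒜 0).map y := hx
      show (singleFunctor 𝒜 0).map (x₀ ≫ ψ) = _
      rw [Functor.map_comp, hψ, ← Category.assoc]
      exact hx'
  have h2 : IsIso (adj.unit.app X ≫ θ.hom) := by
    rw [← hψ]
    infer_instance
  exact IsIso.of_isIso_comp_right (adj.unit.app X) θ.hom

end Derived

end Groth.Agent.Lib.Helper53.AdjSingle2
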