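import Groth.Agent.Lib.Helper53.ClosedEmb
import Groth.Agent.Lib.Helper53.ExtCompare
import Mathlib.Topology.Sheaves.Over

/-!
# Cohomology over an open and cohomology of the restriction
-/

universe u

open CategoryTheory TopologicalSpace Opposite CategoryTheory.Limits Abelian

namespace Groth.Agent.Lib.Helper53

variable {X : TopCat.{u}} (U : Opens X)

/-- the image functor on opens for the inclusion of an open subspace -/
abbrev jFun : Opens (TopCat.of U) ⥤ Opens X := U.isOpenEmbedding.isOpenMap.functor

lemma jFun_top : (jFun U).obj ⊤ = U := by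
  ext x
  constructor
  · rintro ⟨y, -, rfl⟩
    exact y.2
  · intro hx
    exact ⟨⟨x, hx⟩, trivial, rfl⟩

/-- restriction to an open preserves epimorphisms of abelian sheaves -/
theorem restr_map_epi {G H : CohTop.Ab X} (π : G ⟶ H) [Epi π] :
    Epi ((CohTop.restrFunctor U).map π) := by
  rw [← CategoryTheory.Sheaf.isLocallySurjective_iff_epi']
  change TopCat.Presheaf.IsLocallySurjective ((CohTop.restrFunctor U).map π).hom
  rw [TopCat.Presheaf.isLocallySurjective_iff]
  intro V t x hx
  obtain ⟨W, hW, s, hxW, hs⟩ :=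
    exists_local_lift_of_epi π ((jFun U).obj V) t x.1 ⟨x, hx, rfl⟩
  let V' : Opens (TopCat.of U) :=
    ⟨Subtype.val ⁻¹' (W : Set X), W.isOpen.preimage continuous_subtype_val⟩
  have hV'W : (jFun U).obj V' ≤ W := by
    rintro _ ⟨z, hz, rfl⟩
    exact hz
  have hV'V : V' ≤ V := by
    intro z hz
    obtain ⟨z', hz', hzz'⟩ := hW (show z.1 ∈ W from hz)
    have : z' = z := Subtype.ext hzz'
    rw [← this]
    exact hz'
  refine ⟨V', hV'V, ⟨G.obj.map (homOfLE hV'W).op s, ?_⟩, hxW⟩
  change π.hom.app (op ((jFun U).obj V')) (G.obj.map (homOfLE hV'W).op s) =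
    H.obj.map (homOfLE (show (jFun U).obj V' ≤ (jFun U).obj V from
      (jFun U).monotone hV'V)).op t
  rw [app_map_comm, hs, map_map_eq]

/-- restriction to an open is exact -/
instance preservesFiniteColimits_restr : PreservesFiniteColimits (CohTop.restrFunctor U) := by
  rw [Functor.preservesFiniteColimits_iff_forall_exact_map_and_epi]
  intro S hS
  have h0 : PreservesFiniteLimits (CohTop.restrFunctor U) := inferInstance
  have h1 : (S.map (CohTop.restrFunctor U)).Exact ∧ Mono ((CohTop.restrFunctor U).map S.f) :=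
    (((Functor.preservesFiniteLimits_tfae (CohTop.restrFunctor U)).out 3 0 rfl rfl).1 h0) S hS
  have : Epi S.g := hS.epi_g
  exact ⟨h1.1, restr_map_epi U S.g⟩

/-- the restriction of a flasque sheaf to an open is flasque -/
instance isFlasque_restr (F : CohTop.Ab X) [TopCat.Sheaf.IsFlasque F] :
    TopCat.Sheaf.IsFlasque (CohTop.restr F U) where
  epi {V W} i := by
    change Epi (F.obj.map ((jFun U).op.map i))
    infer_instance

/-- the universal section of the free sheaf on an open -/
noncomputable def freeSheafUniv : (freeSheaf U).obj.obj (op U) :=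
  freeSheafHomEquiv U (freeSheaf U) (𝟙 _)

lemma freeSheafHomEquiv_eq (G : CohTop.Ab X) (f : freeSheaf U ⟶ G) :
    freeSheafHomEquiv U G f = f.hom.app (op U) (freeSheafUniv U) := by
  have := freeSheafHomEquiv_naturality_right U f (𝟙 _)
  rwa [Category.id_comp] at this

/-- maps out of the free sheaf on `U` are sections over `U`, additively -/
noncomputable def freeSheafHomAddEquiv (G : CohTop.Ab X) :
    (freeSheaf U ⟶ G) ≃+ G.obj.obj (op U) :=
  { freeSheafHomEquiv U G with
    map_add' := fun f g => by
      change freeSheafHomEquiv U G (f + g) = freeSheafHomEquiv U G f + freeSheafHomEquiv U G g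
      simp only [freeSheafHomEquiv_eq, Sheaf.Hom.add_app]
      rfl }

/-- sections over `U` are global sections of the restriction -/
noncomputable def secEquiv (G : CohTop.Ab X) :
    G.obj.obj (op U) ≃+ (CohTop.restr G U).obj.obj (op ⊤) :=
  (G.obj.mapIso (eqToIso (jFun_top U)).op).addCommGroupIsoToAddEquiv

lemma secEquiv_naturality {G G' : CohTop.Ab X} (φ : G ⟶ G') (s : G.obj.obj (op U)) :
    secEquiv U G' (φ.hom.app (op U) s) =
      ((CohTop.restrFunctor U).map φ).hom.app (op ⊤) (secEquiv U G s) := by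
  have := φ.hom.naturality (eqToIso (jFun_top U)).op.hom
  exact congrArg (fun ψ => ψ.hom s) this.symm

/-- `Hom(ℤ_U, G) ≃ Hom(ℤ, G|_U)` in terms of `Ext^0` -/
noncomputable def restrTheta (G : CohTop.Ab X) :
    Ext (freeSheaf U) G 0 ≃+ CohTop.H ((CohTop.restrFunctor U).obj G) 0 :=
  ((Ext.addEquiv₀.trans (freeSheafHomAddEquiv U G)).trans (secEquiv U G)).trans
    (Sheaf.H.equiv₀ ((CohTop.restrFunctor U).obj G) isTerminalTop).symm

lemma restrTheta_naturality {G G' : CohTop.Ab X} (φ : G ⟶ G') (x : Ext (freeSheaf U) G 0) :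
    restrTheta U G' (x.comp (Ext.mk₀ φ) (add_zero 0)) =
      (restrTheta U G x).comp (Ext.mk₀ ((CohTop.restrFunctor U).map φ)) (add_zero 0) := by
  obtain ⟨g, rfl⟩ := (Ext.mk₀_bijective _ _).2 x
  rw [Ext.mk₀_comp_mk₀]
  have h1 : ∀ (K : CohTop.Ab X) (k : freeSheaf U ⟶ K), restrTheta U K (Ext.mk₀ k) =
      (Sheaf.H.equiv₀ ((CohTop.restrFunctor U).obj K) isTerminalTop).symm
        (secEquiv U K (freeSheafHomEquiv U K k)) := by
    intro K k
    simp only [restrTheta, AddEquiv.trans_apply]
    congr 2
    have : Ext.addEquiv₀ (Ext.mk₀ k) = k := by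
      apply Ext.addEquiv₀.symm.injective
      simp
    rw [this]
    rfl
  rw [h1, h1, freeSheafHomEquiv_naturality_right, secEquiv_naturality,
    ← Sheaf.H.equiv₀_symm_naturality]
  rfl

/-- cohomology over an open agrees with cohomology of the restriction -/
theorem nonempty_HU_equiv_H_restr (F : CohTop.Ab X) (n : ℕ) :
    Nonempty (CohTop.HU F n U ≃+ CohTop.H (CohTop.restr F U) n) :=
  ExtCompare.nonempty_ext_equiv (CohTop.restrFunctor U) (freeSheaf U)
    ((constantSheaf (Opens.grothendieckTopology (TopCat.of U)) AddCommGrpCat.{u}).obj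
      (AddCommGrpCat.of (ULift ℤ)))
    (restrTheta U) (fun φ x => restrTheta_naturality U φ x)
    (fun I _ n x => by
      have h1 : TopCat.Sheaf.IsFlasque I := isFlasque_of_injective I
      have h2 : TopCat.Sheaf.IsFlasque ((CohTop.restrFunctor U).obj I) := isFlasque_restr U I
      exact ext_succ_eq_zero_of_isFlasque _ constantSheaf_lift n
        ((CohTop.restrFunctor U).obj I) x) n F

end Groth.Agent.Lib.Helper53
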