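import Mathlib
import Groth.Prelude.Def_CohCx

/-!
# The Milnor sequence for a derived limit (helper53)

`L` a derived limit of `(K n, t n)` through `a n`.  For a test object `X` and `m : ℤ`:
* `milnor_surj`: compatible families `X ⟶ (K n)⟦m⟧` lift to `X ⟶ L⟦m⟧`;
* `milnor_inj`: `γ : X ⟶ L⟦m⟧` vanishing in all `(K n)⟦m⟧` is zero if `R¹lim Hom(X, K n⟦m-1⟧) = 0`.
-/

set_option autoImplicit false
universe v u
open CategoryTheory Limits Pretriangulated Opposite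

namespace Groth.Agent.Lib.Helper53.RlimMilnor

variable {𝒟 : Type u} [Category.{v} 𝒟] [Preadditive 𝒟] [HasZeroObject 𝒟] [HasShift 𝒟 ℤ]
  [∀ n : ℤ, (shiftFunctor 𝒟 n).Additive] [Pretriangulated 𝒟]

section ShiftPi
variable (K : ℕ → 𝒟) [HasProduct K] (m : ℤ)

lemma shift_pi_hom_ext {X : 𝒟} (f g : X ⟶ (∏ᶜ K)⟦m⟧)
    (h : ∀ n, f ≫ (Pi.π K n)⟦m⟧' = g ≫ (Pi.π K n)⟦m⟧') : f = g := by
  have hlim := isLimitOfPreserves (shiftFunctor 𝒟 m) (productIsProduct K)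
  apply hlim.hom_ext
  rintro ⟨n⟩
  exact h n

lemma shift_pi_lift {X : 𝒟} (b : ∀ n, X ⟶ (K n)⟦m⟧) :
    ∃ f : X ⟶ (∏ᶜ K)⟦m⟧, ∀ n, f ≫ (Pi.π K n)⟦m⟧' = b n := by
  have hlim := isLimitOfPreserves (shiftFunctor 𝒟 m) (productIsProduct K)
  let c : Cone (Discrete.functor K ⋙ shiftFunctor 𝒟 m) :=
    { pt := X, π := Discrete.natTrans (fun ⟨n⟩ => b n) }
  refine ⟨hlim.lift c, fun n => ?_⟩
  exact hlim.fac c ⟨n⟩

end ShiftPi

variable (K : ℕ → 𝒟) (t : ∀ n, K (n + 1) ⟶ K n) [HasProduct K] (L : 𝒟) (a : ∀ n, L ⟶ K n)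
  (hL : CohCx.IsRlimVia K t L a)

/-- the difference map on the product -/
noncomputable abbrev dmap : ∏ᶜ K ⟶ ∏ᶜ K := Pi.lift fun n => Pi.π K n - Pi.π K (n + 1) ≫ t n

include hL in
lemma a_compat (n : ℕ) : a (n + 1) ≫ t n = a n := by
  obtain ⟨c, hc⟩ := hL
  have h : Pi.lift a ≫ dmap K t = 0 := comp_distTriang_mor_zero₁₂ _ hc
  have h1 : (Pi.lift a ≫ dmap K t) ≫ Pi.π K n = 0 := by rw [h, zero_comp]
  rw [Category.assoc, Pi.lift_π, Preadditive.comp_sub, Pi.lift_π, Pi.lift_π_assoc] at h1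
  exact (sub_eq_zero.1 h1).symm

include hL in
theorem milnor_surj (X : 𝒟) (m : ℤ) (β : ∀ n, X ⟶ (K n)⟦m⟧)
    (hβ : ∀ n, β (n + 1) ≫ (t n)⟦m⟧' = β n) :
    ∃ γ : X ⟶ L⟦m⟧, ∀ n, γ ≫ (a n)⟦m⟧' = β n := by
  obtain ⟨c, hc⟩ := hL
  obtain ⟨b, hb⟩ := shift_pi_lift K m β
  have h0 : b ≫ (dmap K t)⟦m⟧' = 0 := by
    apply shift_pi_hom_ext
    intro n
    rw [Category.assoc, ← Functor.map_comp, Pi.lift_π, Functor.map_sub, Functor.map_comp,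
      Preadditive.comp_sub, ← Category.assoc, hb, hb, hβ, sub_self, zero_comp]
  let F := preadditiveCoyoneda.obj (op X)
  have ex := F.homologySequence_exact₂ _ hc m
  rw [ShortComplex.ab_exact_iff] at ex
  obtain ⟨γ₀, hγ⟩ := ex b h0
  let γ : X ⟶ L⟦m⟧ := γ₀
  refine ⟨γ, fun n => ?_⟩
  have hγ' : γ ≫ (Pi.lift a)⟦m⟧' = b := hγ
  rw [← hb n, ← hγ', Category.assoc, ← Functor.map_comp, Pi.lift_π]

include hL in
theorem milnor_inj (X : 𝒟) (m₀ m : ℤ) (h : m₀ + 1 = m) (γ : X ⟶ L⟦m⟧)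
    (hγ : ∀ n, γ ≫ (a n)⟦m⟧' = 0)
    (hlim : Function.Surjective
      (fun (b : ∀ n, X ⟶ (K n)⟦m₀⟧) (n : ℕ) => b n - b (n + 1) ≫ (t n)⟦m₀⟧')) : γ = 0 := by
  obtain ⟨c, hc⟩ := hL
  let Tr := Triangle.mk (Pi.lift a) (dmap K t) c
  have hTr : Tr ∈ distTriang 𝒟 := hc
  let F := preadditiveCoyoneda.obj (op X)
  have ex := F.homologySequence_exact₁ Tr hTr m₀ m h
  rw [ShortComplex.ab_exact_iff] at ex
  have h0 : γ ≫ (Pi.lift a)⟦m⟧' = 0 := by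
    apply shift_pi_hom_ext
    intro n
    rw [Category.assoc, ← Functor.map_comp, Pi.lift_π, hγ, zero_comp]
  obtain ⟨β, hβ⟩ := ex γ h0
  -- β comes from the image of the difference map
  let β' : X ⟶ (∏ᶜ K)⟦m₀⟧ := β
  obtain ⟨b, hb⟩ := hlim (fun n => β' ≫ (Pi.π K n)⟦m₀⟧')
  obtain ⟨b', hb'⟩ := shift_pi_lift K m₀ b
  have h1 : b' ≫ (dmap K t)⟦m₀⟧' = β' := by
    apply shift_pi_hom_ext
    intro n
    rw [Category.assoc, ← Functor.map_comp, Pi.lift_π, Functor.map_sub, Functor.map_comp,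
      Preadditive.comp_sub, ← Category.assoc, hb', hb']
    exact congrFun hb n
  have h2 := F.comp_homologySequenceδ Tr hTr m₀ m h
  have h3 : (F.homologySequenceδ Tr m₀ m h).hom (((F.shift m₀).map Tr.mor₂).hom b') = 0 := by
    have := congrArg (fun z => z.hom b') h2
    simpa using this
  have h4 : ((F.shift m₀).map Tr.mor₂).hom b' = β := h1
  rw [h4] at h3
  exact hβ.symm.trans h3

end Groth.Agent.Lib.Helper53.RlimMilnor
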