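import Groth.Agent.Lib.Helper53.DerLocSite
import Groth.Agent.Lib.Helper53.RlimMilnor

/-!
# Injectivity of `H^m(Rlim K_n) → H^m(K_{n₀})` locally (helper53)
-/

set_option autoImplicit false
universe u
open CategoryTheory Limits Opposite

namespace Groth.Agent.Lib.Helper53.RlimInj

open Groth.Agent.Lib.Helper53.DerLoc Groth.Agent.Lib.Helper53.DerLocSite
  Groth.Agent.Lib.Helper53.SiteCoh Groth.Agent.Lib.Helper53.RlimMilnor DerivedCategory

variable {C : Type u} [SmallCategory C] {J : GrothendieckTopology C}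

lemma section_ext (G : Sheaf J AddCommGrpCat.{u}) {V : C} (S : Sieve V) (hS : S ∈ J V)
    (x y : G.obj.obj (op V))
    (h : ∀ ⦃U : C⦄ (f : U ⟶ V), S f → G.obj.map f.op x = G.obj.map f.op y) : x = y := by
  have hG : Presieve.IsSheaf J (G.obj ⋙ forget AddCommGrpCat.{u}) :=
    (isSheaf_iff_isSheaf_of_type J _).1
      ((Presheaf.isSheaf_iff_isSheaf_forget J G.obj (forget _)).1 G.property)
  exact (hG.isSeparated _ hS).ext (fun U f hf => h f hf)

variable [HasDerivedCategory.{u} (Sheaf J AddCommGrpCat.{u})]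
  (K : ℕ → DerivedCategory (Sheaf J AddCommGrpCat.{u})) (t : ∀ n, K (n + 1) ⟶ K n) [HasProduct K]
  (L : DerivedCategory (Sheaf J AddCommGrpCat.{u})) (a : ∀ n, L ⟶ K n)
  (hL : CohCx.IsRlimVia K t L a)

include hL in
lemma a_transition (n k : ℕ) : a (n + k) ≫ CohCx.transition K t n k = a n := by
  induction k with
  | zero => exact Category.comp_id _
  | succ k ih =>
    show a (n + k + 1) ≫ t (n + k) ≫ CohCx.transition K t n k = a n
    rw [← Category.assoc, a_compat K t L a hL (n + k), ih]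

/-- the condition on an object `U` -/
def Cond (m : ℤ) (n₀ : ℕ) (U : C) : Prop :=
  CohCx.LimOneIsZero (fun n => CohCx.HDU (K n) (m - 1) U)
      (fun n => Preadditive.rightComp _ ((shiftFunctor _ (m - 1)).map (t n))) ∧
    ∀ k : ℕ, Function.Injective
      (Preadditive.rightComp _ ((shiftFunctor _ m).map (CohCx.transition K t n₀ k)) :
        CohCx.HDU (K (n₀ + k)) m U → CohCx.HDU (K n₀) m U)

include hL in
/-- a class in `H^m(U, L)` dying in `H^m(U, K_{n₀})` is zero when `Cond` holds at `U` -/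
lemma eq_zero_of_cond (m : ℤ) (n₀ : ℕ) (U : C) (hU : Cond K t m n₀ U) (γ : CohCx.HDU L m U)
    (hγ : γ ≫ (a n₀)⟦m⟧' = 0) : γ = 0 := by
  have hall : ∀ n, γ ≫ (a n)⟦m⟧' = 0 := by
    intro n
    by_cases hn : n₀ ≤ n
    · obtain ⟨k, rfl⟩ := Nat.exists_eq_add_of_le hn
      apply hU.2 k
      show (γ ≫ (a (n₀ + k))⟦m⟧') ≫ (CohCx.transition K t n₀ k)⟦m⟧' =
        0 ≫ (CohCx.transition K t n₀ k)⟦m⟧'
      rw [Category.assoc, ← Functor.map_comp, a_transition K t L a hL, hγ, zero_comp]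
    · obtain ⟨k, rfl⟩ := Nat.exists_eq_add_of_le (Nat.le_of_not_le hn)
      have h1 := a_transition K t L a hL n k
      rw [← h1, Functor.map_comp, ← Category.assoc, hγ, zero_comp]
  exact milnor_inj K t L a hL _ (m - 1) m (by omega) γ hall hU.1

include hL in
theorem core (V : C) (m : ℤ) (n₀ : ℕ) (σ : (CohCx.HD L m).obj.obj (op V))
    (hσ : ((homologyFunctor _ m).map (a n₀)).hom.app (op V) σ = 0) :
    ∃ S₀ : Sieve V, S₀ ∈ J V ∧ ∀ ⦃U : C⦄ (f : U ⟶ V), S₀ f → Cond K t m n₀ U →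
      (CohCx.HD L m).obj.map f.op σ = 0 := by
  obtain ⟨S₁, hS₁⟩ := loc_surj L m V σ
  choose φ hφ using hS₁
  have h2 : ∀ a₁ : S₁.Arrow, kU (K n₀) m a₁.Y (φ a₁ ≫ (a n₀)⟦m⟧') = 0 := by
    intro a₁
    rw [kU_comp_right, hφ]
    have hn := ConcreteCategory.congr_hom (((homologyFunctor _ m).map (a n₀)).hom.naturality a₁.f.op) σ
    simp only [ConcreteCategory.comp_apply] at hn
    refine hn.trans ?_
    rw [hσ, map_zero]
  have h3 : ∀ a₁ : S₁.Arrow, ∃ S : J.Cover a₁.Y, ∀ a₂ : S.Arrow,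
      (singleFunctor _ 0).map (freeShMap J a₂.f) ≫ (φ a₁ ≫ (a n₀)⟦m⟧') = 0 :=
    fun a₁ => loc_inj (K n₀) m a₁.Y (φ a₁ ≫ (a n₀)⟦m⟧') (h2 a₁)
  let S₂ : ∀ a₁ : S₁.Arrow, J.Cover a₁.Y := fun a₁ => Classical.choose (h3 a₁)
  have hS₂ : ∀ (a₁ : S₁.Arrow) (a₂ : (S₂ a₁).Arrow),
      (singleFunctor _ 0).map (freeShMap J a₂.f) ≫ (φ a₁ ≫ (a n₀)⟦m⟧') = 0 :=
    fun a₁ => Classical.choose_spec (h3 a₁)
  refine ⟨Sieve.bind (S₁ : Sieve V).arrows (fun Y f hf => (S₂ ⟨Y, f, hf⟩ : Sieve Y)), ?_, ?_⟩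
  · exact J.bind_covering S₁.condition (fun Y f hf => (S₂ ⟨Y, f, hf⟩).condition)
  · rintro U f ⟨Y, g, f₁, hf₁, hg, rfl⟩ hU
    let a₁ : S₁.Arrow := ⟨Y, f₁, hf₁⟩
    let a₂ : (S₂ a₁).Arrow := ⟨U, g, hg⟩
    let γ : CohCx.HDU L m U := (singleFunctor _ 0).map (freeShMap J g) ≫ φ a₁
    have hγ0 : γ ≫ (a n₀)⟦m⟧' = 0 := by
      have := hS₂ a₁ a₂
      show ((singleFunctor _ 0).map (freeShMap J g) ≫ φ a₁) ≫ (a n₀)⟦m⟧' = 0
      rw [Category.assoc]
      exact this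
    have hγ : γ = 0 := eq_zero_of_cond K t L a hL m n₀ U hU γ hγ0
    have h3 : kU L m U γ = (CohCx.HD L m).obj.map g.op ((CohCx.HD L m).obj.map f₁.op σ) := by
      show kU L m U ((singleFunctor _ 0).map (freeShMap J g) ≫ φ a₁) = _
      rw [kU_res, hφ a₁]
    rw [hγ, kU_zero] at h3
    rw [op_comp, Functor.map_comp]
    exact h3.symm

end Groth.Agent.Lib.Helper53.RlimInj
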