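import Groth.Agent.Lib.Helper53.ProdExt
import Groth.Prelude.Def_Formal2

/-!
# Towers in an abelian category: `0 → lim F → ∏ F_n → ∏ F_n → 0` and the Milnor sequence
for `Ext(T, -)` (helper53)
-/

set_option autoImplicit false
universe w v u
open CategoryTheory Limits Abelian Opposite

namespace Groth.Agent.Lib.Helper53.ProdExt

variable {𝒜 : Type u} [Category.{v} 𝒜] [Abelian 𝒜]

section PiExact
variable {ι : Type*} {G I Q : ι → 𝒜} [HasProduct G] [HasProduct I] [HasProduct Q]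
  (f : ∀ n, G n ⟶ I n) (g : ∀ n, I n ⟶ Q n) (w : ∀ n, f n ≫ g n = 0)
  (hS : ∀ n, (ShortComplex.mk (f n) (g n) (w n)).Exact) [∀ n, Mono (f n)]

include hS in
lemma piMap_exact :
    (ShortComplex.mk (Limits.Pi.map f) (Limits.Pi.map g) (piMap_comp_zero f g w)).Exact := by
  apply ShortComplex.exact_of_f_is_kernel
  refine KernelFork.IsLimit.ofι' _ _ (fun {A} k hk => ?_)
  have hk' : ∀ n, (k ≫ Pi.π I n) ≫ g n = 0 := by
    intro n
    have h1 : (k ≫ Limits.Pi.map g) ≫ Pi.π Q n = 0 := by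
      have hk0 : k ≫ Limits.Pi.map g = 0 := hk
      rw [hk0, zero_comp]
    rw [Category.assoc, Limits.Pi.map_π] at h1
    rw [Category.assoc]
    exact h1
  refine ⟨Pi.lift (fun n => (hS n).lift (k ≫ Pi.π I n) (hk' n)), ?_⟩
  apply Limits.Pi.hom_ext
  intro n
  have h2 := (hS n).lift_f (k ≫ Pi.π I n) (hk' n)
  dsimp only at h2 ⊢
  rw [Category.assoc, Limits.Pi.map_π, Pi.lift_π_assoc]
  exact h2

end PiExact

section Tower
variable (F : ℕᵒᵖ ⥤ 𝒜)

/-- objects of the tower -/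
abbrev tobj (n : ℕ) : 𝒜 := F.obj (op n)

/-- transition maps of the tower -/
abbrev tmap (n : ℕ) : F.obj (op (n + 1)) ⟶ F.obj (op n) := F.map (homOfLE (Nat.le_succ n)).op

variable [HasLimit F] [HasProduct (tobj F)]

/-- the shift map on the product -/
noncomputable def shift : ∏ᶜ (tobj F) ⟶ ∏ᶜ (tobj F) :=
  Pi.lift (fun n => Pi.π (tobj F) (n + 1) ≫ tmap F n)

/-- the map from the limit to the product -/
noncomputable def toProd : limit F ⟶ ∏ᶜ (tobj F) := Pi.lift (fun n => limit.π F (op n))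

/-- `1 - shift` -/
noncomputable def diff : ∏ᶜ (tobj F) ⟶ ∏ᶜ (tobj F) := 𝟙 _ - shift F

@[reassoc]
lemma diff_π (n : ℕ) : diff F ≫ Pi.π (tobj F) n =
    Pi.π (tobj F) n - Pi.π (tobj F) (n + 1) ≫ tmap F n := by
  rw [diff, Preadditive.sub_comp, Category.id_comp, shift, Pi.lift_π]

@[reassoc]
lemma toProd_π (n : ℕ) : toProd F ≫ Pi.π (tobj F) n = limit.π F (op n) := by
  rw [toProd, Pi.lift_π]

lemma toProd_diff : toProd F ≫ diff F = 0 := by
  apply Limits.Pi.hom_ext
  intro n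
  rw [Category.assoc, diff_π, Preadditive.comp_sub, toProd_π, toProd_π_assoc, zero_comp,
    limit.w, sub_self]

instance mono_toProd : Mono (toProd F) := by
  constructor
  intro Z a b hab
  apply limit.hom_ext
  intro j
  have h1 := congrArg (fun k => k ≫ Pi.π (tobj F) j.unop) hab
  simp only [Category.assoc, toProd_π] at h1
  exact h1

/-- the short complex `lim F → ∏ F_n → ∏ F_n` -/
noncomputable abbrev towerSC : ShortComplex 𝒜 := ShortComplex.mk (toProd F) (diff F) (toProd_diff F)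

instance mono_towerSC_f : Mono (towerSC F).f := mono_toProd F

lemma towerSC_exact : (towerSC F).Exact := by
  apply ShortComplex.exact_of_f_is_kernel
  refine KernelFork.IsLimit.ofι' _ _ (fun {A} k₀ hk => ?_)
  let k : A ⟶ ∏ᶜ (tobj F) := k₀
  have hk0 : k ≫ diff F = 0 := hk
  have hk' : ∀ n, k ≫ Pi.π (tobj F) n = (k ≫ Pi.π (tobj F) (n + 1)) ≫ tmap F n := by
    intro n
    have h1 : (k ≫ diff F) ≫ Pi.π (tobj F) n = 0 := by rw [hk0, zero_comp]
    rw [Category.assoc, diff_π, Preadditive.comp_sub, sub_eq_zero] at h1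
    rw [Category.assoc]
    exact h1
  let c : Cone F :=
    { pt := A
      π := NatTrans.ofOpSequence (F := (Functor.const ℕᵒᵖ).obj A) (G := F)
        (fun n => k ≫ Pi.π (tobj F) n) (fun n => by
          dsimp only [Functor.const_obj_obj, Functor.const_obj_map]
          rw [Category.id_comp]
          exact hk' n) }
  refine ⟨limit.lift F c, ?_⟩
  apply Limits.Pi.hom_ext
  intro n
  show (limit.lift F c ≫ toProd F) ≫ Pi.π (tobj F) n = k ≫ Pi.π (tobj F) n
  rw [Category.assoc, toProd_π, limit.lift_π]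
  rfl

end Tower

section Milnor
variable [HasExt.{w} 𝒜] (F : ℕᵒᵖ ⥤ 𝒜) [HasLimit F] [HasProduct (tobj F)] (T : 𝒜)

/-- transition maps on `Ext` -/
noncomputable def extT (i : ℕ) (n : ℕ) : Ext.{w} T (tobj F (n + 1)) i →+ Ext.{w} T (tobj F n) i :=
  (Ext.mk₀ (tmap F n)).postcomp T (add_zero i)

lemma extT_apply (i n : ℕ) (x : Ext.{w} T (tobj F (n + 1)) i) :
    extT F T i n x = x.comp (Ext.mk₀ (tmap F n)) (add_zero i) := rfl

lemma cmp_diff (i : ℕ) (x : Ext.{w} T (∏ᶜ (tobj F)) i) :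
    cmp T (tobj F) i (x.comp (Ext.mk₀ (diff F)) (add_zero i)) =
      Formal2.towerDiff _ (extT F T i) (cmp T (tobj F) i x) := by
  funext n
  show _ = cmp T (tobj F) i x n - extT F T i n (cmp T (tobj F) i x (n + 1))
  rw [cmp_apply, cmp_apply, cmp_apply, extT_apply, Ext.comp_assoc_of_third_deg_zero,
    Ext.mk₀_comp_mk₀, diff_π, Ext.comp_assoc_of_third_deg_zero, Ext.mk₀_comp_mk₀]
  have h : Ext.mk₀ (Pi.π (tobj F) n - Pi.π (tobj F) (n + 1) ≫ tmap F n) =
      Ext.mk₀ (Pi.π (tobj F) n) + -Ext.mk₀ (Pi.π (tobj F) (n + 1) ≫ tmap F n) := by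
    rw [sub_eq_add_neg, Ext.mk₀_add, Ext.mk₀_neg]
  rw [h, Ext.comp_add, Ext.comp_neg, ← sub_eq_add_neg]

variable (hSE : (towerSC F).ShortExact) (hc : ∀ i, Function.Bijective (cmp T (tobj F) i))
include hSE hc

/-- compatible families of classes lift to the limit -/
theorem exists_lift_of_compatible (i : ℕ) (ξ : ∀ n, Ext.{w} T (tobj F n) i)
    (hξ : ∀ n, (ξ (n + 1)).comp (Ext.mk₀ (tmap F n)) (add_zero i) = ξ n) :
    ∃ η : Ext.{w} T (limit F) i, ∀ n, η.comp (Ext.mk₀ (limit.π F (op n))) (add_zero i) = ξ n := by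
  obtain ⟨ξ', hξ'⟩ := (hc i).2 ξ
  have h0 : ξ'.comp (Ext.mk₀ (diff F)) (add_zero i) = 0 := by
    apply (hc i).1
    rw [cmp_diff, hξ', map_zero]
    funext n
    show ξ n - extT F T i n (ξ (n + 1)) = 0
    rw [extT_apply, hξ n, sub_self]
  obtain ⟨η₀, hη⟩ := Ext.covariant_sequence_exact₂ T hSE ξ' h0
  let η : Ext.{w} T (limit F) i := η₀
  refine ⟨η, fun n => ?_⟩
  have h1 : η.comp (Ext.mk₀ (toProd F)) (add_zero i) = ξ' := hη
  rw [← toProd_π, ← Ext.mk₀_comp_mk₀, ← Ext.comp_assoc_of_third_deg_zero, h1, ← hξ']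
  rfl

/-- the connecting map `∏ Ext^j(T, F_n) → Ext^{j+1}(T, lim F)` with its kernel and image -/
theorem exists_connecting (i j : ℕ) (hij : j + 1 = i) :
    ∃ Φ : (∀ n, Ext.{w} T (tobj F n) j) →+ Ext.{w} T (limit F) i,
      Φ.ker = (Formal2.towerDiff _ (extT F T j)).range ∧
      ∀ η : Ext.{w} T (limit F) i, η ∈ Φ.range ↔
        ∀ n, η.comp (Ext.mk₀ (limit.π F (op n))) (add_zero i) = 0 := by
  let ce : Ext.{w} T (∏ᶜ (tobj F)) j ≃+ ∀ n, Ext.{w} T (tobj F n) j :=
    AddEquiv.ofBijective (cmp T (tobj F) j) (hc j)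
  have hce : ∀ x, ce x = cmp T (tobj F) j x := fun _ => rfl
  let δ : Ext.{w} T (∏ᶜ (tobj F)) j →+ Ext.{w} T (limit F) i := hSE.extClass.postcomp T hij
  have hδ : ∀ x, δ x = x.comp hSE.extClass hij := fun _ => rfl
  refine ⟨δ.comp ce.symm.toAddMonoidHom, ?_, ?_⟩
  · ext y
    rw [AddMonoidHom.mem_ker, AddMonoidHom.mem_range]
    show δ (ce.symm y) = 0 ↔ _
    constructor
    · intro h
      rw [hδ] at h
      obtain ⟨x₀, hx⟩ := Ext.covariant_sequence_exact₃ T hSE (ce.symm y) hij h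
      let x : Ext.{w} T (∏ᶜ (tobj F)) j := x₀
      refine ⟨cmp T (tobj F) j x, ?_⟩
      rw [← cmp_diff]
      have hx' : x.comp (Ext.mk₀ (diff F)) (add_zero j) = ce.symm y := hx
      rw [hx', ← hce, AddEquiv.apply_symm_apply]
    · rintro ⟨z, rfl⟩
      obtain ⟨x, rfl⟩ := (hc j).2 z
      rw [← cmp_diff, ← hce, AddEquiv.symm_apply_apply, hδ, Ext.comp_assoc_of_second_deg_zero]
      have := hSE.comp_extClass
      have h2 : (Ext.mk₀ (diff F)).comp hSE.extClass (zero_add 1) = 0 := this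
      rw [h2, Ext.comp_zero]
  · intro η
    rw [AddMonoidHom.mem_range]
    constructor
    · rintro ⟨y, rfl⟩ n
      show (δ (ce.symm y)).comp _ _ = 0
      rw [hδ, ← toProd_π, ← Ext.mk₀_comp_mk₀, ← Ext.comp_assoc_of_third_deg_zero]
      have h2 : hSE.extClass.comp (Ext.mk₀ (toProd F)) (add_zero 1) = 0 := hSE.extClass_comp
      rw [Ext.comp_assoc_of_third_deg_zero _ hSE.extClass, h2, Ext.comp_zero, Ext.zero_comp]
    · intro h
      have h0 : η.comp (Ext.mk₀ (toProd F)) (add_zero i) = 0 := by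
        apply (hc i).1
        rw [map_zero]
        funext n
        rw [cmp_apply, Ext.comp_assoc_of_third_deg_zero, Ext.mk₀_comp_mk₀, toProd_π]
        exact h n
      obtain ⟨z₀, hz⟩ := Ext.covariant_sequence_exact₁ T hSE η h0 hij
      let z : Ext.{w} T (∏ᶜ (tobj F)) j := z₀
      refine ⟨ce z, ?_⟩
      show δ (ce.symm (ce z)) = η
      rw [AddEquiv.symm_apply_apply, hδ]
      exact hz

end Milnor

end Groth.Agent.Lib.Helper53.ProdExt
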