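import Groth.Agent.Lib.Helper53.RlimDer
import Groth.Agent.Lib.Helper53.ProdExtTower
import Groth.Prelude.Def_DCoh2

/-!
# Products of objects of the heart in the derived category (helper53)

If `Ext^i(T, ∏ G n) → ∏ Ext^i(T, G n)` is bijective for all `T`, `i`, then `(∏ G n)[0]` is the product
of the `(G n)[0]` in the derived category (`isIso_lift`).  Consequently, for a tower `F` with
`0 → lim F → ∏ F_n → ∏ F_n → 0` exact, `(lim F)[0]` is a derived limit (`exists_triangle`).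
-/

set_option autoImplicit false
universe w' w v u
open CategoryTheory Limits Pretriangulated Abelian Opposite

namespace Groth.Agent.Lib.Helper53.RlimProd

open Groth.Agent.Lib.Helper53.RlimDer Groth.Agent.Lib.Helper53.ProdExt

section Beta
variable {𝒟 : Type*} [Category 𝒟] [Preadditive 𝒟] [HasShift 𝒟 ℤ]

/-- `Hom(X⟦k⟧, Y) → Hom(X, Y⟦m⟧)` for `k + m = 0` -/
noncomputable def beta (X : 𝒟) (k m : ℤ) (h : k + m = 0) (Y : 𝒟) (φ : X⟦k⟧ ⟶ Y) : X ⟶ Y⟦m⟧ :=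
  (shiftFunctorCompIsoId 𝒟 k m h).inv.app X ≫ φ⟦m⟧'

lemma beta_comp (X : 𝒟) (k m : ℤ) (h : k + m = 0) {Y Y' : 𝒟} (φ : X⟦k⟧ ⟶ Y) (a : Y ⟶ Y') :
    beta X k m h Y' (φ ≫ a) = beta X k m h Y φ ≫ a⟦m⟧' := by
  simp only [beta, Functor.map_comp, Category.assoc]

lemma beta_bijective (X : 𝒟) (k m : ℤ) (h : k + m = 0) (Y : 𝒟) :
    Function.Bijective (beta X k m h Y) := by
  constructor
  · intro φ φ' hφ
    have h1 : φ⟦m⟧' = φ'⟦m⟧' := (cancel_epi ((shiftFunctorCompIsoId 𝒟 k m h).inv.app X)).1 hφ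
    exact (shiftFunctor 𝒟 m).map_injective h1
  · intro χ
    obtain ⟨φ, hφ⟩ := (shiftFunctor 𝒟 m).map_surjective
      ((shiftFunctorCompIsoId 𝒟 k m h).hom.app X ≫ χ)
    refine ⟨φ, ?_⟩
    show (shiftFunctorCompIsoId 𝒟 k m h).inv.app X ≫ φ⟦m⟧' = χ
    rw [hφ, Iso.inv_hom_id_app_assoc]

end Beta

section Prod
variable {𝒜 : Type u} [Category.{v} 𝒜] [Abelian 𝒜] [HasExt.{w} 𝒜] [HasDerivedCategory.{w'} 𝒜]
open DerivedCategory

lemma hom_single_shift_eq_zero (T Y : 𝒜) (m : ℤ) (hm : m < 0)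
    (χ : (singleFunctor 𝒜 0).obj T ⟶ ((singleFunctor 𝒜 0).obj Y)⟦m⟧) : χ = 0 := by
  haveI : TStructure.t.IsGE (((singleFunctor 𝒜 0).obj Y)⟦m⟧) (-m) :=
    TStructure.t.isGE_shift _ 0 m (-m) (by omega)
  exact TStructure.t.zero χ 0 (-m) (by omega)

variable {ι : Type*} (G : ι → 𝒜) [HasProduct G]
  (hc : ∀ (T : 𝒜) (i : ℕ), Function.Bijective (cmp.{w} T G i))

include hc in
/-- the Ext comparison in terms of shifted homs -/
lemma shiftedHom_bijective (T : 𝒜) (m : ℤ) :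
    (∀ χ χ' : (singleFunctor 𝒜 0).obj T ⟶ ((singleFunctor 𝒜 0).obj (∏ᶜ G))⟦m⟧,
      (∀ n, χ ≫ ((singleFunctor 𝒜 0).map (Pi.π G n))⟦m⟧' =
        χ' ≫ ((singleFunctor 𝒜 0).map (Pi.π G n))⟦m⟧') → χ = χ') ∧
    (∀ ψ : ∀ n, (singleFunctor 𝒜 0).obj T ⟶ ((singleFunctor 𝒜 0).obj (G n))⟦m⟧,
      ∃ χ : (singleFunctor 𝒜 0).obj T ⟶ ((singleFunctor 𝒜 0).obj (∏ᶜ G))⟦m⟧,
        ∀ n, χ ≫ ((singleFunctor 𝒜 0).map (Pi.π G n))⟦m⟧' = ψ n) := by
  by_cases hm : m < 0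
  · constructor
    · intro χ χ' _
      rw [hom_single_shift_eq_zero T _ m hm χ, hom_single_shift_eq_zero T _ m hm χ']
    · intro ψ
      refine ⟨0, fun n => ?_⟩
      rw [zero_comp, hom_single_shift_eq_zero T _ m hm (ψ n)]
  · obtain ⟨j, rfl⟩ : ∃ j : ℕ, m = j := ⟨m.toNat, by omega⟩
    have key : ∀ (x : Ext.{w} T (∏ᶜ G) j) (n : ι),
        (cmp.{w} T G j x n).hom = x.hom ≫ ((singleFunctor 𝒜 0).map (Pi.π G n))⟦(j : ℤ)⟧' := by
      intro x n
      rw [cmp_apply, Ext.comp_hom, Ext.mk₀_hom, ShiftedHom.comp_mk₀]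
    constructor
    · intro χ χ' h
      obtain ⟨x, rfl⟩ := (Ext.homEquiv (X := T) (Y := ∏ᶜ G) (n := j)).surjective χ
      obtain ⟨x', rfl⟩ := (Ext.homEquiv (X := T) (Y := ∏ᶜ G) (n := j)).surjective χ'
      have : x = x' := by
        apply (hc T j).1
        funext n
        apply Ext.homEquiv.injective
        show (cmp.{w} T G j x n).hom = (cmp.{w} T G j x' n).hom
        rw [key, key]
        exact h n
      rw [this]
    · intro ψ
      obtain ⟨x, hx⟩ := (hc T j).2 (fun n => Ext.homEquiv.symm (ψ n))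
      refine ⟨x.hom, fun n => ?_⟩
      rw [← key, hx]
      exact Ext.homEquiv.apply_symm_apply (ψ n)

variable [HasProduct fun n => (singleFunctor 𝒜 0).obj (G n)]

/-- the comparison map `(∏ G)[0] ⟶ ∏ (G n)[0]` -/
noncomputable def lift : (singleFunctor 𝒜 0).obj (∏ᶜ G) ⟶ ∏ᶜ fun n => (singleFunctor 𝒜 0).obj (G n) :=
  Pi.lift (fun n => (singleFunctor 𝒜 0).map (Pi.π G n))

@[reassoc (attr := simp)]
lemma lift_π (n : ι) : lift G ≫ Pi.π (fun n => (singleFunctor 𝒜 0).obj (G n)) n =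
    (singleFunctor 𝒜 0).map (Pi.π G n) := by
  simp [lift]

include hc in
theorem isIso_lift : IsIso (lift G) := by
  apply isIso_of_bijective
  intro T k
  obtain ⟨hinj, hsurj⟩ := shiftedHom_bijective G hc T (-k)
  have hk : k + (-k) = 0 := by omega
  constructor
  · intro φ φ' hφ
    apply (beta_bijective _ k (-k) hk _).1
    apply hinj
    intro n
    rw [← beta_comp, ← beta_comp, ← lift_π, ← Category.assoc, ← Category.assoc]
    exact congrArg (fun z => beta _ k (-k) hk _ (z ≫ Pi.π _ n)) hφ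
  · intro ψ
    obtain ⟨χ, hχ⟩ := hsurj (fun n => beta _ k (-k) hk _ (ψ ≫ Pi.π _ n))
    obtain ⟨φ, rfl⟩ := (beta_bijective _ k (-k) hk _).2 χ
    refine ⟨φ, ?_⟩
    apply Limits.Pi.hom_ext
    intro n
    apply (beta_bijective _ k (-k) hk _).1
    show beta _ k (-k) hk _ ((φ ≫ lift G) ≫ Pi.π _ n) = _
    rw [Category.assoc, lift_π, beta_comp]
    exact hχ n

end Prod

section Tower
variable {𝒜 : Type u} [Category.{v} 𝒜] [Abelian 𝒜] [HasExt.{w} 𝒜] [HasDerivedCategory.{w'} 𝒜]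
open DerivedCategory

variable (F : ℕᵒᵖ ⥤ 𝒜) [HasLimit F] [HasProduct (tobj F)]
  [HasProduct fun n => (singleFunctor 𝒜 0).obj (tobj F n)]
  (hS : (towerSC F).ShortExact)
  (hc : ∀ (T : 𝒜) (i : ℕ), Function.Bijective (cmp.{w} T (tobj F) i))

include hS hc in
/-- `(lim F)[0]` is a derived limit of the tower `(F n)[0]` -/
theorem isRlim :
    DCoh.IsRlim (fun n => (singleFunctor 𝒜 0).obj (tobj F n))
      (fun n => (singleFunctor 𝒜 0).map (tmap F n)) ((singleFunctor 𝒜 0).obj (limit F)) := by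
  haveI hφ : IsIso (lift (tobj F)) := isIso_lift (tobj F) hc
  let φ := lift (tobj F)
  haveI : IsIso φ := hφ
  let e : (singleFunctor 𝒜 0).obj (∏ᶜ tobj F) ≅ ∏ᶜ fun n => (singleFunctor 𝒜 0).obj (tobj F n) :=
    asIso φ
  refine ⟨(singleFunctor 𝒜 0).map (toProd F) ≫ φ, inv φ ≫ hS.singleδ, ?_⟩
  refine isomorphic_distinguished _ hS.singleTriangle_distinguished _ (Iso.symm ?_)
  refine Triangle.isoMk _ _ (Iso.refl _) e e ?_ ?_ ?_
  · show (singleFunctor 𝒜 0).map (toProd F) ≫ φ = 𝟙 _ ≫ ((singleFunctor 𝒜 0).map (toProd F) ≫ φ)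
    rw [Category.id_comp]
  · show (singleFunctor 𝒜 0).map (diff F) ≫ lift (tobj F) = lift (tobj F) ≫ Pi.lift (fun n =>
      Pi.π (fun n => (singleFunctor 𝒜 0).obj (tobj F n)) n -
        Pi.π (fun n => (singleFunctor 𝒜 0).obj (tobj F n)) (n + 1) ≫
          (singleFunctor 𝒜 0).map (tmap F n))
    apply Limits.Pi.hom_ext
    intro n
    rw [Category.assoc, Category.assoc, Pi.lift_π, Preadditive.comp_sub,
      lift_π, lift_π_assoc, ← Functor.map_comp, ← Functor.map_comp, ← Functor.map_sub,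
      diff_π]
  · show hS.singleδ ≫ (𝟙 _)⟦(1 : ℤ)⟧' = φ ≫ inv φ ≫ hS.singleδ
    rw [CategoryTheory.Functor.map_id, Category.comp_id, IsIso.hom_inv_id_assoc]

end Tower

end Groth.Agent.Lib.Helper53.RlimProd
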