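import Groth.Agent.Lib.Helper53.DerLoc
import Groth.Agent.Lib.Helper53.RlimProd
import Groth.Prelude.Def_CohCx

/-!
# The tower of truncations `τ_{≥ -n} E` in a derived category (helper53)
-/

set_option autoImplicit false
universe w' w u
open CategoryTheory Limits Pretriangulated Opposite

namespace Groth.Agent.Lib.Helper53.TruncTower

open DerivedCategory Groth.Agent.Lib.Helper53.DerLoc

section LimOne

/-- a tower with eventually surjective transition maps has vanishing `R¹lim` -/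
theorem limOne_of_eventually_surjective :
    ∀ (n₀ : ℕ) (A : ℕ → Type u) [∀ n, AddCommGroup (A n)] (t : ∀ n, A (n + 1) →+ A n)
      (_ : ∀ n, n₀ ≤ n → Function.Surjective (t n)), CohCx.LimOneIsZero A t
  | 0, A, _, t, h => by
    intro c
    let s : ∀ n, A n := fun n =>
      Nat.rec (motive := fun n => A n) 0
        (fun n sn => Classical.choose (h n (Nat.zero_le n) (sn - c n))) n
    have hs : ∀ n, t n (s (n + 1)) = s n - c n :=
      fun n => Classical.choose_spec (h n (Nat.zero_le n) (s n - c n))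
    refine ⟨s, ?_⟩
    funext n
    show s n - t n (s (n + 1)) = c n
    rw [hs, sub_sub_cancel]
  | n₀ + 1, A, _, t, h => by
    intro c
    obtain ⟨a', ha'⟩ := limOne_of_eventually_surjective n₀ (fun n => A (n + 1)) (fun n => t (n + 1))
      (fun n hn => h (n + 1) (Nat.succ_le_succ hn)) (fun n => c (n + 1))
    let a : ∀ n, A n := fun n => Nat.casesOn (motive := fun n => A n) n (c 0 + t 0 (a' 0)) (fun n => a' n)
    refine ⟨a, ?_⟩
    funext n
    cases n with
    | zero =>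
      show (c 0 + t 0 (a' 0)) - t 0 (a' 0) = c 0
      abel
    | succ n =>
      show a' n - t (n + 1) (a' (n + 1)) = c (n + 1)
      exact congrFun ha' n

end LimOne

section Coyoneda
variable {𝒟 : Type*} [Category 𝒟] [Preadditive 𝒟] [HasZeroObject 𝒟] [HasShift 𝒟 ℤ]
  [∀ n : ℤ, (shiftFunctor 𝒟 n).Additive] [Pretriangulated 𝒟]

lemma injective_of_subsingleton (Tr : Triangle 𝒟) (hTr : Tr ∈ distTriang 𝒟) (X : 𝒟) (j : ℤ)
    (h : Subsingleton (X ⟶ (Tr.obj₁)⟦j⟧)) :
    Function.Injective (fun φ : X ⟶ (Tr.obj₂)⟦j⟧ => φ ≫ (Tr.mor₂)⟦j⟧') := by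
  let F := preadditiveCoyoneda.obj (op X)
  have ex := F.homologySequence_exact₂ Tr hTr j
  rw [ShortComplex.ab_exact_iff] at ex
  intro φ φ' hφ
  have h0 : (φ - φ') ≫ (Tr.mor₂)⟦j⟧' = 0 := by
    rw [Preadditive.sub_comp]
    exact sub_eq_zero.2 hφ
  obtain ⟨ψ₀, hψ⟩ := ex (φ - φ') h0
  let ψ : X ⟶ (Tr.obj₁)⟦j⟧ := ψ₀
  have hψ' : ψ ≫ (Tr.mor₁)⟦j⟧' = φ - φ' := hψ
  have : ψ = 0 := Subsingleton.elim _ _
  rw [this, zero_comp] at hψ'
  exact sub_eq_zero.1 hψ'.symm

lemma surjective_of_subsingleton (Tr : Triangle 𝒟) (hTr : Tr ∈ distTriang 𝒟) (X : 𝒟) (j j₁ : ℤ)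
    (hj : j + 1 = j₁) (h : Subsingleton (X ⟶ (Tr.obj₁)⟦j₁⟧)) :
    Function.Surjective (fun φ : X ⟶ (Tr.obj₂)⟦j⟧ => φ ≫ (Tr.mor₂)⟦j⟧') := by
  let F := preadditiveCoyoneda.obj (op X)
  have ex := F.homologySequence_exact₃ Tr hTr j j₁ hj
  rw [ShortComplex.ab_exact_iff] at ex
  intro χ
  have h0 : (F.homologySequenceδ Tr j j₁ hj).hom χ = 0 := by
    have : Subsingleton ((F.shift j₁).obj Tr.obj₁) := h
    exact Subsingleton.elim _ _
  obtain ⟨φ, hφ⟩ := ex χ h0
  exact ⟨φ, hφ⟩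

end Coyoneda

section Trunc
variable {𝒜 : Type (u + 1)} [Category.{u} 𝒜] [Abelian 𝒜] [HasDerivedCategory.{w} 𝒜]
  (E : DerivedCategory 𝒜)

lemma toTruncTower_comp (n : ℕ) :
    CohCx.toTruncTower E (n + 1) ≫ CohCx.truncTowerMap E n = CohCx.toTruncTower E n :=
  TStructure.t.π_natTransTruncGEOfLE_app _ _ _ E

lemma isZero_homology_truncTower (n : ℕ) (j : ℤ) (hj : j < -(n : ℤ)) :
    IsZero ((homologyFunctor 𝒜 j).obj (CohCx.truncTower E n)) := by
  haveI : (CohCx.truncTower E n).IsGE (-(n : ℤ)) := by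
    dsimp only [CohCx.truncTower]; infer_instance
  exact isZero_of_isGE _ (-(n : ℤ)) j hj

lemma isIso_homology_toTruncTower (n : ℕ) (j : ℤ) (hj : -(n : ℤ) ≤ j) :
    IsIso ((homologyFunctor 𝒜 j).map (CohCx.toTruncTower E n)) := by
  let K₁ : DerivedCategory 𝒜 := (TStructure.t.truncLE (-(n : ℤ) - 1)).obj E
  have hTr : Triangle.mk ((TStructure.t.truncLEι (-(n : ℤ) - 1)).app E)
      ((TStructure.t.truncGEπ (-(n : ℤ))).app E)
      ((TStructure.t.truncGEδLE (-(n : ℤ) - 1) (-(n : ℤ)) (by omega)).app E) ∈ distTriang _ :=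
    TStructure.t.triangleLEGE_distinguished (-(n : ℤ) - 1) (-(n : ℤ)) (by omega) E
  haveI : K₁.IsLE (-(n : ℤ) - 1) := by dsimp only [K₁]; infer_instance
  exact isIso_homologyMap_mor₂ _ hTr j (j + 1) rfl
    (isZero_of_isLE K₁ (-(n : ℤ) - 1) j (by omega))
    (isZero_of_isLE K₁ (-(n : ℤ) - 1) (j + 1) (by omega))

lemma isIso_homology_truncTowerMap (n : ℕ) (j : ℤ) (hj : -(n : ℤ) ≤ j) :
    IsIso ((homologyFunctor 𝒜 j).map (CohCx.truncTowerMap E n)) := by
  haveI h1 := isIso_homology_toTruncTower E n j hj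
  haveI h2 := isIso_homology_toTruncTower E (n + 1) j (by push_cast; omega)
  have h3 : (homologyFunctor 𝒜 j).map (CohCx.toTruncTower E (n + 1)) ≫
      (homologyFunctor 𝒜 j).map (CohCx.truncTowerMap E n) =
      (homologyFunctor 𝒜 j).map (CohCx.toTruncTower E n) := by
    rw [← Functor.map_comp, toTruncTower_comp]
  have h4 : IsIso ((homologyFunctor 𝒜 j).map (CohCx.toTruncTower E (n + 1)) ≫
      (homologyFunctor 𝒜 j).map (CohCx.truncTowerMap E n)) := by
    rw [h3]; exact h1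
  exact @IsIso.of_isIso_comp_left _ _ _ _ _ _ _ h2 h4

/-- the fibre of `τ_{≥ -(n+1)} E ⟶ τ_{≥ -n} E` is `H^{-(n+1)}(E)` placed in degree `-(n+1)` -/
lemma exists_iso_fibre (n : ℕ) (F : DerivedCategory 𝒜) (f : F ⟶ CohCx.truncTower E (n + 1))
    (δ : CohCx.truncTower E n ⟶ F⟦(1 : ℤ)⟧)
    (hTr : Triangle.mk f (CohCx.truncTowerMap E n) δ ∈ distTriang _) :
    Nonempty (F ≅ (singleFunctor 𝒜 (-((n : ℤ) + 1))).obj
      ((homologyFunctor 𝒜 (-((n : ℤ) + 1))).obj E)) := by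
  let d : ℤ := -((n : ℤ) + 1)
  -- homology of F vanishes outside degree d
  have hzero : ∀ j : ℤ, j ≠ d → IsZero ((homologyFunctor 𝒜 j).obj F) := by
    intro j hj
    by_cases hlt : j < d
    · -- H^{j-1}(K n) = 0 and H^j(K (n+1)) = 0
      have h1 : IsZero ((homologyFunctor 𝒜 j).obj (CohCx.truncTower E (n + 1))) :=
        isZero_homology_truncTower E (n + 1) j (by push_cast; omega)
      have h0 : IsZero ((homologyFunctor 𝒜 (j - 1)).obj (CohCx.truncTower E n)) :=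
        isZero_homology_truncTower E n (j - 1) (by omega)
      have ex := HomologySequence.exact₁ _ hTr (j - 1) j (by omega)
      exact ex.isZero_of_both_zeros (h0.eq_of_src _ _) (h1.eq_of_tgt _ _)
    · have hgt : d < j := lt_of_le_of_ne (not_lt.1 hlt) (Ne.symm hj)
      -- H^j(tt) mono, H^{j-1}(tt) epi
      haveI hm : IsIso ((homologyFunctor 𝒜 j).map (CohCx.truncTowerMap E n)) :=
        isIso_homology_truncTowerMap E n j (by omega)
      have hepi : Epi ((homologyFunctor 𝒜 (j - 1)).map (CohCx.truncTowerMap E n)) := by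
        by_cases hj1 : -(n : ℤ) ≤ j - 1
        · haveI := isIso_homology_truncTowerMap E n (j - 1) hj1
          infer_instance
        · have h0 : IsZero ((homologyFunctor 𝒜 (j - 1)).obj (CohCx.truncTower E n)) :=
            isZero_homology_truncTower E n (j - 1) (by omega)
          exact ⟨fun g h _ => h0.eq_of_src _ _⟩
      have hδ : HomologySequence.δ (Triangle.mk f (CohCx.truncTowerMap E n) δ) (j - 1) j
          (by omega) = 0 :=
        (HomologySequence.epi_homologyMap_mor₂_iff _ hTr (j - 1) j (by omega)).1 hepi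
      have hmono : Mono ((homologyFunctor 𝒜 j).map (CohCx.truncTowerMap E n)) := inferInstance
      have hf0 : (homologyFunctor 𝒜 j).map f = 0 :=
        (HomologySequence.mono_homologyMap_mor₂_iff _ hTr j).1 hmono
      have ex := HomologySequence.exact₁ _ hTr (j - 1) j (by omega)
      exact ex.isZero_of_both_zeros hδ hf0
  haveI : F.IsGE d := (isGE_iff F d).2 (fun j hj => hzero j (by omega))
  haveI : F.IsLE d := (isLE_iff F d).2 (fun j hj => hzero j (by omega))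
  obtain ⟨Y, ⟨e⟩⟩ := exists_iso_singleFunctor_obj_of_isGE_of_isLE F d
  -- Y ≅ H^d(F) ≅ H^d(K (n+1)) ≅ H^d(E)
  have h1 : IsIso ((homologyFunctor 𝒜 d).map f) := by
    refine isIso_homologyMap_mor₁ _ hTr (d - 1) d (by omega) ?_ ?_
    · exact isZero_homology_truncTower E n (d - 1) (by omega)
    · exact isZero_homology_truncTower E n d (by omega)
  have h2 : IsIso ((homologyFunctor 𝒜 d).map (CohCx.toTruncTower E (n + 1))) :=
    isIso_homology_toTruncTower E (n + 1) d (by push_cast; omega)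
  let iY : Y ≅ (homologyFunctor 𝒜 d).obj E :=
    ((singleFunctorCompHomologyFunctorIso 𝒜 d).app Y).symm ≪≫
      (homologyFunctor 𝒜 d).mapIso e.symm ≪≫ @asIso _ _ _ _ _ h1 ≪≫ (@asIso _ _ _ _ _ h2).symm
  exact ⟨e ≪≫ (singleFunctor 𝒜 d).mapIso iY⟩

end Trunc

section ExtVanish
variable {𝒜 : Type*} [Category 𝒜] [Abelian 𝒜] [HasExt.{w'} 𝒜] [HasDerivedCategory.{w} 𝒜]
open Abelian

lemma subsingleton_hom_single_shift_zero (T Y : 𝒜) (m : ℤ)
    (h : ∀ k : ℕ, (k : ℤ) = m → Subsingleton (Ext.{w'} T Y k)) :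
    Subsingleton ((singleFunctor 𝒜 0).obj T ⟶ ((singleFunctor 𝒜 0).obj Y)⟦m⟧) := by
  by_cases hm : m < 0
  · refine ⟨fun x y => ?_⟩
    rw [RlimProd.hom_single_shift_eq_zero T Y m hm x, RlimProd.hom_single_shift_eq_zero T Y m hm y]
  · obtain ⟨k, rfl⟩ : ∃ k : ℕ, m = k := ⟨m.toNat, by omega⟩
    haveI := h k rfl
    exact (Ext.homEquiv (X := T) (Y := Y) (n := k)).symm.subsingleton

lemma subsingleton_hom_single_shift (T Y : 𝒜) (d j : ℤ)
    (h : ∀ k : ℕ, (k : ℤ) = j - d → Subsingleton (Ext.{w'} T Y k)) :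
    Subsingleton ((singleFunctor 𝒜 0).obj T ⟶ ((singleFunctor 𝒜 d).obj Y)⟦j⟧) := by
  let e₁ : (singleFunctor 𝒜 d).obj Y ≅ ((singleFunctor 𝒜 0).obj Y)⟦-d⟧ :=
    (((singleFunctors 𝒜).shiftIso (-d) d 0 (by simp)).app Y).symm
  let e₂ : ((singleFunctor 𝒜 d).obj Y)⟦j⟧ ≅ ((singleFunctor 𝒜 0).obj Y)⟦j - d⟧ :=
    (shiftFunctor _ j).mapIso e₁ ≪≫
      ((shiftFunctorAdd' (DerivedCategory 𝒜) (-d) j (j - d) (by omega)).app _).symm
  haveI := subsingleton_hom_single_shift_zero T Y (j - d) h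
  refine ⟨fun x y => ?_⟩
  have : x ≫ e₂.hom = y ≫ e₂.hom := Subsingleton.elim _ _
  exact (cancel_mono e₂.hom).1 this

end ExtVanish

end Groth.Agent.Lib.Helper53.TruncTower
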