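import Groth.Agent.Lib.Helper53.DerLoc
import Groth.Agent.Lib.Helper53.RlimMilnor
import Groth.Agent.Lib.Helper53.RlimInj
import Groth.Agent.Lib.Helper53.TruncTower
import Groth.Agent.Lib.Helper53.HomShf
import Groth.Prelude.Def_CohCx

/-!
# Abstract "sheaf-like" abelian categories over a site: local structure of `Hom(T_U[0], K[m])`
(helper53)

`LocData C J 𝒜` packages an abelian category `𝒜` with an underlying-abelian-sheaf functor `Γ`,
test objects `T U` representing sections over `U`, and the statement that epimorphisms are locally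
surjective.  It is instantiated by abelian sheaves and by sheaves of modules on a small site.
All results of `DerLocSite`, `RlimInj`, `TruncTowerSite` are ported to this generality.
-/

set_option autoImplicit false
universe w u
open CategoryTheory Limits Pretriangulated Opposite

namespace Groth.Agent.Lib.Helper53.LocData

open DerivedCategory Groth.Agent.Lib.Helper53.DerLoc Groth.Agent.Lib.Helper53.RlimMilnor
  Groth.Agent.Lib.Helper53.TruncTower

/-- abstract local data -/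
structure LocData (C : Type u) [SmallCategory C] (J : GrothendieckTopology C)
    (𝒜 : Type (u + 1)) [Category.{u} 𝒜] [Abelian 𝒜] where
  /-- underlying abelian sheaf -/
  Γ : 𝒜 ⥤ Sheaf J AddCommGrpCat.{u}
  /-- test objects -/
  T : C → 𝒜
  /-- functoriality of the test objects -/
  Tmap : ∀ {U V : C}, (V ⟶ U) → (T V ⟶ T U)
  /-- morphisms out of `T U` are sections over `U` -/
  sec : ∀ (U : C) (G : 𝒜), (T U ⟶ G) ≃+ (Γ.obj G).obj.obj (op U)
  sec_right : ∀ (U : C) {G G' : 𝒜} (φ : G ⟶ G') (g : T U ⟶ G),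
    sec U G' (g ≫ φ) = (Γ.map φ).hom.app (op U) (sec U G g)
  sec_left : ∀ {U V : C} (i : V ⟶ U) (G : 𝒜) (g : T U ⟶ G),
    sec V G (Tmap i ≫ g) = (Γ.obj G).obj.map i.op (sec U G g)
  cover_lift : ∀ {A B : 𝒜} (π : A ⟶ B) [Epi π] (U : C) (g : T U ⟶ B),
    ∃ S : J.Cover U, ∀ a : S.Arrow, ∃ h : T a.Y ⟶ A, h ≫ π = Tmap a.f ≫ g
  epi_of_locSurj : ∀ {A B : 𝒜} (φ : A ⟶ B),
    Presheaf.IsLocallySurjective J (Γ.map φ).hom → Epi φ
  mono_of_locInj : ∀ {A B : 𝒜} (φ : A ⟶ B),
    Presheaf.IsLocallyInjective J (Γ.map φ).hom → Mono φ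

variable {C : Type u} [SmallCategory C] {J : GrothendieckTopology C}
  {𝒜 : Type (u + 1)} [Category.{u} 𝒜] [Abelian 𝒜] [HasDerivedCategory.{w} 𝒜]
  (D : LocData C J 𝒜)

/-- `Hom(T_U[0], K[m])` -/
noncomputable abbrev HDU (K : DerivedCategory 𝒜) (m : ℤ) (U : C) : Type w :=
  (singleFunctor 𝒜 0).obj (D.T U) ⟶ K⟦m⟧

/-- sections of the cohomology object `H^m(K)` over `U` -/
noncomputable abbrev HS (K : DerivedCategory 𝒜) (m : ℤ) (U : C) : Type u :=
  (D.Γ.obj ((homologyFunctor 𝒜 m).obj K)).obj.obj (op U)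

/-- the map on sections induced by `H^m(g)` -/
noncomputable abbrev HSmap {K K' : DerivedCategory 𝒜} (g : K ⟶ K') (m : ℤ) (U : C) :
    (D.Γ.obj ((homologyFunctor 𝒜 m).obj K)).obj.obj (op U) ⟶
      (D.Γ.obj ((homologyFunctor 𝒜 m).obj K')).obj.obj (op U) :=
  (D.Γ.map ((homologyFunctor 𝒜 m).map g)).hom.app (op U)

/-- restriction of sections of `H^m(K)` -/
noncomputable abbrev HSres (K : DerivedCategory 𝒜) (m : ℤ) {U V : C} (f : V ⟶ U) :
    (D.Γ.obj ((homologyFunctor 𝒜 m).obj K)).obj.obj (op U) ⟶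
      (D.Γ.obj ((homologyFunctor 𝒜 m).obj K)).obj.obj (op V) :=
  (D.Γ.obj ((homologyFunctor 𝒜 m).obj K)).obj.map f.op

/-- `H^m(U, K) → H^m(K)(U)` -/
noncomputable def kU (K : DerivedCategory 𝒜) (m : ℤ) (U : C) (φ : HDU D K m U) : HS D K m U :=
  D.sec U _ (kappaS m (D.T U) K φ)

variable (K : DerivedCategory 𝒜) (m : ℤ)

lemma kU_zero (U : C) : kU D K m U 0 = 0 := by
  rw [kU, kappaS_zero, map_zero]

lemma kU_add (U : C) (φ φ' : HDU D K m U) :
    kU D K m U (φ + φ') = kU D K m U φ + kU D K m U φ' := by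
  have h : kappaS m (D.T U) K (φ + φ') = kappaS m (D.T U) K φ + kappaS m (D.T U) K φ' := by
    simp only [kappaS, kappa, Functor.map_add, Preadditive.comp_add, Preadditive.add_comp]
  rw [kU, h, map_add]
  rfl

/-- the canonical additive map -/
noncomputable def kUHom (U : C) : HDU D K m U →+ HS D K m U :=
  AddMonoidHom.mk' (kU D K m U) (kU_add D K m U)

lemma kU_comp_right {K K' : DerivedCategory 𝒜} (g : K ⟶ K') (U : C) (φ : HDU D K m U) :
    kU D K' m U (φ ≫ g⟦m⟧') = HSmap D g m U (kU D K m U φ) := by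
  rw [kU, kappaS_comp_right, D.sec_right]
  rfl

lemma kU_res {U V : C} (f : V ⟶ U) (φ : HDU D K m U) :
    kU D K m V ((singleFunctor _ 0).map (D.Tmap f) ≫ φ) = HSres D K m f (kU D K m U φ) := by
  rw [kU, kappaS_comp_left, D.sec_left]
  rfl

theorem loc_inj (U : C) (φ : HDU D K m U) (h : kU D K m U φ = 0) :
    ∃ S : J.Cover U, ∀ a : S.Arrow, (singleFunctor _ 0).map (D.Tmap a.f) ≫ φ = 0 := by
  have h0 : kappaS m (D.T U) K φ = 0 := by
    apply (D.sec U ((homologyFunctor 𝒜 m).obj K)).injective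
    rw [map_zero]
    exact h
  obtain ⟨T', π, hπ, h1⟩ := exists_epi_comp_eq_zero_of_kappaS m (D.T U) K φ h0
  obtain ⟨S, hS⟩ := D.cover_lift π U (𝟙 _)
  refine ⟨S, fun a => ?_⟩
  obtain ⟨l, hl⟩ := hS a
  rw [Category.comp_id] at hl
  rw [← hl, Functor.map_comp, Category.assoc, h1, comp_zero]

theorem loc_surj (U : C) (σ : HS D K m U) :
    ∃ S : J.Cover U, ∀ a : S.Arrow, ∃ φ : HDU D K m a.Y,
      kU D K m a.Y φ = HSres D K m a.f σ := by
  obtain ⟨T', π, hπ, φ₀, hφ₀⟩ := exists_epi_kappaS m (D.T U) K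
    ((D.sec U ((homologyFunctor 𝒜 m).obj K)).symm σ)
  obtain ⟨S, hS⟩ := D.cover_lift π U (𝟙 _)
  refine ⟨S, fun a => ?_⟩
  obtain ⟨l, hl⟩ := hS a
  rw [Category.comp_id] at hl
  refine ⟨(singleFunctor _ 0).map l ≫ φ₀, ?_⟩
  rw [kU, kappaS_comp_left, hφ₀, ← Category.assoc, hl, D.sec_left, AddEquiv.apply_symm_apply]

end Groth.Agent.Lib.Helper53.LocData
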