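import Groth.Agent.Lib.Helper53.RlimAbs
import Groth.Agent.Lib.Helper53.RlimProd
import Groth.Agent.Lib.Helper53.HomShf
import Groth.Agent.Lib.Helper53.SiteSec
import Groth.Prelude.Def_CohCx
import Groth.Prelude.Def_CohSite

/-!
# Derived limits of towers of abelian sheaves acyclic on a generating class (helper53)
-/

set_option autoImplicit false
universe u
open CategoryTheory Limits Abelian Opposite

namespace Groth.Agent.Lib.Helper53.RlimSite

open Groth.Agent.Lib.Helper53.SiteCoh Groth.Agent.Lib.Helper53.RlimAbs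
  Groth.Agent.Lib.Helper53.ProdExt

variable {C : Type u} [SmallCategory C] {J : GrothendieckTopology C}

/-- the test objects: free sheaves on members of `B` -/
def testSet (J : GrothendieckTopology C) (B : Set C) : Set (Sheaf J AddCommGrpCat.{u}) :=
  {T | ∃ V ∈ B, T = freeSh J V}

lemma liftsOn_iff_surjective (V : C) {A A' : Sheaf J AddCommGrpCat.{u}} (φ : A ⟶ A') :
    LiftsOn (freeSh J V) φ ↔ Function.Surjective (φ.hom.app (op V)).hom := by
  constructor
  · intro h y
    obtain ⟨s, hs⟩ := h ((shSecEquiv J V A').symm y)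
    refine ⟨shSecEquiv J V A s, ?_⟩
    have h1 := shSecEquiv_naturality_right J V φ s
    rw [hs, AddEquiv.apply_symm_apply] at h1
    exact h1.symm
  · intro h t
    obtain ⟨x, hx⟩ := h (shSecEquiv J V A' t)
    refine ⟨(shSecEquiv J V A).symm x, ?_⟩
    apply (shSecEquiv J V A').injective
    rw [shSecEquiv_naturality_right, AddEquiv.apply_symm_apply]
    exact hx

variable (B : Set C)
  (hB : ∀ U : C, ∃ (ι : Type u) (Y : ι → C) (f : ∀ i, Y i ⟶ U),
    Sieve.ofArrows Y f ∈ J U ∧ ∀ i, Y i ∈ B)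

include hB in
lemma detects : Detects (testSet J B) := by
  intro A A' φ h
  rw [← CategoryTheory.Sheaf.isLocallySurjective_iff_epi']
  refine HomShf.isLocallySurjective_of_basis φ.hom B hB ?_
  intro U hU
  exact (liftsOn_iff_surjective U φ).1 (h _ ⟨U, hU, rfl⟩)

variable (F : ℕ → Sheaf J AddCommGrpCat.{u}) (t : ∀ n, F (n + 1) ⟶ F n)

lemma tmap_eq (n : ℕ) : tmap (CohCx.opSequence F t) n = t n :=
  Functor.ofOpSequence_map_homOfLE_succ t n

lemma liftsOn_diff_of_limOne (V : C)
    (h2 : CohCx.LimOneIsZero (fun n => (F n).obj.obj (op V)) (fun n => ((t n).hom.app (op V)).hom)) :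
    LiftsOn (freeSh J V) (diff (CohCx.opSequence F t)) := by
  intro τ
  let τn : ∀ n, (F n).obj.obj (op V) := fun n =>
    shSecEquiv J V (F n) (τ ≫ Pi.π (tobj (CohCx.opSequence F t)) n)
  obtain ⟨a, ha⟩ := h2 τn
  let s : ∀ n, freeSh J V ⟶ tobj (CohCx.opSequence F t) n := fun n =>
    (shSecEquiv J V (F n)).symm (a n)
  refine ⟨Pi.lift s, ?_⟩
  apply Limits.Pi.hom_ext
  intro n
  rw [Category.assoc, diff_π, Preadditive.comp_sub, Pi.lift_π, Pi.lift_π_assoc, tmap_eq]
  let τ' : freeSh J V ⟶ F n := τ ≫ Pi.π (tobj (CohCx.opSequence F t)) n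
  let sn : freeSh J V ⟶ F n := s n
  let sn1 : freeSh J V ⟶ F (n + 1) := s (n + 1)
  show sn - sn1 ≫ t n = τ'
  apply (shSecEquiv J V (F n)).injective
  have h3 := congrFun ha n
  simp only at h3
  rw [map_sub, shSecEquiv_naturality_right]
  show shSecEquiv J V (F n) ((shSecEquiv J V (F n)).symm (a n)) -
    (t n).hom.app (op V) (shSecEquiv J V (F (n + 1)) ((shSecEquiv J V (F (n + 1))).symm (a (n + 1))))
      = τn n
  rw [AddEquiv.apply_symm_apply, AddEquiv.apply_symm_apply]
  exact h3

variable [HasDerivedCategory.{u} (Sheaf J AddCommGrpCat.{u})]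
  [HasProduct fun n => (DerivedCategory.singleFunctor (Sheaf J AddCommGrpCat.{u}) 0).obj (F n)]

include hB in
theorem main
    (h1 : ∀ U ∈ B, ∀ (p n : ℕ), Subsingleton (CohSite.HU (F n) (p + 1) U))
    (h2 : ∀ U ∈ B, CohCx.LimOneIsZero (fun n => (F n).obj.obj (op U))
      (fun n => ((t n).hom.app (op U)).hom)) :
    DCoh.IsRlim (fun n => (DerivedCategory.singleFunctor _ 0).obj (F n))
      (fun n => (DerivedCategory.singleFunctor _ 0).map (t n))
      ((DerivedCategory.singleFunctor _ 0).obj (limit (CohCx.opSequence F t))) ∧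
    ∀ U ∈ B, ∀ p : ℕ, Subsingleton (CohSite.HU (limit (CohCx.opSequence F t)) (p + 1) U) := by
  have hdet : Detects (testSet J B) := detects B hB
  have hG : ∀ n, Good.{u} (testSet J B) (tobj (CohCx.opSequence F t) n) := by
    rintro n T ⟨V, hV, rfl⟩ q
    exact h1 V hV q n
  have hl : ∀ T ∈ testSet J B, LiftsOn T (diff (CohCx.opSequence F t)) := by
    rintro T ⟨V, hV, rfl⟩
    exact liftsOn_diff_of_limOne F t V (h2 V hV)
  have hS := towerSC_shortExact (CohCx.opSequence F t) hdet hl
  have hc : ∀ (T : Sheaf J AddCommGrpCat.{u}) (i : ℕ),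
      Function.Bijective (cmp.{u} T (tobj (CohCx.opSequence F t)) i) :=
    fun T i => cmp_bijective_of_good hdet i _ hG T
  constructor
  · haveI : HasProduct fun n => (DerivedCategory.singleFunctor (Sheaf J AddCommGrpCat.{u}) 0).obj
        (tobj (CohCx.opSequence F t) n) :=
      ‹HasProduct fun n => (DerivedCategory.singleFunctor (Sheaf J AddCommGrpCat.{u}) 0).obj (F n)›
    have := RlimProd.isRlim (CohCx.opSequence F t) hS hc
    simp only [tmap_eq] at this
    exact this
  · intro U hU p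
    exact good_limit (CohCx.opSequence F t) hdet hl hG _ ⟨U, hU, rfl⟩ p

end Groth.Agent.Lib.Helper53.RlimSite
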