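import Groth.Agent.Lib.Helper53.RlimAbs
import Groth.Agent.Lib.Helper53.RlimProd
import Groth.Agent.Lib.Helper53.RlimSite
import Groth.Agent.Lib.Helper53.LocData
import Groth.Agent.Lib.Helper53.TruncTower

/-!
# Derived limits of towers acyclic on a generating class, over abstract `LocData` (helper53)

Abstract version of `RlimSite.main`: for `𝒜` an abelian category with local data over a site,
a tower `F n` in `𝒜` with `Ext^{p+1}(T_U, F n) = 0` and `R¹lim Hom(T_U, F n) = 0` for `U` in a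
generating class `B` has `Rlim F n = lim F n`, and `Ext^{p+1}(T_U, lim F n) = 0`.
-/

set_option autoImplicit false
universe w u
open CategoryTheory Limits Abelian Opposite

namespace Groth.Agent.Lib.Helper53.RlimLoc

open Groth.Agent.Lib.Helper53.RlimAbs Groth.Agent.Lib.Helper53.ProdExt
  Groth.Agent.Lib.Helper53.LocData

variable {C : Type u} [SmallCategory C] {J : GrothendieckTopology C}
  {𝒜 : Type (u + 1)} [Category.{u} 𝒜] [Abelian 𝒜] [HasExt.{u} 𝒜] (D : LocData C J 𝒜)

/-- the test objects: `T V` for `V ∈ B` -/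
def testSet (B : Set C) : Set 𝒜 := {T | ∃ V ∈ B, T = D.T V}

variable (B : Set C)
  (hB : ∀ U : C, ∃ (ι : Type u) (Y : ι → C) (f : ∀ i, Y i ⟶ U),
    Sieve.ofArrows Y f ∈ J U ∧ ∀ i, Y i ∈ B)

include hB in
lemma detects : Detects (testSet D B) := by
  intro A A' φ h
  apply D.epi_of_locSurj
  refine HomShf.isLocallySurjective_of_basis (D.Γ.map φ).hom B hB ?_
  intro U hU y
  obtain ⟨s, hs⟩ := h _ ⟨U, hU, rfl⟩ ((D.sec U A').symm y)
  refine ⟨D.sec U A s, ?_⟩
  have := D.sec_right U φ s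
  rw [hs, AddEquiv.apply_symm_apply] at this
  exact this.symm

variable (F : ℕ → 𝒜) (t : ∀ n, F (n + 1) ⟶ F n)

/-- vanishing of `R¹lim` of the tower `Hom(T, F n)` -/
def LimOneHom (T : 𝒜) : Prop :=
  ∀ y : ∀ n, T ⟶ F n, ∃ x : ∀ n, T ⟶ F n, ∀ n, x n - x (n + 1) ≫ t n = y n

lemma limOneHom_of_eventually_liftsOn (T : 𝒜) (n₀ : ℕ)
    (h : ∀ n, n₀ ≤ n → LiftsOn T (t n)) : LimOneHom F t T := by
  have := TruncTower.limOne_of_eventually_surjective n₀ (fun n => (T ⟶ F n))
    (fun n => AddMonoidHom.mk' (fun g => g ≫ t n) (fun a b => Preadditive.add_comp _ _ _ _ _ _))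
    (fun n hn y => h n hn y)
  intro y
  obtain ⟨x, hx⟩ := this y
  exact ⟨x, fun n => congrFun hx n⟩

omit [HasExt.{u} 𝒜] in
lemma tmap_eq (n : ℕ) : tmap (CohCx.opSequence F t) n = t n :=
  Functor.ofOpSequence_map_homOfLE_succ t n

variable [HasLimit (CohCx.opSequence F t)] [HasProduct (tobj (CohCx.opSequence F t))]

lemma liftsOn_diff_of_limOneHom (T : 𝒜) (h2 : LimOneHom F t T) :
    LiftsOn T (diff (CohCx.opSequence F t)) := by
  intro τ
  obtain ⟨x, hx⟩ := h2 (fun n => τ ≫ Pi.π (tobj (CohCx.opSequence F t)) n)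
  refine ⟨Pi.lift (fun n => (x n : T ⟶ tobj (CohCx.opSequence F t) n)), ?_⟩
  apply Limits.Pi.hom_ext
  intro n
  rw [Category.assoc, diff_π, Preadditive.comp_sub, Pi.lift_π, Pi.lift_π_assoc, tmap_eq]
  exact hx n

variable [EnoughInjectives 𝒜] [HasProductsOfShape ℕ 𝒜] [HasDerivedCategory.{w} 𝒜]
  [HasProduct fun n => (DerivedCategory.singleFunctor 𝒜 0).obj (F n)]

include hB in
theorem main
    (h1 : ∀ U ∈ B, ∀ (p n : ℕ), Subsingleton (Ext.{u} (D.T U) (F n) (p + 1)))
    (h2 : ∀ U ∈ B, LimOneHom F t (D.T U)) :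
    DCoh.IsRlim (fun n => (DerivedCategory.singleFunctor 𝒜 0).obj (F n))
      (fun n => (DerivedCategory.singleFunctor 𝒜 0).map (t n))
      ((DerivedCategory.singleFunctor 𝒜 0).obj (limit (CohCx.opSequence F t))) ∧
    ∀ U ∈ B, ∀ p : ℕ, Subsingleton (Ext.{u} (D.T U) (limit (CohCx.opSequence F t)) (p + 1)) := by
  have hdet : Detects (testSet D B) := detects D B hB
  have hG : ∀ n, Good.{u} (testSet D B) (tobj (CohCx.opSequence F t) n) := by
    rintro n T ⟨V, hV, rfl⟩ q
    exact h1 V hV q n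
  have hl : ∀ T ∈ testSet D B, LiftsOn T (diff (CohCx.opSequence F t)) := by
    rintro T ⟨V, hV, rfl⟩
    exact liftsOn_diff_of_limOneHom F t _ (h2 V hV)
  have hS := towerSC_shortExact (CohCx.opSequence F t) hdet hl
  have hc : ∀ (T : 𝒜) (i : ℕ),
      Function.Bijective (cmp.{u} T (tobj (CohCx.opSequence F t)) i) :=
    fun T i => cmp_bijective_of_good hdet i _ hG T
  constructor
  · haveI : HasProduct fun n => (DerivedCategory.singleFunctor 𝒜 0).obj
        (tobj (CohCx.opSequence F t) n) :=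
      ‹HasProduct fun n => (DerivedCategory.singleFunctor 𝒜 0).obj (F n)›
    have := RlimProd.isRlim (CohCx.opSequence F t) hS hc
    simp only [tmap_eq] at this
    exact this
  · intro U hU p
    exact good_limit (CohCx.opSequence F t) hdet hl hG _ ⟨U, hU, rfl⟩ p

end Groth.Agent.Lib.Helper53.RlimLoc
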