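import Groth.Agent.Lib.Helper53.ModLoc
import Groth.Agent.Lib.Helper53.RlimLoc
import Groth.Agent.Lib.Helper53.ModGroth
import Groth.Agent.Lib.Helper53.Restrict
import Groth.Agent.Lib.Helper26.AffineVanishing
import Groth.Agent.Lib.Helper21.QCohKernel
import Mathlib.Algebra.Category.ModuleCat.Sheaf.Limits

/-!
# Towers of quasi-coherent modules on a scheme (helper53)

Scheme-level instantiation of `RlimAbs`/`RlimLoc`: the limit of a tower of quasi-coherent modules
with surjective transition maps has vanishing higher cohomology on affine opens.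
-/

set_option autoImplicit false
universe u
open CategoryTheory Limits Abelian Opposite AlgebraicGeometry TopologicalSpace

namespace Groth.Agent.Lib.Helper53.SchemeTower

open Groth.Agent.Lib.Helper53.RlimAbs Groth.Agent.Lib.Helper53.ProdExt
  Groth.Agent.Lib.Helper53.RlimLoc

variable (X : Scheme.{u})

/-- the local data of `X.Modules` over the site of opens -/
noncomputable abbrev DX :=
  Groth.Agent.Lib.Helper53.ModLoc.modLocData (Opens.grothendieckTopology X) X.ringCatSheaf

/-- affine opens -/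
def affB : Set X.Opens := {U | IsAffineOpen U}

lemma hB_affine : ∀ U : X.Opens, ∃ (ι : Type u) (Y : ι → X.Opens) (f : ∀ i, Y i ⟶ U),
    Sieve.ofArrows Y f ∈ Opens.grothendieckTopology X U ∧ ∀ i, Y i ∈ affB X := by
  intro U
  refine ⟨{W : X.Opens // IsAffineOpen W ∧ W ≤ U}, fun W => W.1, fun W => homOfLE W.2.2, ?_,
    fun W => W.2.1⟩
  rw [Opens.mem_grothendieckTopology]
  intro x hx
  obtain ⟨W, hW, hxW, hWU⟩ := Opens.isBasis_iff_nbhd.mp X.isBasis_affineOpens hx
  exact ⟨W, homOfLE hWU, ⟨_, 𝟙 _, _, ⟨(⟨W, hW, hWU⟩ : {W : X.Opens // IsAffineOpen W ∧ W ≤ U})⟩,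
    by simp⟩, hxW⟩

instance : IsGrothendieckAbelian.{u} (SheafOfModules.{u} X.ringCatSheaf) :=
  Groth.Agent.Lib.Helper53.ModGroth.isGrothendieckAbelian (Opens.grothendieckTopology X)
    X.ringCatSheaf

noncomputable instance : HasExt.{u} (SheafOfModules.{u} X.ringCatSheaf) :=
  hasExt_of_enoughInjectives _

variable {X}

lemma hvan (U : X.Opens) (hU : IsAffineOpen U) (M : SheafOfModules.{u} X.ringCatSheaf)
    (hM : Coh.IsQCoh (X := X) M) (p : ℕ) :
    Subsingleton (Ext.{u} ((DX X).T U) M (p + 1)) :=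
  Groth.Agent.Lib.Helper53.ModLoc.subsingleton_ext_Tm (Opens.grothendieckTopology X)
    X.ringCatSheaf U M (p + 1)
    (@Groth.Agent.Lib.Helper26.AffineVanishing.subsingleton_HU_succ X M hM p U hU)

lemma liftsOn_of_epi_qcoh {M N : SheafOfModules.{u} X.ringCatSheaf} (φ : M ⟶ N) [Epi φ]
    (hM : Coh.IsQCoh (X := X) M) (hN : Coh.IsQCoh (X := X) N) (U : X.Opens)
    (hU : IsAffineOpen U) : LiftsOn ((DX X).T U) φ := by
  have hq : Coh.IsQCoh (X := X) (kernel φ) := by
    let M' : X.Modules := M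
    let N' : X.Modules := N
    let φ' : M' ⟶ N' := φ
    haveI : M'.IsQuasicoherent := hM
    haveI : N'.IsQuasicoherent := hN
    exact Groth.Agent.Lib.Helper21.QCohKernel.isQuasicoherent_kernel φ'
  have hS : (ShortComplex.mk (kernel.ι φ) φ (kernel.condition _)).ShortExact :=
    ShortComplex.ShortExact.mk' (ShortComplex.exact_kernel φ) inferInstance inferInstance
  exact liftsOn_of_ext_one hS _ (hvan U hU _ hq 0)

section Tower

variable (G : ℕᵒᵖ ⥤ SheafOfModules.{u} X.ringCatSheaf)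

lemma liftsOn_diff (T : SheafOfModules.{u} X.ringCatSheaf)
    (h2 : LimOneHom (tobj G) (tmap G) T) : LiftsOn T (diff G) := by
  intro τ
  obtain ⟨x, hx⟩ := h2 (fun n => τ ≫ Pi.π (tobj G) n)
  refine ⟨Pi.lift (fun n => (x n : T ⟶ tobj G n)), ?_⟩
  apply Limits.Pi.hom_ext
  intro n
  rw [Category.assoc, diff_π, Preadditive.comp_sub, Pi.lift_π, Pi.lift_π_assoc]
  exact hx n

theorem good_limit_of_epi (hq : ∀ n, Coh.IsQCoh (X := X) (G.obj (op n)))
    (hepi : ∀ n, Epi (G.map (homOfLE (Nat.le_succ n)).op)) :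
    Good.{u} (testSet (DX X) (affB X)) (limit G) := by
  have hdet : Detects (testSet (DX X) (affB X)) := detects (DX X) (affB X) (hB_affine X)
  have hG : ∀ n, Good.{u} (testSet (DX X) (affB X)) (tobj G n) := by
    rintro n T ⟨V, hV, rfl⟩ q
    exact hvan V hV _ (hq n) q
  have hl : ∀ T ∈ testSet (DX X) (affB X), LiftsOn T (diff G) := by
    rintro T ⟨V, hV, rfl⟩
    refine liftsOn_diff G _ (limOneHom_of_eventually_liftsOn (tobj G) (tmap G) _ 0 (fun n _ => ?_))
    haveI := hepi n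
    exact liftsOn_of_epi_qcoh (tmap G n) (hq (n + 1)) (hq n) V hV
  exact good_limit G hdet hl hG

theorem subsingleton_HHon_limit (hq : ∀ n, Coh.IsQCoh (X := X) (G.obj (op n)))
    (hepi : ∀ n, Epi (G.map (homOfLE (Nat.le_succ n)).op))
    (U : X.Opens) (hU : IsAffineOpen U) (p : ℕ) (hp : 0 < p) :
    Subsingleton (Coh.HHon X (limit G : SheafOfModules.{u} X.ringCatSheaf) U p) := by
  obtain ⟨p', rfl⟩ : ∃ p', p = p' + 1 := ⟨p - 1, by omega⟩
  have h1 := good_limit_of_epi G hq hepi _ ⟨U, hU, rfl⟩ p'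
  obtain ⟨e⟩ := Groth.Agent.Lib.Helper53.ModLoc.nonempty_ext_Tm_equiv (Opens.grothendieckTopology X)
    X.ringCatSheaf U (limit G) (p' + 1)
  have h2 : Subsingleton (CohTop.HU (Coh.toAb (X := X)
      (limit G : SheafOfModules.{u} X.ringCatSheaf)) (p' + 1) U) :=
    @Equiv.subsingleton _ _ e.symm.toEquiv h1
  obtain ⟨e1⟩ := Groth.Agent.Lib.Helper53.nonempty_HU_equiv_H_restr (X := X.toTopCat) U
    (Coh.toAb (X := X) (limit G : SheafOfModules.{u} X.ringCatSheaf)) (p' + 1)
  exact @Equiv.subsingleton _ _ e1.symm.toEquiv h2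

end Tower

end Groth.Agent.Lib.Helper53.SchemeTower
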