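import Groth.Agent.Lib.Helper53.WSerreUnb
import Groth.Agent.Lib.Helper53.ModCatLoc
import Groth.Agent.Lib.Helper53.AdjSingle2
import Groth.Agent.Lib.Helper53.SchemeTower
import Groth.Agent.Lib.Helper13.KInjDerAdjH
import Groth.Prelude.Def_DCoh2

/-!
# `D(A) ≃ D_QCoh(O_{Spec A})` (helper53)

The abstract unbounded equivalence of `WSerreUnb` applied to `~ ⊣ Γ`, given that quasi-coherent
modules on `Spec A` form a weak Serre subcategory and `Ext^p(A~, F) = 0` for `p > 0`.
-/

set_option autoImplicit false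
universe u
open CategoryTheory Limits Opposite AlgebraicGeometry Abelian ZeroObject

namespace Groth.Agent.Lib.Helper53.TildeEquiv

open DerivedCategory Groth.Agent.Lib.Helper53.LocData Groth.Agent.Lib.Helper53.ModCatLoc

attribute [local instance] HasDerivedCategory.standard

section Pt

variable (R : Type u) [Ring R]

lemma hB_pt : ∀ U : Pt.{u}, ∃ (ι : Type u) (Y : ι → Pt.{u}) (g : ∀ i, Y i ⟶ U),
    Sieve.ofArrows Y g ∈ (⊥ : GrothendieckTopology Pt.{u}) U ∧ ∀ i, Y i ∈ (Set.univ : Set Pt.{u}) := by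
  intro U
  refine ⟨PUnit.{u + 1}, fun _ => U, fun _ => 𝟙 U, ?_, fun _ => trivial⟩
  refine GrothendieckTopology.superset_covering _ ?_ (GrothendieckTopology.top_mem _ U)
  intro W f _
  exact ⟨U, f, 𝟙 U, ⟨PUnit.unit⟩, Category.comp_id f⟩

instance : WSerre.IsWeakSerre (⊤ : ObjectProperty (ModuleCat.{u} R)) where
  exists_zero := ⟨0, isZero_zero _, trivial⟩
  kernels_le := fun _ _ => trivial
  cokernels_le := fun _ _ => trivial
  prop_X₂_of_shortExact := fun _ _ _ => trivial

/-- derived limits of towers with eventually constant cohomology in `D(Mod R)` -/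
theorem eventually_const [HasExt.{u} (ModuleCat.{u} R)]
    (K : ℕ → DerivedCategory (ModuleCat.{u} R)) (t : ∀ n, K (n + 1) ⟶ K n)
    (hK : ∀ n, WSerre.cohInPlus (⊤ : ObjectProperty (ModuleCat.{u} R)) (K n))
    (hconst : ∀ j : ℤ, ∃ n₀ : ℕ, ∀ n, n₀ ≤ n → IsIso ((homologyFunctor _ j).map (t n)))
    [HasProduct K] (Lim : DerivedCategory (ModuleCat.{u} R)) (a : ∀ n, Lim ⟶ K n)
    (hL : CohCx.IsRlimVia K t Lim a) (j : ℤ) :
    ∃ n₀ : ℕ, ∀ n, n₀ ≤ n → IsIso ((homologyFunctor _ j).map (a n)) := by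
  refine Groth.Agent.Lib.Helper53.LocConst.isIso_homology_of_eventually_constant
    (modCatLocData R) ⊤ K t hK Lim a hL Set.univ (hB_pt) ?_ hconst j
  intro V _
  refine ⟨0, fun T hT => ?_⟩
  rw [GrothendieckTopology.bot_covering] at hT
  obtain ⟨ι, Y, g, hcov, hY⟩ := hB_pt V
  refine ⟨ι, Y, g, fun i => by rw [hT]; trivial, hcov, fun i F _ k hk => ?_⟩
  obtain ⟨k', rfl⟩ : ∃ k', k = k' + 1 := ⟨k - 1, by omega⟩
  haveI : Projective (ModuleCat.of R R) :=
    (IsProjective.iff_projective (R := R) R).1 inferInstance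
  have key : ∀ x : Ext.{u} (ModuleCat.of R R) F (k' + 1), x = 0 :=
    fun x => Ext.eq_zero_of_projective x
  exact ⟨fun x y => (key x).trans (key y).symm⟩

end Pt

section Main

variable (R : CommRingCat.{u}) [PreservesFiniteLimits (tilde.functor R)]

/-- quasi-coherent modules on `Spec R` -/
abbrev QC : ObjectProperty (Spec (CommRingCat.of R)).Modules := fun M => Coh.IsQCoh M

set_option maxHeartbeats 800000 in
theorem main [WSerre.IsWeakSerre (QC R)]
    (hExt : ∀ (F : (Spec (CommRingCat.of R)).Modules) (_ : Coh.IsQCoh F) (p : ℕ)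
      [HasExt.{u} (Spec (CommRingCat.of R)).Modules],
      Subsingleton (Ext.{u} ((tilde.functor R).obj (ModuleCat.of R R)) F (p + 1))) :
    (DCoh.tildeD R).Full ∧ (DCoh.tildeD R).Faithful ∧
    ∀ K : DCoh.D (Spec (CommRingCat.of R)), DCoh.IsQCohD K ↔
      ∃ M, Nonempty ((DCoh.tildeD R).obj M ≅ K) := by
  haveI hG : IsGrothendieckAbelian.{u} (Spec (CommRingCat.of R)).Modules :=
    Groth.Agent.Lib.Helper53.ModGroth.isGrothendieckAbelian
      (Opens.grothendieckTopology (Spec (CommRingCat.of R))) (Spec (CommRingCat.of R)).ringCatSheaf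
  haveI : HasExt.{u} (Spec (CommRingCat.of R)).Modules := hasExt_of_enoughInjectives _
  haveI : HasExt.{u} (ModuleCat.{u} R) := hasExt_of_enoughInjectives _
  haveI : (moduleSpecΓFunctor (R := R)).Additive :=
    (tilde.adjunction (R := R)).right_adjoint_additive
  haveI : PreservesFiniteColimits (tilde.functor R) := by
    haveI := (tilde.adjunction (R := R)).leftAdjoint_preservesColimits
    infer_instance
  let adj := Groth.Agent.Lib.Helper13.KInjDerAdj.adj₀ (tilde.adjunction (R := R))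
  let _ : (Groth.Agent.Lib.Helper13.KInjDerAdj.rightAdj (tilde.adjunction (R := R))).CommShift ℤ :=
    adj.rightAdjointCommShift ℤ
  haveI hPB : ∀ K' : ℕ → DerivedCategory (Spec (CommRingCat.of R)).Modules, HasProduct K' :=
    fun K' => Groth.Agent.Lib.Helper53.WSerreUnb.hasProduct_nat K'
  haveI hPB' : ∀ K' : ℕ → DerivedCategory
      (SheafOfModules.{u} (Spec (CommRingCat.of R)).ringCatSheaf), HasProduct K' :=
    fun K' => Groth.Agent.Lib.Helper53.WSerreUnb.hasProduct_nat K'
  haveI hPA : ∀ K' : ℕ → DerivedCategory (ModuleCat.{u} R), HasProduct K' :=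
    fun K' => Groth.Agent.Lib.Helper53.WSerreUnb.hasProduct_nat K'
  -- vanishing of `Hom(single (R~), (single F)[p+1])`
  have hvanL : ∀ (W : DerivedCategory (Spec (CommRingCat.of R)).Modules)
      (F : (Spec (CommRingCat.of R)).Modules) (_ : Coh.IsQCoh F)
      (ξ : W ≅ (singleFunctor _ 0).obj F) (p : ℕ),
      Subsingleton ((tilde.functor R).mapDerivedCategory.obj
        ((singleFunctor (ModuleCat.{u} R) 0).obj (ModuleCat.of R R)) ⟶ W⟦((p + 1 : ℕ) : ℤ)⟧) := by
    intro W F hF ξ p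
    haveI := hExt F hF p
    have h1 : Subsingleton ((singleFunctor _ 0).obj ((tilde.functor R).obj (ModuleCat.of R R)) ⟶
        ((singleFunctor _ 0).obj F)⟦((p + 1 : ℕ) : ℤ)⟧) :=
      (Ext.homEquiv (X := (tilde.functor R).obj (ModuleCat.of R R)) (Y := F)
        (n := p + 1)).symm.subsingleton
    let eT : (tilde.functor R).mapDerivedCategory.obj
        ((singleFunctor (ModuleCat.{u} R) 0).obj (ModuleCat.of R R)) ≅
        (singleFunctor _ 0).obj ((tilde.functor R).obj (ModuleCat.of R R)) :=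
      ((tilde.functor R).mapDerivedCategorySingleFunctor 0).app _
    refine ⟨fun x y => ?_⟩
    have h : eT.inv ≫ x ≫ ξ.hom⟦((p + 1 : ℕ) : ℤ)⟧' = eT.inv ≫ y ≫ ξ.hom⟦((p + 1 : ℕ) : ℤ)⟧' :=
      h1.elim _ _
    have h' := (cancel_epi eT.inv).1 h
    exact (cancel_mono _).1 h'
  -- the unit on single modules
  have h3 : ∀ F' : ModuleCat.{u} R, (⊤ : ObjectProperty (ModuleCat.{u} R)) F' →
      IsIso (adj.unit.app ((singleFunctor (ModuleCat.{u} R) 0).obj F')) := by
    intro M _
    refine Groth.Agent.Lib.Helper53.AdjSingle2.isIso_unit_single adj M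
      (fun T => ⟨(tilde.functor R).map_injective, (tilde.functor R).map_surjective⟩)
      (fun p hp => ?_)
    obtain ⟨n, rfl⟩ : ∃ n : ℕ, p = ((n + 1 : ℕ) : ℤ) := ⟨(p - 1).toNat, by
      have := Int.toNat_of_nonneg (show 0 ≤ p - 1 by omega)
      push_cast
      omega⟩
    refine Groth.Agent.Lib.Helper53.LocVanish.isZero_homology_of_subsingleton_HDU
      (modCatLocData R) _ _ Set.univ hB_pt (fun U _ => ?_)
    let ξ : (tilde.functor R).mapDerivedCategory.obj ((singleFunctor (ModuleCat.{u} R) 0).obj M) ≅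
        (singleFunctor _ 0).obj ((tilde.functor R).obj M) :=
      ((tilde.functor R).mapDerivedCategorySingleFunctor 0).app _
    have h4 := hvanL _ ((tilde.functor R).obj M) (inferInstance : ((tilde.functor R).obj M).IsQuasicoherent) ξ n
    refine ⟨fun x y => ?_⟩
    let c := ((Groth.Agent.Lib.Helper13.KInjDerAdj.rightAdj
      (tilde.adjunction (R := R))).commShiftIso (((n + 1 : ℕ) : ℤ))).app
      ((tilde.functor R).mapDerivedCategory.obj ((singleFunctor (ModuleCat.{u} R) 0).obj M))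
    have h : (adj.homEquiv _ _).symm (x ≫ c.inv) = (adj.homEquiv _ _).symm (y ≫ c.inv) :=
      h4.elim _ _
    have h' := (adj.homEquiv _ _).symm.injective h
    exact (cancel_mono c.inv).1 h'
  have H4 : ∀ K : DerivedCategory (SheafOfModules.{u} (Spec (CommRingCat.of R)).ringCatSheaf),
      (∀ i : ℤ, Coh.IsQCoh (X := Spec (CommRingCat.of R)) ((homologyFunctor
        (SheafOfModules.{u} (Spec (CommRingCat.of R)).ringCatSheaf) i).obj K)) →
      CohCx.IsRlimVia (CohCx.truncTower K) (CohCx.truncTowerMap K) K (CohCx.toTruncTower K) := by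
    intro K hK
    refine Groth.Agent.Lib.Helper53.LocRlim.isRlimVia_truncTower
      (Groth.Agent.Lib.Helper53.SchemeTower.DX (Spec (CommRingCat.of R))) K
      (Groth.Agent.Lib.Helper53.SchemeTower.affB (Spec (CommRingCat.of R)))
      (Groth.Agent.Lib.Helper53.SchemeTower.hB_affine (Spec (CommRingCat.of R))) ?_
    intro V hV
    refine ⟨fun m => max 0 m, fun T hT => ?_⟩
    obtain ⟨ι, Y, g, hT', hcov, hYB⟩ :=
      Groth.Agent.Lib.Helper53.LocVanish.exists_refinement _ _
        (Groth.Agent.Lib.Helper53.SchemeTower.hB_affine (Spec (CommRingCat.of R))) V T hT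
    refine ⟨ι, Y, g, hT', hcov, fun i m k hk => ?_⟩
    have hk' : max (0 : ℤ) m < k := hk
    obtain ⟨k', rfl⟩ : ∃ k', k = k' + 1 := ⟨k - 1, by
      have := le_max_left (0 : ℤ) m
      omega⟩
    exact Groth.Agent.Lib.Helper53.SchemeTower.hvan (Y i) (hYB i) _
      (hK (m - ((k' + 1 : ℕ) : ℤ))) k'
  have key := Groth.Agent.Lib.Helper53.WSerreUnb.equivalence_unbounded adj (QC R)
    (⊤ : ObjectProperty (ModuleCat.{u} R))
    (fun F' _ => (inferInstance : ((tilde.functor R).obj F').IsQuasicoherent))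
    (fun F hF => by
      have hiso : IsIso (Scheme.Modules.fromTildeΓ (R := R) F) :=
        @Scheme.Modules.isIso_fromTildeΓ_of_isQuasicoherent R F hF
      exact ⟨_, trivial, ⟨@asIso _ _ _ _ _ hiso⟩⟩)
    h3
    H4
    (fun K' t hK hconst Lim a hL j => eventually_const R K' t hK hconst Lim a hL j)
  obtain ⟨k1, k2⟩ := key
  haveI : ∀ Y, IsIso (adj.unit.app Y) := fun Y => (k1 Y (fun _ => trivial)).2
  haveI : IsIso adj.unit := NatIso.isIso_of_isIso_app _
  refine ⟨(adj.fullyFaithfulLOfIsIsoUnit).full, (adj.fullyFaithfulLOfIsIsoUnit).faithful,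
    fun K => ⟨fun hK => ?_, ?_⟩⟩
  · haveI := (k2 K hK).2
    exact ⟨_, ⟨asIso (adj.counit.app K)⟩⟩
  · rintro ⟨M, ⟨e⟩⟩ i
    have h1 := (k1 M (fun _ => trivial)).1 i
    exact ((QC R).prop_iff_of_iso ((homologyFunctor _ i).mapIso e)).1 h1

end Main

end Groth.Agent.Lib.Helper53.TildeEquiv
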