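import Mathlib.Algebra.Homology.DerivedCategory.Ext.ExactSequences
import Mathlib.Algebra.Homology.DerivedCategory.Ext.EnoughInjectives
import Mathlib.GroupTheory.QuotientGroup.Basic

/-!
# Dimension shifting for `Ext` along a short exact sequence with injective middle term
-/

universe w v u

open CategoryTheory Abelian

namespace Groth.Agent.Lib.Helper53

variable {C : Type u} [Category.{v} C] [Abelian C] [HasExt.{w} C]
  {S : ShortComplex C} (hS : S.ShortExact) [Injective S.X₂] (P : C)

/-- the connecting map `Ext^{n+1}(P, X₃) → Ext^{n+2}(P, X₁)` is bijective when the middle term is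
injective -/
lemma extClass_postcomp_bijective (n : ℕ) :
    Function.Bijective (hS.extClass.postcomp P (rfl : n + 1 + 1 = n + 2)) := by
  constructor
  · rw [injective_iff_map_eq_zero]
    intro x hx
    obtain ⟨x₂, hx₂⟩ := Ext.covariant_sequence_exact₃ P hS x rfl hx
    rw [← hx₂, Ext.eq_zero_of_injective x₂, Ext.zero_comp]
  · intro x₁
    exact Ext.covariant_sequence_exact₁ P hS x₁ (Ext.eq_zero_of_injective _) rfl

/-- dimension shifting: `Ext^{n+1}(P, X₃) ≃ Ext^{n+2}(P, X₁)` -/
noncomputable def extShiftEquiv (n : ℕ) : Ext P S.X₃ (n + 1) ≃+ Ext P S.X₁ (n + 2) :=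
  AddEquiv.ofBijective (hS.extClass.postcomp P (rfl : n + 1 + 1 = n + 2))
    (extClass_postcomp_bijective hS P n)

lemma extClass_postcomp_zero_surjective :
    Function.Surjective (hS.extClass.postcomp P (zero_add 1)) := by
  intro x₁
  exact Ext.covariant_sequence_exact₁ P hS x₁ (Ext.eq_zero_of_injective _) (zero_add 1)

lemma extClass_postcomp_zero_ker :
    (hS.extClass.postcomp P (zero_add 1)).ker =
      ((Ext.mk₀ S.g).postcomp P (add_zero 0)).range := by
  ext x
  rw [AddMonoidHom.mem_ker, AddMonoidHom.mem_range]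
  constructor
  · intro hx
    exact Ext.covariant_sequence_exact₃ P hS x (zero_add 1) hx
  · rintro ⟨x₂, rfl⟩
    change (x₂.comp (Ext.mk₀ S.g) (add_zero 0)).comp hS.extClass (zero_add 1) = 0
    rw [Ext.comp_assoc_of_second_deg_zero, hS.comp_extClass, Ext.comp_zero]

/-- `Ext^1(P, X₁)` is the cokernel of `Hom(P, X₂) → Hom(P, X₃)` -/
noncomputable def extOneEquiv :
    (Ext P S.X₃ 0 ⧸ ((Ext.mk₀ S.g).postcomp P (add_zero 0)).range) ≃+ Ext P S.X₁ 1 :=
  (QuotientAddGroup.quotientAddEquivOfEq (extClass_postcomp_zero_ker hS P).symm).trans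
    (QuotientAddGroup.quotientKerEquivOfSurjective _ (extClass_postcomp_zero_surjective hS P))

end Groth.Agent.Lib.Helper53
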