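import Groth.Agent.Lib.Helper53.ClosedEmb
import Groth.Agent.Lib.Helper53.ExtShift

/-!
# Cohomology and direct image along a closed embedding
-/

universe u

open CategoryTheory TopologicalSpace Opposite CategoryTheory.Limits Abelian

namespace Groth.Agent.Lib.Helper53

variable {X Y : TopCat.{u}} (f : X ⟶ Y)

/-- direct image preserves injective abelian sheaves -/
instance injective_push (I : CohTop.Ab X) [Injective I] : Injective ((CohTop.push f).obj I) := by
  have h1 : PreservesFiniteLimits (TopCat.Sheaf.pullback AddCommGrpCat.{u} f) := by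
    unfold TopCat.Sheaf.pullback
    exact CategoryTheory.Functor.SmallCategories.instPreservesFiniteLimitsSheafSheafPullbackOfRepresentablyFlat
      (TopologicalSpace.Opens.map f) AddCommGrpCat.{u} _ _
  have h2 : (TopCat.Sheaf.pullback AddCommGrpCat.{u} f).PreservesMonomorphisms :=
    @CategoryTheory.preservesMonomorphisms_of_preservesLimitsOfShape _ _ _ _ _
      (@Limits.PreservesFiniteLimits.preservesFiniteLimits _ _ _ _ _ h1 _ _ _)
  exact @Injective.injective_of_adjoint _ _ _ _ _ _ h2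
    (TopCat.Sheaf.pullbackPushforwardAdjunction AddCommGrpCat.{u} f) I ‹_›

/-- global sections of a sheaf and of its direct image agree, in terms of `H^0` -/
noncomputable def h0Equiv (G : CohTop.Ab X) :
    CohTop.H G 0 ≃+ CohTop.H ((CohTop.push f).obj G) 0 :=
  (Sheaf.H.equiv₀ G isTerminalTop).trans
    (Sheaf.H.equiv₀ ((CohTop.push f).obj G) isTerminalTop).symm

lemma h0Equiv_naturality {G G' : CohTop.Ab X} (φ : G ⟶ G') (x : CohTop.H G 0) :
    h0Equiv f G' (Sheaf.H.map φ 0 x) = Sheaf.H.map ((CohTop.push f).map φ) 0 (h0Equiv f G x) := by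
  apply (Sheaf.H.equiv₀ ((CohTop.push f).obj G') isTerminalTop).injective
  have h1 := Sheaf.H.equiv₀_naturality (T := (⊤ : Opens X)) isTerminalTop φ x
  have h2 := Sheaf.H.equiv₀_naturality (T := (⊤ : Opens Y)) isTerminalTop
    ((CohTop.push f).map φ) (h0Equiv f G x)
  rw [← h2]
  have h3 : Sheaf.H.equiv₀ ((CohTop.push f).obj G') isTerminalTop
      (h0Equiv f G' (Sheaf.H.map φ 0 x)) = Sheaf.H.equiv₀ G' isTerminalTop (Sheaf.H.map φ 0 x) :=
    AddEquiv.apply_symm_apply _ _
  have h4 : Sheaf.H.equiv₀ ((CohTop.push f).obj G) isTerminalTop (h0Equiv f G x) =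
      Sheaf.H.equiv₀ G isTerminalTop x := AddEquiv.apply_symm_apply _ _
  rw [h3, h4, ← h1]
  rfl

section

variable (hpc : PreservesFiniteColimits (CohTop.push f))

include hpc in
lemma injSeq_map_shortExact (F : CohTop.Ab X) : ((injSeq F).map (CohTop.push f)).ShortExact :=
  (injSeq_shortExact F).map_of_exact (CohTop.push f)

instance (F : CohTop.Ab X) : Injective ((injSeq F).map (CohTop.push f)).X₂ := by
  change Injective ((CohTop.push f).obj (injSeq F).X₂)
  infer_instance

include hpc in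
/-- degree one: `H^1(X, F) ≃ H^1(Y, f_* F)` when `f_*` is exact -/
theorem nonempty_h1Equiv (F : CohTop.Ab X) :
    Nonempty (CohTop.H F 1 ≃+ CohTop.H ((CohTop.push f).obj F) 1) := by
  have hS := injSeq_shortExact F
  have hS' := injSeq_map_shortExact f hpc F
  let PX := (constantSheaf (Opens.grothendieckTopology X) AddCommGrpCat.{u}).obj
    (AddCommGrpCat.of (ULift ℤ))
  let PY := (constantSheaf (Opens.grothendieckTopology Y) AddCommGrpCat.{u}).obj
    (AddCommGrpCat.of (ULift ℤ))
  let e₃ : Ext PX (injSeq F).X₃ 0 ≃+ Ext PY ((injSeq F).map (CohTop.push f)).X₃ 0 :=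
    h0Equiv f (injSeq F).X₃
  have he : AddSubgroup.map (e₃ : Ext PX (injSeq F).X₃ 0 →+
        Ext PY ((injSeq F).map (CohTop.push f)).X₃ 0)
      ((Ext.mk₀ (injSeq F).g).postcomp PX (add_zero 0)).range =
      ((Ext.mk₀ ((injSeq F).map (CohTop.push f)).g).postcomp PY (add_zero 0)).range := by
    ext y
    constructor
    · rintro ⟨_, ⟨x₂, rfl⟩, rfl⟩
      exact ⟨h0Equiv f (injSeq F).X₂ x₂, (h0Equiv_naturality f (injSeq F).g x₂).symm⟩
    · rintro ⟨x₂', rfl⟩
      refine ⟨_, ⟨(h0Equiv f (injSeq F).X₂).symm x₂', rfl⟩, ?_⟩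
      have := h0Equiv_naturality f (injSeq F).g ((h0Equiv f (injSeq F).X₂).symm x₂')
      rw [AddEquiv.apply_symm_apply] at this
      exact this
  exact ⟨((extOneEquiv hS PX).symm.trans
    (QuotientAddGroup.congr _ _ e₃ he)).trans (extOneEquiv hS' PY)⟩

include hpc in
/-- `H^{p+1}(X, F) ≃ H^{p+1}(Y, f_* F)` when `f_*` is exact -/
theorem nonempty_hSuccEquiv : ∀ (p : ℕ) (F : CohTop.Ab X),
    Nonempty (CohTop.H F (p + 1) ≃+ CohTop.H ((CohTop.push f).obj F) (p + 1))
  | 0, F => nonempty_h1Equiv f hpc F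
  | p + 1, F => by
    obtain ⟨e⟩ := nonempty_hSuccEquiv p (injSeq F).X₃
    exact ⟨((extShiftEquiv (injSeq_shortExact F) _ p).symm.trans e).trans
      (extShiftEquiv (injSeq_map_shortExact f hpc F) _ p)⟩

include hpc in
theorem nonempty_hEquiv (p : ℕ) (F : CohTop.Ab X) :
    Nonempty (CohTop.H F p ≃+ CohTop.H ((CohTop.push f).obj F) p) := by
  cases p with
  | zero => exact ⟨h0Equiv f F⟩
  | succ p => exact nonempty_hSuccEquiv f hpc p F

end

end Groth.Agent.Lib.Helper53
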