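import Mathlib

/-!
# `Hom(P, -)` applied to a cochain complex with acyclic terms and acyclic homology

Let `K` be an `ℕ`-indexed cochain complex in an abelian category and `P` an object such that
`Ext^{p+1}(P, K^n) = 0` and `Ext^{p+1}(P, H^n(K)) = 0`. Then
`Hom(P, H^{n+1}(K)) = H^{n+1}(Hom(P, K^•))` (degenerate case of the hypercohomology spectral
sequence).
-/

universe w w' v u v' u'

open CategoryTheory Abelian Limits

namespace Groth.Agent.Lib.Helper53.HomCx

section Basic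

variable {D : Type u} [Category.{v} D] [Abelian D] (K : CochainComplex D ℕ) (P : D)

/-- cocycles of degree `n` in `Hom(P, K^•)` -/
def Z (n : ℕ) : AddSubgroup (P ⟶ K.X n) :=
  (Preadditive.rightComp P (K.d n (n + 1))).ker

lemma mem_Z {n : ℕ} (g : P ⟶ K.X n) : g ∈ Z K P n ↔ g ≫ K.d n (n + 1) = 0 :=
  Iff.rfl

/-- the class in `Hom(P, H^n(K))` of a cocycle `P ⟶ K^n` -/
noncomputable def clsHom (n : ℕ) (z : P ⟶ K.X n) (hz : z ≫ K.d n (n + 1) = 0) :
    P ⟶ K.homology n :=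
  K.liftCycles z (n + 1) (by simp) hz ≫ K.homologyπ n

variable {P} in
lemma comp_clsHom {P₁ : D} (a : P₁ ⟶ P) (n : ℕ) (z : P ⟶ K.X n) (hz : z ≫ K.d n (n + 1) = 0) :
    a ≫ clsHom K P n z hz =
      clsHom K P₁ n (a ≫ z) (by rw [Category.assoc, hz, comp_zero]) := by
  unfold clsHom
  rw [← Category.assoc, K.comp_liftCycles]

variable {P} in
lemma clsHom_congr (n : ℕ) {z z' : P ⟶ K.X n} (h : z = z') (hz : z ≫ K.d n (n + 1) = 0) :
    clsHom K P n z hz = clsHom K P n z' (h ▸ hz) := by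
  subst h
  rfl

end Basic

section Hom

variable {D : Type u} [Category.{v} D] [Abelian D] [HasExt.{w} D]

/-- lifting morphisms along the epimorphism of a short exact sequence with `Ext^1(P, X₁) = 0` -/
lemma exists_lift_of_ext_one_eq_zero {S : ShortComplex D} (hS : S.ShortExact) (P : D)
    (h₁ : ∀ x : Ext P S.X₁ 1, x = 0) (h : P ⟶ S.X₃) : ∃ g : P ⟶ S.X₂, g ≫ S.g = h := by
  obtain ⟨x₂, hx₂⟩ := Ext.covariant_sequence_exact₃ P hS (Ext.mk₀ h) (zero_add 1) (h₁ _)
  obtain ⟨g, rfl⟩ := (Ext.mk₀_bijective P S.X₂).2 x₂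
  rw [Ext.mk₀_comp_mk₀] at hx₂
  exact ⟨g, (Ext.mk₀_bijective P S.X₃).1 hx₂⟩

lemma ext_eq_zero_of_isZero {A : D} (hA : IsZero A) (P : D) {n : ℕ} (x : Ext P A n) : x = 0 := by
  have : x = x.comp (Ext.mk₀ (𝟙 A)) (add_zero n) := by simp
  rw [this, hA.eq_of_src (𝟙 A) 0, Ext.mk₀_zero, Ext.comp_zero]

end Hom

section Main

variable {D : Type u} [Category.{v} D] [Abelian D] [HasExt.{w} D]
  (K : CochainComplex D ℕ) (P : D)

/-- the boundary object `B^n = ker (Z^n → H^n)` -/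
noncomputable abbrev Bd (n : ℕ) : D := kernel (K.homologyπ n)

/-- the short exact sequence `0 → B^n → Z^n → H^n → 0` -/
noncomputable abbrev Sb (n : ℕ) : ShortComplex D :=
  ShortComplex.mk (kernel.ι (K.homologyπ n)) (K.homologyπ n) (kernel.condition _)

lemma Sb_shortExact (n : ℕ) : (Sb K n).ShortExact :=
  ShortComplex.ShortExact.mk' (ShortComplex.exact_of_f_is_kernel _ (kernelIsKernel _))
    (by dsimp [Sb]; infer_instance) (by dsimp [Sb]; infer_instance)

/-- the map `K^n → B^{n+1}` -/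
noncomputable def toBd (n : ℕ) : K.X n ⟶ Bd K (n + 1) :=
  kernel.lift (K.homologyπ (n + 1)) (K.toCycles n (n + 1)) (K.toCycles_comp_homologyπ n (n + 1))

@[reassoc (attr := simp)]
lemma toBd_ι (n : ℕ) : toBd K n ≫ kernel.ι (K.homologyπ (n + 1)) = K.toCycles n (n + 1) :=
  kernel.lift_ι _ _ _

@[reassoc]
lemma toBd_ι_iCycles (n : ℕ) :
    toBd K n ≫ kernel.ι (K.homologyπ (n + 1)) ≫ K.iCycles (n + 1) = K.d n (n + 1) := by
  rw [toBd_ι_assoc, K.toCycles_i]

lemma iCycles_toBd (n : ℕ) : K.iCycles n ≫ toBd K n = 0 := by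
  rw [← cancel_mono (kernel.ι (K.homologyπ (n + 1))), ← cancel_mono (K.iCycles (n + 1)),
    Category.assoc, Category.assoc, toBd_ι_iCycles, K.iCycles_d, zero_comp, zero_comp]

/-- the short exact sequence `0 → Z^n → K^n → B^{n+1} → 0` -/
noncomputable abbrev Sa (n : ℕ) : ShortComplex D :=
  ShortComplex.mk (K.iCycles n) (toBd K n) (iCycles_toBd K n)

lemma epi_toBd (n : ℕ) : Epi (toBd K n) := by
  have hex : (ShortComplex.mk (K.toCycles n (n + 1)) (K.homologyπ (n + 1))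
      (K.toCycles_comp_homologyπ n (n + 1))).Exact :=
    ShortComplex.exact_of_g_is_cokernel _ (K.homologyIsCokernel n (n + 1) (by simp))
  exact (ShortComplex.exact_iff_epi_kernel_lift _).1 hex

lemma Sa_shortExact (n : ℕ) : (Sa K n).ShortExact := by
  haveI : Mono (Sa K n).f := by dsimp [Sa]; infer_instance
  haveI : Epi (Sa K n).g := epi_toBd K n
  refine ShortComplex.ShortExact.mk' (ShortComplex.exact_of_f_is_kernel _ ?_) inferInstance
    inferInstance
  refine KernelFork.IsLimit.ofι' _ _ (fun {A} k hk => ?_)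
  have hk' : k ≫ K.d n (n + 1) = 0 := by
    rw [← toBd_ι_iCycles, reassoc_of% hk, zero_comp]
  exact ⟨K.liftCycles k (n + 1) (by simp) hk', K.liftCycles_i _ _ _ _⟩

variable (hX : ∀ (n p : ℕ) (x : Ext P (K.X n) (p + 1)), x = 0)
  (hH : ∀ (n p : ℕ) (x : Ext P (K.homology n) (p + 1)), x = 0)

include hX hH in
/-- boundaries and cycles are `P`-acyclic -/
lemma acyclic_Bd_cycles : ∀ n : ℕ, (∀ (p : ℕ) (x : Ext P (Bd K n) (p + 1)), x = 0) ∧
    (∀ (p : ℕ) (x : Ext P (K.cycles n) (p + 1)), x = 0) := by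
  have step : ∀ n : ℕ, (∀ (p : ℕ) (x : Ext P (Bd K n) (p + 1)), x = 0) →
      (∀ (p : ℕ) (x : Ext P (K.cycles n) (p + 1)), x = 0) := by
    intro n hB p x
    obtain ⟨x₁, rfl⟩ := Ext.covariant_sequence_exact₂ P (Sb_shortExact K n) x (hH n p _)
    rw [hB p x₁, Ext.zero_comp]
  intro n
  induction n with
  | zero =>
    have hB : ∀ (p : ℕ) (x : Ext P (Bd K 0) (p + 1)), x = 0 := fun p x =>
      ext_eq_zero_of_isZero (isZero_kernel_of_mono _) P x
    exact ⟨hB, step 0 hB⟩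
  | succ n ih =>
    have hB : ∀ (p : ℕ) (x : Ext P (Bd K (n + 1)) (p + 1)), x = 0 := by
      intro p x
      obtain ⟨x₂, rfl⟩ := Ext.covariant_sequence_exact₃ P (Sa_shortExact K n) x
        (rfl : p + 1 + 1 = p + 2) (ih.2 (p + 1) _)
      rw [hX n p x₂, Ext.zero_comp]
    exact ⟨hB, step (n + 1) hB⟩

/-- the class in `Hom(P, H^{n+1}(K))` of a cocycle of `Hom(P, K^•)` -/
noncomputable def ψ (n : ℕ) : Z K P (n + 1) →+ (P ⟶ K.homology (n + 1)) where
  toFun z := K.liftCycles z.1 (n + 1 + 1) (by simp) z.2 ≫ K.homologyπ (n + 1)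
  map_zero' := by
    have : K.liftCycles (0 : P ⟶ K.X (n + 1)) (n + 1 + 1) (by simp) (by simp) = 0 := by
      rw [← cancel_mono (K.iCycles (n + 1)), K.liftCycles_i, zero_comp]
    change K.liftCycles (0 : P ⟶ K.X (n + 1)) (n + 1 + 1) _ _ ≫ _ = 0
    rw [this, zero_comp]
  map_add' a b := by
    have : K.liftCycles (a + b : Z K P (n + 1)).1 (n + 1 + 1) (by simp) (a + b).2 =
        K.liftCycles a.1 (n + 1 + 1) (by simp) a.2 + K.liftCycles b.1 (n + 1 + 1) (by simp) b.2 := by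
      rw [← cancel_mono (K.iCycles (n + 1)), K.liftCycles_i, Preadditive.add_comp,
        K.liftCycles_i, K.liftCycles_i]
      rfl
    change K.liftCycles (a + b : Z K P (n + 1)).1 (n + 1 + 1) _ _ ≫ _ = _
    rw [this, Preadditive.add_comp]

include hX hH in
lemma ψ_surjective (n : ℕ) : Function.Surjective (ψ K P n) := by
  intro h
  obtain ⟨g, hg⟩ := exists_lift_of_ext_one_eq_zero (Sb_shortExact K (n + 1)) P
    ((acyclic_Bd_cycles K P hX hH (n + 1)).1 0) h
  refine ⟨⟨g ≫ K.iCycles (n + 1), ?_⟩, ?_⟩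
  · rw [mem_Z, Category.assoc, K.iCycles_d, comp_zero]
  · have : K.liftCycles (g ≫ K.iCycles (n + 1)) (n + 1 + 1) (by simp)
        (by rw [Category.assoc, K.iCycles_d, comp_zero]) = g := by
      rw [← cancel_mono (K.iCycles (n + 1)), K.liftCycles_i]
    change K.liftCycles (g ≫ K.iCycles (n + 1)) (n + 1 + 1) _ _ ≫ _ = h
    rw [this]
    exact hg

include hX hH in
lemma ψ_eq_zero_iff (n : ℕ) (z : Z K P (n + 1)) :
    ψ K P n z = 0 ↔ ∃ g : P ⟶ K.X n, g ≫ K.d n (n + 1) = z.1 := by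
  constructor
  · intro hz
    have hz' : K.liftCycles z.1 (n + 1 + 1) (by simp) z.2 ≫ K.homologyπ (n + 1) = 0 := hz
    obtain ⟨g, hg⟩ := exists_lift_of_ext_one_eq_zero (Sa_shortExact K n) P
      ((acyclic_Bd_cycles K P hX hH n).2 0) (kernel.lift _ _ hz')
    refine ⟨g, ?_⟩
    have hg' : g ≫ toBd K n = kernel.lift _ _ hz' := hg
    rw [← toBd_ι_iCycles, reassoc_of% hg', kernel.lift_ι_assoc, K.liftCycles_i]
  · rintro ⟨g, hg⟩
    have : K.liftCycles z.1 (n + 1 + 1) (by simp) z.2 = g ≫ K.toCycles n (n + 1) := by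
      rw [← cancel_mono (K.iCycles (n + 1)), K.liftCycles_i, Category.assoc, K.toCycles_i, hg]
    change K.liftCycles z.1 (n + 1 + 1) _ _ ≫ _ = 0
    rw [this, Category.assoc, K.toCycles_comp_homologyπ, comp_zero]

end Main

end Groth.Agent.Lib.Helper53.HomCx
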