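import Mathlib

/-!
# `Ext` into a product: dimension shifting (helper53)

For a family `G : ι → 𝒜` in an abelian category with `Ext`, the canonical comparison map
`cmp T G i : Ext T (∏ᶜ G) i →+ ∀ n, Ext T (G n) i`.  It is bijective in degree `0`
(`cmp_zero_bijective`), and bijectivity propagates along termwise injective embeddings whose
product sequence is still short exact (`cmp_bijective_succ`).
-/

set_option autoImplicit false
universe w v u
open CategoryTheory Limits Abelian

namespace Groth.Agent.Lib.Helper53.ProdExt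

variable {𝒜 : Type u} [Category.{v} 𝒜] [Abelian 𝒜] [HasExt.{w} 𝒜]

section
variable {ι : Type*} (T : 𝒜) (G : ι → 𝒜) [HasProduct G]

/-- the canonical comparison map `Ext^i(T, ∏ G) → ∏ Ext^i(T, G n)` -/
noncomputable def cmp (i : ℕ) : Ext.{w} T (∏ᶜ G) i →+ ∀ n, Ext.{w} T (G n) i :=
  AddMonoidHom.pi (fun n => (Ext.mk₀ (Pi.π G n)).postcomp T (add_zero i))

lemma cmp_apply (i : ℕ) (x : Ext.{w} T (∏ᶜ G) i) (n : ι) :
    cmp T G i x n = x.comp (Ext.mk₀ (Pi.π G n)) (add_zero i) := rfl

lemma cmp_zero_bijective : Function.Bijective (cmp T G 0) := by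
  constructor
  · rw [injective_iff_map_eq_zero]
    intro x hx
    obtain ⟨f, rfl⟩ := (Ext.mk₀_bijective _ _).2 x
    have h : f = 0 := by
      apply Pi.hom_ext
      intro n
      have h1 := congrFun hx n
      rw [cmp_apply, Ext.mk₀_comp_mk₀] at h1
      rw [zero_comp]
      apply (Ext.mk₀_bijective _ _).1
      rw [h1, Ext.mk₀_zero]
      rfl
    rw [h, Ext.mk₀_zero]
  · intro y
    choose f hf using fun n => (Ext.mk₀_bijective _ _).2 (y n)
    refine ⟨Ext.mk₀ (Pi.lift f), ?_⟩
    funext n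
    rw [cmp_apply, Ext.mk₀_comp_mk₀, Pi.lift_π, hf]

lemma cmp_surjective_of_injective [∀ n, Injective (G n)] (i : ℕ) :
    Function.Surjective (cmp T G i) := by
  cases i with
  | zero => exact (cmp_zero_bijective T G).2
  | succ k =>
    intro y
    refine ⟨0, ?_⟩
    funext n
    rw [map_zero]
    exact (Ext.eq_zero_of_injective (y n)).symm

end

section Shift
variable {ι : Type*} (T : 𝒜) {G I Q : ι → 𝒜} [HasProduct G] [HasProduct I] [HasProduct Q]
  (f : ∀ n, G n ⟶ I n) (g : ∀ n, I n ⟶ Q n) (w : ∀ n, f n ≫ g n = 0)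

omit [HasExt.{w} 𝒜] in
include w in
lemma piMap_comp_zero : Limits.Pi.map f ≫ Limits.Pi.map g = 0 := by
  apply Limits.Pi.hom_ext
  intro n
  rw [Category.assoc, Limits.Pi.map_π, Limits.Pi.map_π_assoc, w n, comp_zero, zero_comp]

variable (hS : ∀ n, (ShortComplex.mk (f n) (g n) (w n)).ShortExact)
  [hI : ∀ n, Injective (I n)]
  (hP : (ShortComplex.mk (Limits.Pi.map f) (Limits.Pi.map g) (piMap_comp_zero f g w)).ShortExact)

include hS hI hP in
theorem cmp_bijective_succ (i : ℕ) (hcI : Function.Surjective (cmp T I i))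
    (hcQ : Function.Bijective (cmp T Q i)) : Function.Bijective (cmp T G (i + 1)) := by
  -- naturality of the connecting maps
  have hnat : ∀ n, hP.extClass.comp (Ext.mk₀ (Pi.π G n)) (add_zero 1) =
      (Ext.mk₀ (Pi.π Q n)).comp (hS n).extClass (zero_add 1) := by
    intro n
    let φ : ShortComplex.mk (Limits.Pi.map f) (Limits.Pi.map g) (piMap_comp_zero f g w) ⟶
        ShortComplex.mk (f n) (g n) (w n) :=
      { τ₁ := Pi.π G n, τ₂ := Pi.π I n, τ₃ := Pi.π Q n
        comm₁₂ := by simp
        comm₂₃ := by simp }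
    exact ShortComplex.ShortExact.extClass_naturality hP (hS n) φ
  have hδ : ∀ (z : Ext.{w} T (∏ᶜ Q) i) (n : ι),
      cmp T G (i + 1) (z.comp hP.extClass rfl) n = (cmp T Q i z n).comp (hS n).extClass rfl := by
    intro z n
    rw [cmp_apply, cmp_apply, Ext.comp_assoc_of_third_deg_zero, hnat n,
      Ext.comp_assoc_of_second_deg_zero]
  constructor
  · rw [injective_iff_map_eq_zero]
    intro x hx
    have hx0 : x.comp (Ext.mk₀ (Limits.Pi.map f)) (add_zero (i + 1)) = 0 :=
      Ext.eq_zero_of_injective _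
    obtain ⟨z, rfl⟩ := Ext.covariant_sequence_exact₁ T hP x hx0 rfl
    -- each component of z comes from I
    have hz : ∀ n, ∃ wn : Ext.{w} T (I n) i, wn.comp (Ext.mk₀ (g n)) (add_zero i) = cmp T Q i z n := by
      intro n
      have h1 := congrFun hx n
      rw [hδ z n] at h1
      exact Ext.covariant_sequence_exact₃ T (hS n) (cmp T Q i z n) rfl h1
    choose wn hwn using hz
    obtain ⟨wI, hwI⟩ := hcI wn
    have hz' : z = wI.comp (Ext.mk₀ (Limits.Pi.map g)) (add_zero i) := by
      apply hcQ.1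
      funext n
      rw [← hwn n, cmp_apply, Ext.comp_assoc_of_third_deg_zero, Ext.mk₀_comp_mk₀, Limits.Pi.map_π,
        ← Ext.mk₀_comp_mk₀, ← Ext.comp_assoc_of_third_deg_zero, ← hwI]
      rfl
    rw [hz', Ext.comp_assoc_of_second_deg_zero]
    have := hP.comp_extClass
    dsimp only at this
    rw [this, Ext.comp_zero]
  · intro y
    have hy : ∀ n, ∃ zn : Ext.{w} T (Q n) i, zn.comp (hS n).extClass rfl = y n := by
      intro n
      exact Ext.covariant_sequence_exact₁ T (hS n) (y n) (Ext.eq_zero_of_injective _) rfl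
    choose zn hzn using hy
    obtain ⟨z, hz⟩ := hcQ.2 zn
    refine ⟨z.comp hP.extClass rfl, ?_⟩
    funext n
    rw [hδ z n, hz, hzn]

end Shift

end Groth.Agent.Lib.Helper53.ProdExt
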