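import Groth.Agent.Lib.Helper53.LanMono
import Groth.Agent.Lib.Helper53.Restrict

/-!
# Extension by zero from an open subspace is exact; restriction preserves injectives
-/

universe u

open CategoryTheory TopologicalSpace Opposite CategoryTheory.Limits

namespace Groth.Agent.Lib.Helper53

variable {X : TopCat.{u}} (U : Opens X)

instance jFun_isContinuous : (jFun U).IsContinuous (Opens.grothendieckTopology (TopCat.of U))
    (Opens.grothendieckTopology X) :=
  U.isOpenEmbedding.functor_isContinuous

instance jFun_full : (jFun U).Full where
  map_surjective {V W} f := by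
    refine ⟨homOfLE ?_, Subsingleton.elim _ _⟩
    intro x hx
    obtain ⟨y, hy, hxy⟩ := leOfHom f ⟨x, hx, rfl⟩
    have : y = x := Subtype.ext hxy
    rw [← this]
    exact hy

lemma jFun_op_cases (Y : (Opens X)ᵒᵖ) :
    (∃ W : (Opens (TopCat.of U))ᵒᵖ, Nonempty ((jFun U).op.obj W ≅ Y)) ∨
      IsEmpty (CostructuredArrow (jFun U).op Y) := by
  by_cases hV : Y.unop ≤ U
  · left
    refine ⟨op ⟨Subtype.val ⁻¹' (Y.unop : Set X), Y.unop.isOpen.preimage continuous_subtype_val⟩,
      ⟨eqToIso ?_⟩⟩
    change op ((jFun U).obj _) = Y
    rw [← Opposite.op_unop Y]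
    congr 1
    ext x
    constructor
    · rintro ⟨y, hy, rfl⟩
      exact hy
    · intro hx
      exact ⟨⟨x, hV hx⟩, hx, rfl⟩
  · right
    refine ⟨fun a => hV ?_⟩
    have h1 : Y.unop ≤ (jFun U).obj a.left.unop := leOfHom a.hom.unop
    intro x hx
    obtain ⟨y, -, rfl⟩ := h1 hx
    exact y.2

/-- extension by zero on presheaves (left Kan extension along the inclusion of opens) preserves
monomorphisms -/
instance lan_jFun_preservesMonomorphisms :
    ((jFun U).op.lan : ((Opens (TopCat.of U))ᵒᵖ ⥤ AddCommGrpCat.{u}) ⥤
      ((Opens X)ᵒᵖ ⥤ AddCommGrpCat.{u})).PreservesMonomorphisms where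
  preserves φ _ := LanMono.lan_map_mono (jFun U).op (jFun_op_cases U) φ

/-- extension by zero `j_!` of abelian sheaves from an open subspace -/
noncomputable abbrev extZero : CohTop.Ab (TopCat.of U) ⥤ CohTop.Ab X :=
  Functor.sheafPullbackConstruction.sheafPullback (jFun U) AddCommGrpCat.{u}
    (Opens.grothendieckTopology (TopCat.of U)) (Opens.grothendieckTopology X)

/-- `j_! ⊣ j^*` -/
noncomputable def extZeroAdj : extZero U ⊣ CohTop.restrFunctor U :=
  Functor.sheafPullbackConstruction.sheafAdjunctionContinuous (jFun U) AddCommGrpCat.{u}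
    (Opens.grothendieckTopology (TopCat.of U)) (Opens.grothendieckTopology X)

instance extZero_preservesMonomorphisms : (extZero U).PreservesMonomorphisms := by
  unfold extZero Functor.sheafPullbackConstruction.sheafPullback
  have h1 : (sheafToPresheaf (Opens.grothendieckTopology (TopCat.of U))
      AddCommGrpCat.{u}).PreservesMonomorphisms :=
    preservesMonomorphisms_of_preservesLimitsOfShape _
  have h3 : (presheafToSheaf (Opens.grothendieckTopology X)
      AddCommGrpCat.{u}).PreservesMonomorphisms :=
    preservesMonomorphisms_of_preservesLimitsOfShape _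
  infer_instance

/-- the restriction of an injective abelian sheaf to an open subspace is injective -/
instance injective_restr (I : CohTop.Ab X) [Injective I] : Injective (CohTop.restr I U) :=
  Injective.injective_of_adjoint (extZeroAdj U) I

instance extZero_additive : (extZero U).Additive :=
  (extZeroAdj U).left_adjoint_additive

instance extZero_preservesFiniteColimits : PreservesFiniteColimits (extZero U) :=
  have := (extZeroAdj U).leftAdjoint_preservesColimits
  inferInstance

/-- extension by zero is exact -/
instance extZero_preservesFiniteLimits : PreservesFiniteLimits (extZero U) := by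
  refine ((Functor.preservesFiniteLimits_tfae (extZero U)).out 0 3 rfl rfl).1 (fun S hS => ?_)
  have h1 := ((Functor.preservesFiniteColimits_tfae (extZero U)).out 3 0 rfl rfl).1
    inferInstance S hS
  have : Mono S.f := hS.mono_f
  exact ⟨h1.1, inferInstance⟩

end Groth.Agent.Lib.Helper53
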