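import Groth.Agent.Lib.Helper53.Flasque
import Mathlib.CategoryTheory.Sites.LocallyBijective
import Mathlib.CategoryTheory.Sites.PreservesSheafification
import Mathlib.Topology.Sheaves.SheafCondition.UniqueGluing
import Mathlib.Topology.Irreducible

/-!
# The constant sheaf on an irreducible space is flasque
-/

universe u

open CategoryTheory TopologicalSpace Opposite CategoryTheory.Limits

namespace Groth.Agent.Lib.Helper53

variable {X : TopCat.{u}}

/-- the constant presheaf -/
abbrev constPresheaf (X : TopCat.{u}) (A : Type u) [AddCommGroup A] :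
    (Opens X)ᵒᵖ ⥤ AddCommGrpCat.{u} :=
  (Functor.const (Opens X)ᵒᵖ).obj (AddCommGrpCat.of A)

/-- the map from the constant presheaf to the constant sheaf -/
noncomputable abbrev constUnit (X : TopCat.{u}) (A : Type u) [AddCommGroup A] :
    constPresheaf X A ⟶ (CohTop.const X A).obj :=
  toSheafify (Opens.grothendieckTopology X) (constPresheaf X A)

instance (A : Type u) [AddCommGroup A] :
    Presheaf.IsLocallyInjective (Opens.grothendieckTopology X) (constUnit X A) :=
  inferInstanceAs (Presheaf.IsLocallyInjective (Opens.grothendieckTopology X)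
    (toSheafify (Opens.grothendieckTopology X) (constPresheaf X A)))

instance (A : Type u) [AddCommGroup A] :
    Presheaf.IsLocallySurjective (Opens.grothendieckTopology X) (constUnit X A) :=
  inferInstanceAs (Presheaf.IsLocallySurjective (Opens.grothendieckTopology X)
    (toSheafify (Opens.grothendieckTopology X) (constPresheaf X A)))

lemma constUnit_naturality (A : Type u) [AddCommGroup A] {U V : Opens X} (h : V ≤ U) (a : A) :
    (CohTop.const X A).obj.map (homOfLE h).op ((constUnit X A).app (op U) a) =
      (constUnit X A).app (op V) a := by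
  have := (constUnit X A).naturality (homOfLE h).op
  have h2 := congrArg (fun φ => φ.hom a) this
  exact h2.symm

/-- two elements with the same image in the constant sheaf over a nonempty open are equal -/
lemma constUnit_injective (A : Type u) [AddCommGroup A] (W : Opens X) (x : X) (hx : x ∈ W)
    (a b : A) (h : (constUnit X A).app (op W) a = (constUnit X A).app (op W) b) : a = b := by
  have hmem := Presheaf.equalizerSieve_mem (Opens.grothendieckTopology X) (constUnit X A)
    (X := op W) a b h
  obtain ⟨Z, g, hg, -⟩ := hmem x hx
  exact hg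

lemma map_map_eq (G : CohTop.Ab X) {U V W : Opens X} (h₁ : V ≤ U) (h₂ : W ≤ V)
    (t : G.obj.obj (op U)) :
    G.obj.map (homOfLE h₂).op (G.obj.map (homOfLE h₁).op t) =
      G.obj.map (homOfLE (h₂.trans h₁)).op t := by
  rw [← ConcreteCategory.comp_apply, ← Functor.map_comp]
  rfl

/-- on an irreducible space every section of the constant sheaf is constant -/
lemma exists_constUnit_eq [IrreducibleSpace X] (A : Type u) [AddCommGroup A] (V : Opens X)
    (t : (CohTop.const X A).obj.obj (op V)) : ∃ a : A, (constUnit X A).app (op V) a = t := by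
  have hloc : ∀ x : V, ∃ (W : Opens X) (hW : W ≤ V) (a : A), x.1 ∈ W ∧
      (constUnit X A).app (op W) a = (CohTop.const X A).obj.map (homOfLE hW).op t := by
    intro x
    obtain ⟨W, i, ⟨a, ha⟩, hxW⟩ :=
      (Presheaf.imageSieve_mem (Opens.grothendieckTopology X) (constUnit X A) t) x.1 x.2
    exact ⟨W, leOfHom i, a, hxW, ha⟩
  choose W hW a hxW ha using hloc
  classical
  let a₀ : A := if h : Nonempty V then a (Classical.choice h) else 0
  have hall : ∀ y : V, a y = a₀ := by
    intro y
    have hne : Nonempty V := ⟨y⟩
    simp only [a₀, dif_pos hne]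
    obtain ⟨z, hz1, hz2⟩ := nonempty_preirreducible_inter (W y).isOpen
      (W (Classical.choice hne)).isOpen ⟨y.1, hxW y⟩ ⟨_, hxW (Classical.choice hne)⟩
    apply constUnit_injective A (W y ⊓ W (Classical.choice hne)) z ⟨hz1, hz2⟩
    rw [← constUnit_naturality A (inf_le_left : W y ⊓ W (Classical.choice hne) ≤ W y),
      ← constUnit_naturality A
        (inf_le_right : W y ⊓ W (Classical.choice hne) ≤ W (Classical.choice hne)),
      ha y, ha (Classical.choice hne), map_map_eq, map_map_eq]
  refine ⟨a₀, ?_⟩
  apply TopCat.Sheaf.eq_of_locally_eq' (CohTop.const X A) W V (fun y => homOfLE (hW y))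
  · intro x hx
    exact Opens.mem_iSup.2 ⟨⟨x, hx⟩, hxW ⟨x, hx⟩⟩
  · intro y
    rw [constUnit_naturality A (hW y), ← hall y, ha y]

/-- the constant sheaf on an irreducible space is flasque -/
theorem isFlasque_const_of_irreducible [IrreducibleSpace X] (A : Type u) [AddCommGroup A] :
    TopCat.Sheaf.IsFlasque (CohTop.const X A) where
  epi {U V} i := by
    refine (AddCommGrpCat.epi_iff_surjective _).mpr (fun t => ?_)
    obtain ⟨a, ha⟩ := exists_constUnit_eq A V.unop t
    refine ⟨(constUnit X A).app U a, ?_⟩
    rw [← ha]
    exact constUnit_naturality A (leOfHom i.unop) a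

end Groth.Agent.Lib.Helper53
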