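import Groth.Agent.Lib.Helper53.FlasqueLocal
import Groth.Agent.Lib.Helper53.ConstFlasque
import Mathlib.Topology.Separation.Profinite
import Mathlib.Algebra.Homology.DerivedCategory.Ext.EnoughProjectives

/-!
# Abelian sheaves on profinite spaces are acyclic
-/

universe u

open CategoryTheory TopologicalSpace Opposite CategoryTheory.Limits Abelian

namespace Groth.Agent.Lib.Helper53

variable {X : TopCat.{u}}

lemma sections_bot_eq (G : CohTop.Ab X) (a b : G.obj.obj (op (⊥ : Opens X))) : a = b :=
  TopCat.Sheaf.eq_of_locally_eq' G (fun i : PEmpty.{1} => PEmpty.elim i) ⊥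
    (fun i => PEmpty.elim i) (by simp) a b (fun i => PEmpty.elim i)

lemma sections_eq_of_eq_bot (G : CohTop.Ab X) {U : Opens X} (hU : U = ⊥)
    (a b : G.obj.obj (op U)) : a = b := by
  subst hU
  exact sections_bot_eq G a b

/-- sections over two disjoint opens glue -/
lemma exists_glue_disjoint (G : CohTop.Ab X) (A B : Opens X) (hAB : A ⊓ B = ⊥)
    (a : G.obj.obj (op A)) (b : G.obj.obj (op B)) :
    ∃ c : G.obj.obj (op (A ⊔ B)), G.obj.map (homOfLE (le_sup_left : A ≤ A ⊔ B)).op c = a ∧
      G.obj.map (homOfLE (le_sup_right : B ≤ A ⊔ B)).op c = b := by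
  let U : Bool → Opens X := fun i => Bool.rec B A i
  let sf : ∀ i, G.obj.obj (op (U i)) := fun i =>
    Bool.rec (motive := fun i => G.obj.obj (op (U i))) b a i
  have hcompat : TopCat.Presheaf.IsCompatible G.obj U sf := by
    intro i j
    cases i <;> cases j
    · rw [Subsingleton.elim (Opens.infLELeft (U false) (U false)) (Opens.infLERight _ _)]
    · exact sections_eq_of_eq_bot G (by rw [inf_comm]; exact hAB) _ _
    · exact sections_eq_of_eq_bot G hAB _ _
    · rw [Subsingleton.elim (Opens.infLELeft (U true) (U true)) (Opens.infLERight _ _)]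
  obtain ⟨c, hc, -⟩ := TopCat.Sheaf.existsUnique_gluing' G U (A ⊔ B)
    (fun i => homOfLE (by cases i; exact le_sup_right; exact le_sup_left))
    (sup_le (le_iSup U true) (le_iSup U false)) sf hcompat
  exact ⟨c, hc true, hc false⟩

lemma app_map_comm {G H : CohTop.Ab X} (π : G ⟶ H) {U V : Opens X} (h : V ≤ U)
    (s : G.obj.obj (op U)) :
    π.hom.app (op V) (G.obj.map (homOfLE h).op s) =
      H.obj.map (homOfLE h).op (π.hom.app (op U) s) := by
  have := π.hom.naturality (homOfLE h).op
  exact congrArg (fun φ => φ.hom s) this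

/-- on a profinite space an epimorphism of abelian sheaves is surjective on global sections -/
theorem sections_top_surjective_of_epi [CompactSpace X] [T2Space X] [TotallyDisconnectedSpace X]
    {G H : CohTop.Ab X} (π : G ⟶ H) [Epi π] :
    Function.Surjective (π.hom.app (op (⊤ : Opens X))) := by
  intro t
  have hloc : ∀ x : X, ∃ (W : Opens X) (s : G.obj.obj (op W)), x ∈ W ∧ IsClopen (W : Set X) ∧
      π.hom.app (op W) s = H.obj.map (homOfLE (le_top : W ≤ ⊤)).op t := by
    intro x
    obtain ⟨V, hV, s, hxV, hs⟩ := exists_local_lift_of_epi π ⊤ t x trivial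
    obtain ⟨C, hC, hxC, hCV⟩ := compact_exists_isClopen_in_isOpen V.isOpen hxV
    refine ⟨⟨C, hC.isOpen⟩, G.obj.map (homOfLE (show (⟨C, hC.isOpen⟩ : Opens X) ≤ V from hCV)).op s,
      hxC, hC, ?_⟩
    rw [app_map_comm, hs, map_map_eq]
  choose W s hxW hclopen hs using hloc
  -- induction over finite sets of points
  have key : ∀ T : Finset X, ∃ (C : Opens X) (c : G.obj.obj (op C)), IsClopen (C : Set X) ∧
      (∀ x ∈ T, W x ≤ C) ∧ π.hom.app (op C) c = H.obj.map (homOfLE (le_top : C ≤ ⊤)).op t := by
    classical
    intro T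
    induction T using Finset.induction_on with
    | empty =>
      refine ⟨⊥, 0, isClopen_empty, fun x hx => absurd hx (Finset.notMem_empty x), ?_⟩
      exact sections_bot_eq H _ _
    | insert x T _ ih =>
      obtain ⟨C, c, hC, hTC, hc⟩ := ih
      let B : Opens X := ⟨(W x : Set X) ∩ (C : Set X)ᶜ, (W x).isOpen.inter hC.compl.isOpen⟩
      have hCB : C ⊓ B = ⊥ := by
        ext z
        simp only [Opens.coe_inf, Opens.coe_bot, Set.mem_inter_iff, Set.mem_empty_iff_false,
          iff_false, not_and]
        intro hzC hzB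
        exact hzB.2 hzC
      have hBW : B ≤ W x := fun z hz => hz.1
      obtain ⟨c', hc'1, hc'2⟩ := exists_glue_disjoint G C B hCB c (G.obj.map (homOfLE hBW).op (s x))
      refine ⟨C ⊔ B, c', ?_, ?_, ?_⟩
      · have : ((C ⊔ B : Opens X) : Set X) = (C : Set X) ∪ (W x : Set X) := by
          ext z
          simp only [Opens.coe_sup, Set.mem_union]
          constructor
          · rintro (h | h)
            · exact Or.inl h
            · exact Or.inr h.1
          · rintro (h | h)
            · exact Or.inl h
            · by_cases hzC : z ∈ (C : Set X)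
              · exact Or.inl hzC
              · exact Or.inr ⟨h, hzC⟩
        rw [this]
        exact hC.union (hclopen x)
      · intro y hy
        rcases Finset.mem_insert.1 hy with rfl | hy
        · intro z hz
          by_cases hzC : z ∈ (C : Set X)
          · exact Or.inl hzC
          · exact Or.inr ⟨hz, hzC⟩
        · exact (hTC y hy).trans le_sup_left
      · apply TopCat.Sheaf.eq_of_locally_eq' H (fun i : Bool => Bool.rec B C i) (C ⊔ B)
          (fun i => homOfLE (by cases i; exact le_sup_right; exact le_sup_left))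
        · exact sup_le (le_iSup (fun i : Bool => (Bool.rec B C i : Opens X)) true)
            (le_iSup (fun i : Bool => (Bool.rec B C i : Opens X)) false)
        · intro i
          cases i
          · change H.obj.map (homOfLE (le_sup_right : B ≤ C ⊔ B)).op _ =
              H.obj.map (homOfLE (le_sup_right : B ≤ C ⊔ B)).op _
            rw [← app_map_comm, hc'2, app_map_comm, hs x, map_map_eq, map_map_eq]
          · change H.obj.map (homOfLE (le_sup_left : C ≤ C ⊔ B)).op _ =
              H.obj.map (homOfLE (le_sup_left : C ≤ C ⊔ B)).op _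
            rw [← app_map_comm, hc'1, hc, map_map_eq]
  obtain ⟨T, hT⟩ := CompactSpace.elim_nhds_subcover (fun x => (W x : Set X))
    (fun x => (W x).isOpen.mem_nhds (hxW x))
  obtain ⟨C, c, -, hTC, hc⟩ := key T
  have hCtop : C = ⊤ := by
    apply top_le_iff.1
    intro z _
    have hz : z ∈ ⋃ x ∈ T, (W x : Set X) := by rw [hT]; trivial
    obtain ⟨x, hxT, hzx⟩ := Set.mem_iUnion₂.1 hz
    exact hTC x hxT hzx
  subst hCtop
  refine ⟨c, ?_⟩
  rw [hc]
  change H.obj.map (𝟙 _) t = t
  rw [CategoryTheory.Functor.map_id]
  rfl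

/-- maps out of the constant sheaf `ℤ` lift along maps surjective on global sections -/
lemma constantSheaf_lift_of_surjective {E B : CohTop.Ab X} (e : E ⟶ B)
    (hsurj : Function.Surjective (e.hom.app (op (⊤ : Opens X))))
    (g : (constantSheaf (Opens.grothendieckTopology X) AddCommGrpCat.{u}).obj
      (AddCommGrpCat.of (ULift ℤ)) ⟶ B) :
    ∃ f : (constantSheaf (Opens.grothendieckTopology X) AddCommGrpCat.{u}).obj
      (AddCommGrpCat.of (ULift ℤ)) ⟶ E, f ≫ e = g := by
  have hT : IsTerminal (⊤ : Opens X) := isTerminalTop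
  obtain ⟨s, hs⟩ := hsurj (Sheaf.H.equiv₀ B hT (Ext.mk₀ g))
  obtain ⟨f, hf⟩ := (Ext.mk₀_bijective _ E).2 ((Sheaf.H.equiv₀ E hT).symm s)
  refine ⟨f, ?_⟩
  apply (Ext.mk₀_bijective _ B).1
  apply (Sheaf.H.equiv₀ B hT).injective
  rw [← hs, ← Ext.mk₀_comp_mk₀, hf]
  have := Sheaf.H.equiv₀_naturality (F := E) (G := B) hT e ((Sheaf.H.equiv₀ E hT).symm s)
  rw [AddEquiv.apply_symm_apply] at this
  rw [this]
  rfl

/-- on a profinite space the constant sheaf `ℤ` is a projective object -/
theorem projective_constantSheaf [CompactSpace X] [T2Space X] [TotallyDisconnectedSpace X] :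
    Projective ((constantSheaf (Opens.grothendieckTopology X) AddCommGrpCat.{u}).obj
      (AddCommGrpCat.of (ULift ℤ))) where
  factors f e _ := constantSheaf_lift_of_surjective e (sections_top_surjective_of_epi e) f

/-- abelian sheaves on a profinite space have no higher cohomology -/
theorem subsingleton_H_succ_of_profinite [CompactSpace X] [T2Space X] [TotallyDisconnectedSpace X]
    (F : CohTop.Ab X) (p : ℕ) : Subsingleton (CohTop.H F (p + 1)) :=
  have := projective_constantSheaf (X := X)
  subsingleton_of_forall_eq 0 fun x => Ext.eq_zero_of_projective x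

end Groth.Agent.Lib.Helper53
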