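import Mathlib

/-!
# Maps from objects of the heart into the derived category, up to epimorphisms (helper53)

`𝒜` abelian with a derived category.  For `T : 𝒜`, `K : D(𝒜)`, `kappa : (T[0] ⟶ K) → (T ⟶ H⁰(K))`.
* `exists_epi_comp_eq_zero_of_isLE`: maps `T[0] ⟶ M` with `M ∈ D^{≤ -1}` are effaceable.
* `eq_zero_of_isGE`: a map `T[0] ⟶ N` with `N ∈ D^{≥ 0}` inducing zero on `H⁰` is zero.
* `exists_epi_comp_eq_zero_of_kappa`: a map `T[0] ⟶ K` inducing zero on `H⁰` is effaceable.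
* `exists_epi_kappa`: every `T ⟶ H⁰(K)` is induced by a map `T'[0] ⟶ K` after an epimorphism `T' ↠ T`.
-/

set_option autoImplicit false
universe w v u
open CategoryTheory Limits Pretriangulated

namespace Groth.Agent.Lib.Helper53.DerLoc

variable {𝒜 : Type u} [Category.{v} 𝒜] [Abelian 𝒜] [HasDerivedCategory.{w} 𝒜]
open DerivedCategory

/-- the map on `H⁰` induced by a morphism from an object of the heart -/
noncomputable def kappa (T : 𝒜) (K : DerivedCategory 𝒜) (φ : (singleFunctor 𝒜 0).obj T ⟶ K) :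
    T ⟶ (homologyFunctor 𝒜 0).obj K :=
  (singleFunctorCompHomologyFunctorIso 𝒜 0).inv.app T ≫ (homologyFunctor 𝒜 0).map φ

lemma kappa_comp_right {T : 𝒜} {K K' : DerivedCategory 𝒜} (φ : (singleFunctor 𝒜 0).obj T ⟶ K)
    (g : K ⟶ K') : kappa T K' (φ ≫ g) = kappa T K φ ≫ (homologyFunctor 𝒜 0).map g := by
  simp [kappa]

lemma kappa_comp_left {T T' : 𝒜} {K : DerivedCategory 𝒜} (f : T' ⟶ T)
    (φ : (singleFunctor 𝒜 0).obj T ⟶ K) :
    kappa T' K ((singleFunctor 𝒜 0).map f ≫ φ) = f ≫ kappa T K φ := by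
  have h := (singleFunctorCompHomologyFunctorIso 𝒜 0).inv.naturality f
  simp only [Functor.id_map, Functor.comp_map] at h
  simp only [kappa, Functor.map_comp]
  rw [← Category.assoc, ← h, Category.assoc]

lemma kappa_zero (T : 𝒜) (K : DerivedCategory 𝒜) : kappa T K 0 = 0 := by
  simp [kappa]

lemma kappa_single {T Y : 𝒜} (f : T ⟶ Y) :
    kappa T _ ((singleFunctor 𝒜 0).map f) = f ≫ (singleFunctorCompHomologyFunctorIso 𝒜 0).inv.app Y := by
  have h := (singleFunctorCompHomologyFunctorIso 𝒜 0).inv.naturality f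
  simp only [Functor.id_map, Functor.comp_map] at h
  simp only [kappa]
  exact h.symm

section Concrete

lemma epi_f_zero_of_quasiIso {S : CochainComplex 𝒜 ℤ} [S.IsStrictlyLE 0] (T : 𝒜)
    (s : S ⟶ (HomologicalComplex.single 𝒜 (ComplexShape.up ℤ) 0).obj T) [QuasiIso s] :
    Epi (s.f 0) := by
  let X := (HomologicalComplex.single 𝒜 (ComplexShape.up ℤ) 0).obj T
  have hS : S.d 0 1 = 0 := (CochainComplex.isZero_of_isStrictlyLE S 0 1 (by norm_num)).eq_of_tgt _ _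
  haveI : IsIso (S.iCycles 0) := S.isIso_iCycles 0 1 (by simp) hS
  haveI : IsIso (X.iCycles 0) := X.isIso_iCycles 0 1 (by simp) (by simp [X])
  haveI : IsIso (X.homologyπ 0) := X.isIso_homologyπ (-1) 0 (by simp) (by simp [X])
  have h1 := HomologicalComplex.homologyπ_naturality s 0
  haveI : Epi (HomologicalComplex.cyclesMap s 0 ≫ X.homologyπ 0) := by
    show Epi (HomologicalComplex.cyclesMap s 0 ≫
      ((HomologicalComplex.single 𝒜 (ComplexShape.up ℤ) 0).obj T).homologyπ 0)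
    rw [← h1]; infer_instance
  haveI : Epi (HomologicalComplex.cyclesMap s 0) := by
    have : HomologicalComplex.cyclesMap s 0 =
        (HomologicalComplex.cyclesMap s 0 ≫ X.homologyπ 0) ≫ inv (X.homologyπ 0) := by simp
    rw [this]; infer_instance
  have h2 := HomologicalComplex.cyclesMap_i s 0
  haveI : Epi (S.iCycles 0 ≫ s.f 0) := by
    rw [← h2]; infer_instance
  exact epi_of_epi (S.iCycles 0) (s.f 0)

/-- effaceability of maps from the heart to `D^{≤ -1}` (complex version) -/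
lemma exists_epi_comp_eq_zero_of_isStrictlyLE (T : 𝒜) (M : CochainComplex 𝒜 ℤ) [M.IsStrictlyLE (-1)]
    (ψ : Q.obj ((HomologicalComplex.single 𝒜 (ComplexShape.up ℤ) 0).obj T) ⟶ Q.obj M) :
    ∃ (T' : 𝒜) (π : T' ⟶ T) (_ : Epi π),
      Q.map ((HomologicalComplex.single 𝒜 (ComplexShape.up ℤ) 0).map π) ≫ ψ = 0 := by
  obtain ⟨X', hX', s, hs, g, fac⟩ := right_fac_of_isStrictlyLE ψ 0
  haveI : QuasiIso s := (isIso_Q_map_iff_quasiIso _ s).1 hs
  haveI := epi_f_zero_of_quasiIso T s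
  let π : X'.X 0 ⟶ T := s.f 0 ≫ (HomologicalComplex.singleObjXSelf (ComplexShape.up ℤ) 0 T).hom
  have hX1 : IsZero (X'.X 1) := CochainComplex.isZero_of_isStrictlyLE X' 0 1 (by norm_num)
  let ε : (HomologicalComplex.single 𝒜 (ComplexShape.up ℤ) 0).obj (X'.X 0) ⟶ X' :=
    HomologicalComplex.mkHomFromSingle (𝟙 _) (by
      intro k hk
      obtain rfl : k = 1 := by simpa using hk.symm
      exact hX1.eq_of_tgt _ _)
  have h1 : ε ≫ s = (HomologicalComplex.single 𝒜 (ComplexShape.up ℤ) 0).map π := by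
    apply HomologicalComplex.from_single_hom_ext
    rw [HomologicalComplex.comp_f, HomologicalComplex.mkHomFromSingle_f,
      HomologicalComplex.single_map_f_self]
    simp [π]
  have h2 : ε ≫ g = 0 := by
    apply HomologicalComplex.from_single_hom_ext
    exact (CochainComplex.isZero_of_isStrictlyLE M (-1) 0 (by norm_num)).eq_of_tgt _ _
  refine ⟨X'.X 0, π, inferInstance, ?_⟩
  rw [← h1, fac, Functor.map_comp, Category.assoc, IsIso.hom_inv_id_assoc, ← Functor.map_comp, h2,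
    Functor.map_zero]

/-- effaceability of maps from the heart to `D^{≤ -1}` -/
lemma exists_epi_comp_eq_zero_of_isLE (T : 𝒜) (M : DerivedCategory 𝒜) [M.IsLE (-1)]
    (ψ : (singleFunctor 𝒜 0).obj T ⟶ M) :
    ∃ (T' : 𝒜) (π : T' ⟶ T) (_ : Epi π), (singleFunctor 𝒜 0).map π ≫ ψ = 0 := by
  obtain ⟨ℳ, hℳ, ⟨e⟩⟩ := M.exists_iso_Q_obj_of_isLE (-1)
  obtain ⟨T', π, hπ, h⟩ := exists_epi_comp_eq_zero_of_isStrictlyLE T ℳ (ψ ≫ e.hom)
  refine ⟨T', π, hπ, ?_⟩
  rw [← cancel_mono e.hom, zero_comp, Category.assoc]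
  exact h

/-- a map from the heart to `D^{≥ 0}` which is zero on `H⁰` is zero (complex version) -/
lemma eq_zero_of_isStrictlyGE (T : 𝒜) (N : CochainComplex 𝒜 ℤ) [N.IsStrictlyGE 0]
    (θ : Q.obj ((HomologicalComplex.single 𝒜 (ComplexShape.up ℤ) 0).obj T) ⟶ Q.obj N)
    (h : (homologyFunctor 𝒜 0).map θ = 0) : θ = 0 := by
  obtain ⟨N', hN', g, s, hs, fac⟩ := left_fac_of_isStrictlyGE θ 0
  let X := (HomologicalComplex.single 𝒜 (ComplexShape.up ℤ) 0).obj T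
  have hg : (homologyFunctor 𝒜 0).map (Q.map g) = 0 := by
    have : Q.map g = θ ≫ Q.map s := by rw [fac, Category.assoc, IsIso.inv_hom_id, Category.comp_id]
    rw [this, Functor.map_comp, h, zero_comp]
  have hh : HomologicalComplex.homologyMap g 0 = 0 := by
    have hn := homologyFunctorFactors_hom_naturality g 0
    rw [hg, zero_comp] at hn
    exact (cancel_epi ((homologyFunctorFactors 𝒜 0).hom.app X)).1 (hn.symm.trans comp_zero.symm)
  have hN1 : N'.d (-1) 0 = 0 :=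
    (CochainComplex.isZero_of_isStrictlyGE N' 0 (-1) (by norm_num)).eq_of_src _ _
  haveI : IsIso (N'.homologyπ 0) := N'.isIso_homologyπ (-1) 0 (by simp) hN1
  haveI : IsIso (X.iCycles 0) := X.isIso_iCycles 0 1 (by simp) (by simp [X])
  have h1 := HomologicalComplex.homologyπ_naturality g 0
  rw [hh, comp_zero] at h1
  have h2 : HomologicalComplex.cyclesMap g 0 = 0 :=
    (cancel_mono (N'.homologyπ 0)).1 (h1.symm.trans zero_comp.symm)
  have h3 := HomologicalComplex.cyclesMap_i g 0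
  rw [h2, zero_comp] at h3
  have h4 : g.f 0 = 0 := (cancel_epi (X.iCycles 0)).1 (h3.symm.trans comp_zero.symm)
  have h5 : g = 0 := by
    apply HomologicalComplex.from_single_hom_ext
    exact h4
  rw [fac, h5, Functor.map_zero, zero_comp]

/-- a map from the heart to `D^{≥ 0}` which is zero on `H⁰` is zero -/
lemma eq_zero_of_isGE (T : 𝒜) (N : DerivedCategory 𝒜) [N.IsGE 0]
    (θ : (singleFunctor 𝒜 0).obj T ⟶ N) (h : kappa T N θ = 0) : θ = 0 := by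
  obtain ⟨𝒩, h𝒩, ⟨e⟩⟩ := N.exists_iso_Q_obj_of_isGE 0
  have h0 : (homologyFunctor 𝒜 0).map θ = 0 := by
    have : (singleFunctorCompHomologyFunctorIso 𝒜 0).inv.app T ≫ (homologyFunctor 𝒜 0).map θ = 0 := h
    exact (cancel_epi ((singleFunctorCompHomologyFunctorIso 𝒜 0).inv.app T)).1
      (this.trans comp_zero.symm)
  have h1 : (homologyFunctor 𝒜 0).map (θ ≫ e.hom) = 0 := by
    rw [Functor.map_comp, h0, zero_comp]
  have := eq_zero_of_isStrictlyGE T 𝒩 (θ ≫ e.hom) h1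
  rw [← cancel_mono e.hom, zero_comp]
  exact this

end Concrete

section LES

lemma isIso_homologyMap_mor₁ (Tr : Triangle (DerivedCategory 𝒜)) (hTr : Tr ∈ distTriang _) (n₀ n : ℤ)
    (hn : n₀ + 1 = n) (h0 : IsZero ((homologyFunctor 𝒜 n₀).obj Tr.obj₃))
    (h1 : IsZero ((homologyFunctor 𝒜 n).obj Tr.obj₃)) :
    IsIso ((homologyFunctor 𝒜 n).map Tr.mor₁) := by
  haveI : Epi ((homologyFunctor 𝒜 n).map Tr.mor₁) :=
    (HomologySequence.epi_homologyMap_mor₁_iff Tr hTr n).2 (h1.eq_of_tgt _ _)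
  haveI : Mono ((homologyFunctor 𝒜 n).map Tr.mor₁) :=
    (HomologySequence.mono_homologyMap_mor₁_iff Tr hTr n₀ n hn).2 (h0.eq_of_src _ _)
  exact isIso_of_mono_of_epi _

lemma isIso_homologyMap_mor₂ (Tr : Triangle (DerivedCategory 𝒜)) (hTr : Tr ∈ distTriang _) (n n₁ : ℤ)
    (hn : n + 1 = n₁) (h0 : IsZero ((homologyFunctor 𝒜 n).obj Tr.obj₁))
    (h1 : IsZero ((homologyFunctor 𝒜 n₁).obj Tr.obj₁)) :
    IsIso ((homologyFunctor 𝒜 n).map Tr.mor₂) := by
  haveI : Mono ((homologyFunctor 𝒜 n).map Tr.mor₂) :=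
    (HomologySequence.mono_homologyMap_mor₂_iff Tr hTr n).2 (h0.eq_of_src _ _)
  haveI : Epi ((homologyFunctor 𝒜 n).map Tr.mor₂) :=
    (HomologySequence.epi_homologyMap_mor₂_iff Tr hTr n n₁ hn).2 (h1.eq_of_tgt _ _)
  exact isIso_of_mono_of_epi _

end LES

/-- a map from the heart which is zero on `H⁰` is effaceable -/
theorem exists_epi_comp_eq_zero_of_kappa (T : 𝒜) (K : DerivedCategory 𝒜)
    (φ : (singleFunctor 𝒜 0).obj T ⟶ K) (h : kappa T K φ = 0) :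
    ∃ (T' : 𝒜) (π : T' ⟶ T) (_ : Epi π), (singleFunctor 𝒜 0).map π ≫ φ = 0 := by
  let K₁ : DerivedCategory 𝒜 := (TStructure.t.truncLE (-1)).obj K
  let K₃ : DerivedCategory 𝒜 := (TStructure.t.truncGE 0).obj K
  let ι : K₁ ⟶ K := (TStructure.t.truncLEι (-1)).app K
  let p : K ⟶ K₃ := (TStructure.t.truncGEπ 0).app K
  let δ : K₃ ⟶ K₁⟦(1 : ℤ)⟧ := (TStructure.t.truncGEδLE (-1) 0 (by norm_num)).app K
  have hTr : Triangle.mk ι p δ ∈ distTriang _ :=
    TStructure.t.triangleLEGE_distinguished (-1) 0 (by norm_num) K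
  haveI : K₃.IsGE 0 := by dsimp only [K₃]; infer_instance
  haveI : K₁.IsLE (-1) := by dsimp only [K₁]; infer_instance
  have h1 : φ ≫ p = 0 := by
    apply eq_zero_of_isGE
    rw [kappa_comp_right, h, zero_comp]
  obtain ⟨ψ₀, hψ⟩ := Triangle.coyoneda_exact₂ _ hTr φ h1
  let ψ : (singleFunctor 𝒜 0).obj T ⟶ K₁ := ψ₀
  obtain ⟨T', π, hπ, h2⟩ := exists_epi_comp_eq_zero_of_isLE T K₁ ψ
  refine ⟨T', π, hπ, ?_⟩
  have hψ' : φ = ψ ≫ ι := hψ
  rw [hψ', ← Category.assoc, h2, zero_comp]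

/-- every map to `H⁰(K)` is induced by a map to `K`, after an epimorphism -/
theorem exists_epi_kappa (T : 𝒜) (K : DerivedCategory 𝒜) (σ : T ⟶ (homologyFunctor 𝒜 0).obj K) :
    ∃ (T' : 𝒜) (π : T' ⟶ T) (_ : Epi π) (φ : (singleFunctor 𝒜 0).obj T' ⟶ K),
      kappa T' K φ = π ≫ σ := by
  let H := homologyFunctor 𝒜 0
  -- first triangle: τ≤0 K → K → τ≥1 K
  let K₀ : DerivedCategory 𝒜 := (TStructure.t.truncLE 0).obj K
  let K' : DerivedCategory 𝒜 := (TStructure.t.truncGE 1).obj K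
  let ι₀ : K₀ ⟶ K := (TStructure.t.truncLEι 0).app K
  have hTr₁ : Triangle.mk ι₀ ((TStructure.t.truncGEπ 1).app K)
      ((TStructure.t.truncGEδLE 0 1 (by norm_num)).app K) ∈ distTriang _ :=
    TStructure.t.triangleLEGE_distinguished 0 1 (by norm_num) K
  haveI : K'.IsGE 1 := by dsimp only [K']; infer_instance
  haveI : K₀.IsLE 0 := by dsimp only [K₀]; infer_instance
  haveI hι : IsIso (H.map ι₀) := isIso_homologyMap_mor₁ _ hTr₁ (-1) 0 (by norm_num)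
    (isZero_of_isGE K' 1 (-1) (by norm_num)) (isZero_of_isGE K' 1 0 (by norm_num))
  -- second triangle: τ≤-1 K₀ → K₀ → τ≥0 K₀
  let K₁ : DerivedCategory 𝒜 := (TStructure.t.truncLE (-1)).obj K₀
  let C : DerivedCategory 𝒜 := (TStructure.t.truncGE 0).obj K₀
  let p : K₀ ⟶ C := (TStructure.t.truncGEπ 0).app K₀
  let δ : C ⟶ K₁⟦(1 : ℤ)⟧ := (TStructure.t.truncGEδLE (-1) 0 (by norm_num)).app K₀
  have hTr₂ : Triangle.mk ((TStructure.t.truncLEι (-1)).app K₀) p δ ∈ distTriang _ :=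
    TStructure.t.triangleLEGE_distinguished (-1) 0 (by norm_num) K₀
  haveI : K₁.IsLE (-1) := by dsimp only [K₁]; infer_instance
  haveI : C.IsGE 0 := by dsimp only [C]; infer_instance
  haveI : C.IsLE 0 := by dsimp only [C]; infer_instance
  haveI hp : IsIso (H.map p) := isIso_homologyMap_mor₂ _ hTr₂ 0 1 (by norm_num)
    (isZero_of_isLE K₁ (-1) 0 (by norm_num)) (isZero_of_isLE K₁ (-1) 1 (by norm_num))
  obtain ⟨Y, ⟨c⟩⟩ := exists_iso_singleFunctor_obj_of_isGE_of_isLE C 0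
  let σY : T ⟶ Y := σ ≫ inv (H.map ι₀) ≫ H.map p ≫ H.map c.hom ≫
    (singleFunctorCompHomologyFunctorIso 𝒜 0).hom.app Y
  haveI : (K₁⟦(1 : ℤ)⟧).IsLE (-1) := by
    haveI : TStructure.t.IsLE (K₁⟦(1 : ℤ)⟧) (-2) :=
      TStructure.t.isLE_shift _ (-1) 1 (-2) (by norm_num)
    exact TStructure.t.isLE_of_le _ (-2) (-1) (by norm_num)
  obtain ⟨T', π, hπ, h2⟩ := exists_epi_comp_eq_zero_of_isLE T (K₁⟦(1 : ℤ)⟧)
    ((singleFunctor 𝒜 0).map σY ≫ c.inv ≫ δ)
  have h3 : ((singleFunctor 𝒜 0).map π ≫ (singleFunctor 𝒜 0).map σY ≫ c.inv) ≫ δ = 0 := by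
    simpa only [Category.assoc] using h2
  obtain ⟨φ₀, hφ₀⟩ := Triangle.coyoneda_exact₃ _ hTr₂ _ h3
  let φ₀' : (singleFunctor 𝒜 0).obj T' ⟶ K₀ := φ₀
  refine ⟨T', π, hπ, φ₀' ≫ ι₀, ?_⟩
  have key : kappa T' K₀ φ₀' = π ≫ σ ≫ inv (H.map ι₀) := by
    rw [← cancel_mono (H.map p)]
    have e1 : kappa T' K₀ φ₀' ≫ H.map p = kappa T' C (φ₀' ≫ p) := (kappa_comp_right φ₀' p).symm
    rw [e1]
    have e2 : φ₀' ≫ p = (singleFunctor 𝒜 0).map π ≫ (singleFunctor 𝒜 0).map σY ≫ c.inv := hφ₀.symm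
    rw [e2, kappa_comp_left, kappa_comp_right, kappa_single]
    simp only [σY, Category.assoc, Iso.hom_inv_id_app_assoc]
    have e3 : H.map c.hom ≫ (homologyFunctor 𝒜 0).map c.inv = 𝟙 _ := by
      rw [← Functor.map_comp, Iso.hom_inv_id, CategoryTheory.Functor.map_id]
    rw [e3, Category.comp_id]
  rw [kappa_comp_right, key]
  simp only [Category.assoc]
  have e4 : inv (H.map ι₀) ≫ (homologyFunctor 𝒜 0).map ι₀ = 𝟙 _ := IsIso.inv_hom_id _
  rw [e4, Category.comp_id]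

section Shifted

/-- `H⁰(K⟦m⟧) ≅ H^m(K)` -/
noncomputable def shiftHIso (m : ℤ) (K : DerivedCategory 𝒜) :
    (homologyFunctor 𝒜 0).obj (K⟦m⟧) ≅ (homologyFunctor 𝒜 m).obj K :=
  ((homologyFunctor 𝒜 0).shiftIso m 0 m (add_zero m)).app K

lemma shiftHIso_hom_naturality (m : ℤ) {K K' : DerivedCategory 𝒜} (g : K ⟶ K') :
    (homologyFunctor 𝒜 0).map (g⟦m⟧') ≫ (shiftHIso m K').hom =
      (shiftHIso m K).hom ≫ (homologyFunctor 𝒜 m).map g :=
  ((homologyFunctor 𝒜 0).shiftIso m 0 m (add_zero m)).hom.naturality g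

/-- the map on `H^m` induced by a morphism `T[0] ⟶ K⟦m⟧` -/
noncomputable def kappaS (m : ℤ) (T : 𝒜) (K : DerivedCategory 𝒜)
    (φ : (singleFunctor 𝒜 0).obj T ⟶ K⟦m⟧) : T ⟶ (homologyFunctor 𝒜 m).obj K :=
  kappa T (K⟦m⟧) φ ≫ (shiftHIso m K).hom

lemma kappaS_comp_right (m : ℤ) {T : 𝒜} {K K' : DerivedCategory 𝒜}
    (φ : (singleFunctor 𝒜 0).obj T ⟶ K⟦m⟧) (g : K ⟶ K') :
    kappaS m T K' (φ ≫ g⟦m⟧') = kappaS m T K φ ≫ (homologyFunctor 𝒜 m).map g := by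
  simp only [kappaS, kappa_comp_right, Category.assoc, shiftHIso_hom_naturality]

lemma kappaS_comp_left (m : ℤ) {T T' : 𝒜} {K : DerivedCategory 𝒜} (f : T' ⟶ T)
    (φ : (singleFunctor 𝒜 0).obj T ⟶ K⟦m⟧) :
    kappaS m T' K ((singleFunctor 𝒜 0).map f ≫ φ) = f ≫ kappaS m T K φ := by
  simp only [kappaS, kappa_comp_left, Category.assoc]

lemma kappaS_eq_zero_iff (m : ℤ) {T : 𝒜} {K : DerivedCategory 𝒜}
    (φ : (singleFunctor 𝒜 0).obj T ⟶ K⟦m⟧) : kappaS m T K φ = 0 ↔ kappa T (K⟦m⟧) φ = 0 := by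
  constructor
  · intro h
    exact (cancel_mono (shiftHIso m K).hom).1 (h.trans zero_comp.symm)
  · intro h
    rw [kappaS, h, zero_comp]

lemma kappaS_zero (m : ℤ) (T : 𝒜) (K : DerivedCategory 𝒜) : kappaS m T K 0 = 0 := by
  rw [kappaS, kappa_zero, zero_comp]

theorem exists_epi_comp_eq_zero_of_kappaS (m : ℤ) (T : 𝒜) (K : DerivedCategory 𝒜)
    (φ : (singleFunctor 𝒜 0).obj T ⟶ K⟦m⟧) (h : kappaS m T K φ = 0) :
    ∃ (T' : 𝒜) (π : T' ⟶ T) (_ : Epi π), (singleFunctor 𝒜 0).map π ≫ φ = 0 :=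
  exists_epi_comp_eq_zero_of_kappa T (K⟦m⟧) φ ((kappaS_eq_zero_iff m φ).1 h)

theorem exists_epi_kappaS (m : ℤ) (T : 𝒜) (K : DerivedCategory 𝒜)
    (σ : T ⟶ (homologyFunctor 𝒜 m).obj K) :
    ∃ (T' : 𝒜) (π : T' ⟶ T) (_ : Epi π) (φ : (singleFunctor 𝒜 0).obj T' ⟶ K⟦m⟧),
      kappaS m T' K φ = π ≫ σ := by
  obtain ⟨T', π, hπ, φ, hφ⟩ := exists_epi_kappa T (K⟦m⟧) (σ ≫ (shiftHIso m K).inv)
  refine ⟨T', π, hπ, φ, ?_⟩
  rw [kappaS, hφ, Category.assoc, Category.assoc, Iso.inv_hom_id, Category.comp_id]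

end Shifted

end Groth.Agent.Lib.Helper53.DerLoc
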