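import Groth.Agent.Lib.Helper53.TruncTower
import Groth.Agent.Lib.Helper53.DerLoc

/-!
# `Hom(T[0], K[q]) ≃ Hom(T, H^q K)` for bounded below `K` with `Hom(T,-)`-acyclic cohomology (helper53)
-/

set_option autoImplicit false
universe w v u
open CategoryTheory Limits Pretriangulated Opposite

namespace Groth.Agent.Lib.Helper53.AcycBij

open DerivedCategory Groth.Agent.Lib.Helper53.DerLoc Groth.Agent.Lib.Helper53.TruncTower

variable {𝒜 : Type u} [Category.{v} 𝒜] [Abelian 𝒜] [HasDerivedCategory.{w} 𝒜]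

/-- acyclicity of `Y` for `Hom(T, -)`, in terms of the derived category -/
def P (T Y : 𝒜) : Prop :=
  ∀ k : ℕ, Subsingleton ((singleFunctor 𝒜 0).obj T ⟶ ((singleFunctor 𝒜 0).obj Y)⟦(k : ℤ) + 1⟧)

lemma P_of_iso {T Y Y' : 𝒜} (e : Y ≅ Y') (h : P T Y) : P T Y' := by
  intro k
  haveI := h k
  refine ⟨fun x y => ?_⟩
  let ε := (shiftFunctor (DerivedCategory 𝒜) ((k : ℤ) + 1)).mapIso ((singleFunctor 𝒜 0).mapIso e)
  have : x ≫ ε.inv = y ≫ ε.inv := Subsingleton.elim _ _
  exact (cancel_mono ε.inv).1 this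

lemma P_of_isZero {T Y : 𝒜} (h : IsZero Y) : P T Y := by
  intro k
  have h1 : IsZero ((singleFunctor 𝒜 0).obj Y) := Functor.map_isZero _ h
  have h2 : IsZero (((singleFunctor 𝒜 0).obj Y)⟦(k : ℤ) + 1⟧) := Functor.map_isZero _ h1
  exact ⟨fun x y => h2.eq_of_tgt _ _⟩

/-- all cohomology objects of `K` are `Hom(T,-)`-acyclic -/
def Acyc (T : 𝒜) (K : DerivedCategory 𝒜) : Prop := ∀ i : ℤ, P T ((homologyFunctor 𝒜 i).obj K)

lemma acyc_truncLE (T : 𝒜) (K : DerivedCategory 𝒜) (c : ℤ) (h : Acyc T K) :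
    Acyc T ((TStructure.t.truncLE c).obj K) := by
  intro i
  by_cases hi : i ≤ c
  · have hTr := TStructure.t.triangleLEGE_distinguished c (c + 1) rfl K
    let K₃ : DerivedCategory 𝒜 := (TStructure.t.truncGE (c + 1)).obj K
    haveI : K₃.IsGE (c + 1) := by dsimp only [K₃]; infer_instance
    haveI : IsIso ((homologyFunctor 𝒜 i).map ((TStructure.t.truncLEι c).app K)) :=
      isIso_homologyMap_mor₁ _ hTr (i - 1) i (by omega)
        (isZero_of_isGE K₃ (c + 1) (i - 1) (by omega)) (isZero_of_isGE K₃ (c + 1) i (by omega))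
    exact P_of_iso (asIso ((homologyFunctor 𝒜 i).map ((TStructure.t.truncLEι c).app K))).symm (h i)
  · haveI : ((TStructure.t.truncLE c).obj K).IsLE c := inferInstance
    exact P_of_isZero (isZero_of_isLE _ c i (by omega))

/-- `Y[-d][j] ≅ Y[j-d]` -/
noncomputable def singleShiftIso (Y : 𝒜) (d j : ℤ) :
    ((singleFunctor 𝒜 d).obj Y)⟦j⟧ ≅ ((singleFunctor 𝒜 0).obj Y)⟦j - d⟧ :=
  (shiftFunctor _ j).mapIso (((singleFunctors 𝒜).shiftIso (-d) d 0 (by simp)).app Y).symm ≪≫
      ((shiftFunctorAdd' (DerivedCategory 𝒜) (-d) j (j - d) (by omega)).app _).symm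

lemma subsingleton_single (T Y : 𝒜) (hY : P T Y) (d j : ℤ) (hj : d < j) :
    Subsingleton ((singleFunctor 𝒜 0).obj T ⟶ ((singleFunctor 𝒜 d).obj Y)⟦j⟧) := by
  obtain ⟨k, hk⟩ : ∃ k : ℕ, j - d = (k : ℤ) + 1 := ⟨(j - d - 1).toNat, by omega⟩
  have h1 : Subsingleton ((singleFunctor 𝒜 0).obj T ⟶ ((singleFunctor 𝒜 0).obj Y)⟦j - d⟧) := by
    rw [hk]; exact hY k
  refine ⟨fun x y => ?_⟩
  have : x ≫ (singleShiftIso Y d j).hom = y ≫ (singleShiftIso Y d j).hom := Subsingleton.elim _ _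
  exact (cancel_mono (singleShiftIso Y d j).hom).1 this

lemma subsingleton_of_isZero (T : 𝒜) (N : DerivedCategory 𝒜) (hz : IsZero N) (j : ℤ) :
    Subsingleton ((singleFunctor 𝒜 0).obj T ⟶ N⟦j⟧) := by
  have h2 : IsZero (N⟦j⟧) := Functor.map_isZero _ hz
  exact ⟨fun x y => h2.eq_of_tgt _ _⟩

/-- vanishing of `Hom(T[0], N[j])` above the amplitude of a bounded acyclic object -/
lemma subsingleton_of_bounded (T : 𝒜) : ∀ (n : ℕ) (N : DerivedCategory 𝒜) (a b : ℤ), b < a + n →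
    N.IsGE a → N.IsLE b → Acyc T N → ∀ j : ℤ, b < j →
    Subsingleton ((singleFunctor 𝒜 0).obj T ⟶ N⟦j⟧)
  | 0, N, a, b, hab, hGE, hLE, _, j, _ => by
      have hz : IsZero N := TStructure.t.isZero N b a (by omega)
      exact subsingleton_of_isZero T N hz j
  | n + 1, N, a, b, hab, hGE, hLE, hN, j, hj => by
      by_cases hba : b < a
      · have hz : IsZero N := TStructure.t.isZero N b a (by omega)
        exact subsingleton_of_isZero T N hz j
      · let N₁ : DerivedCategory 𝒜 := (TStructure.t.truncLE (b - 1)).obj N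
        let N₃ : DerivedCategory 𝒜 := (TStructure.t.truncGE b).obj N
        have hTr := TStructure.t.triangleLEGE_distinguished (b - 1) b (by omega) N
        haveI : N₁.IsLE (b - 1) := by dsimp only [N₁]; infer_instance
        have hN₁ : Acyc T N₁ := acyc_truncLE T N (b - 1) hN
        haveI : N₃.IsGE b := by dsimp only [N₃]; infer_instance
        haveI : N₃.IsLE b := by dsimp only [N₃]; infer_instance
        haveI hiso : ∀ i, i ≤ b - 1 →
            IsIso ((homologyFunctor 𝒜 i).map ((TStructure.t.truncLEι (b - 1)).app N)) := fun i hi =>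
          isIso_homologyMap_mor₁ _ hTr (i - 1) i (by omega)
            (isZero_of_isGE N₃ b (i - 1) (by omega)) (isZero_of_isGE N₃ b i (by omega))
        haveI : N₁.IsGE a := by
          rw [isGE_iff]
          intro i hi
          haveI := hiso i (by omega)
          exact (isZero_of_isGE N a i hi).of_iso
            (asIso ((homologyFunctor 𝒜 i).map ((TStructure.t.truncLEι (b - 1)).app N)))
        have h1 : Subsingleton ((singleFunctor 𝒜 0).obj T ⟶ N₁⟦j⟧) :=
          subsingleton_of_bounded T n N₁ a (b - 1) (by push_cast at hab; omega) inferInstance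
            inferInstance hN₁ j (by omega)
        obtain ⟨Y, ⟨e⟩⟩ := exists_iso_singleFunctor_obj_of_isGE_of_isLE N₃ b
        haveI hiso₂ : IsIso ((homologyFunctor 𝒜 b).map ((TStructure.t.truncGEπ b).app N)) :=
          isIso_homologyMap_mor₂ _ hTr b (b + 1) rfl
            (isZero_of_isLE N₁ (b - 1) b (by omega)) (isZero_of_isLE N₁ (b - 1) (b + 1) (by omega))
        let iY : Y ≅ (homologyFunctor 𝒜 b).obj N :=
          ((singleFunctorCompHomologyFunctorIso 𝒜 b).app Y).symm ≪≫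
            (homologyFunctor 𝒜 b).mapIso e.symm ≪≫
            (asIso ((homologyFunctor 𝒜 b).map ((TStructure.t.truncGEπ b).app N))).symm
        have hY : P T Y := P_of_iso iY.symm (hN b)
        have h3 : Subsingleton ((singleFunctor 𝒜 0).obj T ⟶ N₃⟦j⟧) := by
          haveI := subsingleton_single T Y hY b j hj
          refine ⟨fun x y => ?_⟩
          have : x ≫ e.hom⟦j⟧' = y ≫ e.hom⟦j⟧' := Subsingleton.elim _ _
          exact (cancel_mono (e.hom⟦j⟧')).1 this
        refine ⟨fun x y => ?_⟩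
        exact injective_of_subsingleton _ hTr _ j h1 (h3.elim _ _)

lemma kappa_surjective_of_heart (T : 𝒜) (N : DerivedCategory 𝒜) [N.IsGE 0] [N.IsLE 0] :
    Function.Surjective (kappa T N) := by
  obtain ⟨Y, ⟨e⟩⟩ := exists_iso_singleFunctor_obj_of_isGE_of_isLE N 0
  intro σ
  let I := singleFunctorCompHomologyFunctorIso 𝒜 0
  let f : T ⟶ Y := σ ≫ (homologyFunctor 𝒜 0).map e.hom ≫ I.hom.app Y
  refine ⟨(singleFunctor 𝒜 0).map f ≫ e.inv, ?_⟩
  rw [kappa_comp_right, kappa_single]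
  have h1 : I.hom.app Y ≫ I.inv.app Y = 𝟙 _ := I.hom_inv_id_app Y
  have h2 : (homologyFunctor 𝒜 0).map e.hom ≫ (homologyFunctor 𝒜 0).map e.inv = 𝟙 _ := by
    rw [← Functor.map_comp, e.hom_inv_id, CategoryTheory.Functor.map_id]
  show ((σ ≫ (homologyFunctor 𝒜 0).map e.hom ≫ I.hom.app Y) ≫ I.inv.app Y) ≫
    (homologyFunctor 𝒜 0).map e.inv = σ
  rw [Category.assoc, Category.assoc, Category.assoc, reassoc_of% h1, h2, Category.comp_id]

lemma kappaS_sub (m : ℤ) (T : 𝒜) (K : DerivedCategory 𝒜)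
    (φ φ' : (singleFunctor 𝒜 0).obj T ⟶ K⟦m⟧) :
    kappaS m T K (φ - φ') = kappaS m T K φ - kappaS m T K φ' := by
  simp only [kappaS, kappa, Functor.map_sub, Preadditive.comp_sub, Preadditive.sub_comp]

/-- for `K` bounded below with `Hom(T,-)`-acyclic cohomology, `Hom(T[0], K[q]) → Hom(T, H^q K)` is
bijective -/
theorem kappaS_bijective (T : 𝒜) (K : DerivedCategory 𝒜) (a : ℤ) [K.IsGE a] (h : Acyc T K) (q : ℤ) :
    Function.Bijective (kappaS q T K) := by
  let K₁ : DerivedCategory 𝒜 := (TStructure.t.truncLE (q - 1)).obj K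
  let K₂ : DerivedCategory 𝒜 := (TStructure.t.truncGE q).obj K
  let p : K ⟶ K₂ := (TStructure.t.truncGEπ q).app K
  have hTr := TStructure.t.triangleLEGE_distinguished (q - 1) q (by omega) K
  haveI : K₁.IsLE (q - 1) := by dsimp only [K₁]; infer_instance
  haveI : K₂.IsGE q := by dsimp only [K₂]; infer_instance
  have hK₁ : Acyc T K₁ := acyc_truncLE T K (q - 1) h
  haveI : K₁.IsGE a := by
    rw [isGE_iff]
    intro i hi
    by_cases hiq : i ≤ q - 1
    · haveI : IsIso ((homologyFunctor 𝒜 i).map ((TStructure.t.truncLEι (q - 1)).app K)) :=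
        isIso_homologyMap_mor₁ _ hTr (i - 1) i (by omega)
          (isZero_of_isGE K₂ q (i - 1) (by omega)) (isZero_of_isGE K₂ q i (by omega))
      exact (isZero_of_isGE K a i hi).of_iso
        (asIso ((homologyFunctor 𝒜 i).map ((TStructure.t.truncLEι (q - 1)).app K)))
    · exact isZero_of_isLE K₁ (q - 1) i (by omega)
  have hV : ∀ j, q - 1 < j → Subsingleton ((singleFunctor 𝒜 0).obj T ⟶ K₁⟦j⟧) := fun j hj =>
    subsingleton_of_bounded T (q - a).toNat K₁ a (q - 1) (by omega) inferInstance inferInstance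
      hK₁ j hj
  haveI hp : IsIso ((homologyFunctor 𝒜 q).map p) :=
    isIso_homologyMap_mor₂ _ hTr q (q + 1) rfl
      (isZero_of_isLE K₁ (q - 1) q (by omega)) (isZero_of_isLE K₁ (q - 1) (q + 1) (by omega))
  have hinj₁ : Function.Injective (fun φ : (singleFunctor 𝒜 0).obj T ⟶ K⟦q⟧ => φ ≫ p⟦q⟧') :=
    injective_of_subsingleton _ hTr ((singleFunctor 𝒜 0).obj T) q (hV q (by omega))
  have hsurj₁ : Function.Surjective (fun φ : (singleFunctor 𝒜 0).obj T ⟶ K⟦q⟧ => φ ≫ p⟦q⟧') :=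
    surjective_of_subsingleton _ hTr ((singleFunctor 𝒜 0).obj T) q (q + 1) rfl
      (hV (q + 1) (by omega))
  haveI : (K₂⟦q⟧).IsGE 0 := TStructure.t.isGE_shift K₂ q q 0 (by omega)
  constructor
  · intro φ φ' hφ
    have h0 : kappaS q T K (φ - φ') = 0 := by rw [kappaS_sub, hφ, sub_self]
    have h1 : kappaS q T K₂ ((φ - φ') ≫ p⟦q⟧') = 0 := by rw [kappaS_comp_right, h0, zero_comp]
    have h2 : (φ - φ') ≫ p⟦q⟧' = 0 :=
      eq_zero_of_isGE T (K₂⟦q⟧) _ ((kappaS_eq_zero_iff q _).1 h1)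
    have h3 : φ - φ' = 0 := hinj₁ (h2.trans zero_comp.symm)
    exact sub_eq_zero.1 h3
  · intro σ
    let M : DerivedCategory 𝒜 := (TStructure.t.truncLE q).obj K₂
    let ι : M ⟶ K₂ := (TStructure.t.truncLEι q).app K₂
    have hTr₂ := TStructure.t.triangleLEGE_distinguished q (q + 1) rfl K₂
    let K₄ : DerivedCategory 𝒜 := (TStructure.t.truncGE (q + 1)).obj K₂
    haveI : K₄.IsGE (q + 1) := by dsimp only [K₄]; infer_instance
    haveI hι : ∀ i, i ≤ q → IsIso ((homologyFunctor 𝒜 i).map ι) := fun i hi =>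
      isIso_homologyMap_mor₁ _ hTr₂ (i - 1) i (by omega)
        (isZero_of_isGE K₄ (q + 1) (i - 1) (by omega)) (isZero_of_isGE K₄ (q + 1) i (by omega))
    haveI : M.IsLE q := by dsimp only [M]; infer_instance
    haveI : M.IsGE q := by
      rw [isGE_iff]
      intro i hi
      haveI := hι i (by omega)
      exact (isZero_of_isGE K₂ q i hi).of_iso (asIso ((homologyFunctor 𝒜 i).map ι))
    haveI : (M⟦q⟧).IsGE 0 := TStructure.t.isGE_shift M q q 0 (by omega)
    haveI : (M⟦q⟧).IsLE 0 := TStructure.t.isLE_shift M q q 0 (by omega)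
    haveI := hι q le_rfl
    let σ' : T ⟶ (homologyFunctor 𝒜 q).obj M :=
      σ ≫ (homologyFunctor 𝒜 q).map p ≫ inv ((homologyFunctor 𝒜 q).map ι)
    obtain ⟨φ', hφ'⟩ := kappa_surjective_of_heart T (M⟦q⟧) (σ' ≫ (shiftHIso q M).inv)
    have h1 : kappaS q T M φ' = σ' := by
      rw [kappaS, hφ', Category.assoc, Iso.inv_hom_id, Category.comp_id]
    obtain ⟨φ, hφ⟩ := hsurj₁ (φ' ≫ ι⟦q⟧')
    have hφ2 : φ ≫ p⟦q⟧' = φ' ≫ ι⟦q⟧' := hφ
    refine ⟨φ, ?_⟩
    have h2 : kappaS q T K φ ≫ (homologyFunctor 𝒜 q).map p = σ ≫ (homologyFunctor 𝒜 q).map p := by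
      rw [← kappaS_comp_right, hφ2, kappaS_comp_right, h1]
      simp only [σ', Category.assoc, IsIso.inv_hom_id, Category.comp_id]
    exact (cancel_mono _).1 h2

end Groth.Agent.Lib.Helper53.AcycBij
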