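import Groth.Agent.Lib.Helper53.DerLoc
import Groth.Agent.Lib.Helper53.SiteSec
import Groth.Prelude.Def_CohCx

/-!
# Cohomology sheaves of an object of `D(Sh)` as the sheafification of `U ↦ H^m(U, K)` (helper53)

`kU K m U : HDU K m U → H^m(K)(U)` is the canonical map; it is natural, locally injective (`loc_inj`)
and locally surjective (`loc_surj`).
-/

set_option autoImplicit false
universe u
open CategoryTheory Limits Opposite

namespace Groth.Agent.Lib.Helper53.DerLocSite

open Groth.Agent.Lib.Helper53.DerLoc Groth.Agent.Lib.Helper53.SiteCoh DerivedCategory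

variable {C : Type u} [SmallCategory C] {J : GrothendieckTopology C}
  [HasDerivedCategory.{u} (Sheaf J AddCommGrpCat.{u})]

/-- `H^m(U, K) → H^m(K)(U)` -/
noncomputable def kU (K : DerivedCategory (Sheaf J AddCommGrpCat.{u})) (m : ℤ) (U : C)
    (φ : CohCx.HDU K m U) : (CohCx.HD K m).obj.obj (op U) :=
  shSecEquiv J U (CohCx.HD K m) (kappaS m (freeSh J U) K φ)

variable (K : DerivedCategory (Sheaf J AddCommGrpCat.{u})) (m : ℤ)

lemma kU_zero (U : C) : kU K m U 0 = 0 := by
  rw [kU, kappaS_zero, map_zero]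

lemma kU_add (U : C) (φ φ' : CohCx.HDU K m U) : kU K m U (φ + φ') = kU K m U φ + kU K m U φ' := by
  have h : kappaS m (freeSh J U) K (φ + φ') =
      kappaS m (freeSh J U) K φ + kappaS m (freeSh J U) K φ' := by
    simp only [kappaS, kappa, Functor.map_add, Preadditive.comp_add, Preadditive.add_comp]
  rw [kU, h, map_add]
  rfl

lemma kU_comp_right {K K' : DerivedCategory (Sheaf J AddCommGrpCat.{u})} (g : K ⟶ K') (U : C)
    (φ : CohCx.HDU K m U) :
    kU K' m U (φ ≫ g⟦m⟧') = ((homologyFunctor _ m).map g).hom.app (op U) (kU K m U φ) := by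
  rw [kU, kappaS_comp_right, shSecEquiv_naturality_right]
  rfl

lemma kU_res {U V : C} (f : V ⟶ U) (φ : CohCx.HDU K m U) :
    kU K m V ((singleFunctor _ 0).map (freeShMap J f) ≫ φ) =
      (CohCx.HD K m).obj.map f.op (kU K m U φ) := by
  rw [kU, kappaS_comp_left, shSecEquiv_naturality_left]
  rfl

theorem loc_inj (U : C) (φ : CohCx.HDU K m U) (h : kU K m U φ = 0) :
    ∃ S : J.Cover U, ∀ a : S.Arrow, (singleFunctor _ 0).map (freeShMap J a.f) ≫ φ = 0 := by
  have h0 : kappaS m (freeSh J U) K φ = 0 := by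
    apply (shSecEquiv J U (CohCx.HD K m)).injective
    rw [map_zero]
    exact h
  obtain ⟨T', π, hπ, h1⟩ := exists_epi_comp_eq_zero_of_kappaS m (freeSh J U) K φ h0
  obtain ⟨S, hS⟩ := exists_cover_lift_of_epi J π U (𝟙 _)
  refine ⟨S, fun a => ?_⟩
  obtain ⟨l, hl⟩ := hS a
  rw [Category.comp_id] at hl
  rw [← hl, Functor.map_comp, Category.assoc, h1, comp_zero]

theorem loc_surj (U : C) (σ : (CohCx.HD K m).obj.obj (op U)) :
    ∃ S : J.Cover U, ∀ a : S.Arrow, ∃ φ : CohCx.HDU K m a.Y,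
      kU K m a.Y φ = (CohCx.HD K m).obj.map a.f.op σ := by
  obtain ⟨T', π, hπ, φ₀, hφ₀⟩ := exists_epi_kappaS m (freeSh J U) K
    ((shSecEquiv J U (CohCx.HD K m)).symm σ)
  obtain ⟨S, hS⟩ := exists_cover_lift_of_epi J π U (𝟙 _)
  refine ⟨S, fun a => ?_⟩
  obtain ⟨l, hl⟩ := hS a
  rw [Category.comp_id] at hl
  refine ⟨(singleFunctor _ 0).map l ≫ φ₀, ?_⟩
  rw [kU, kappaS_comp_left, hφ₀, ← Category.assoc, hl, shSecEquiv_naturality_left,
    AddEquiv.apply_symm_apply]

end Groth.Agent.Lib.Helper53.DerLocSite
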