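import Groth.Agent.Lib.Helper53.TruncTower
import Groth.Agent.Lib.Helper53.RlimInj
import Groth.Agent.Lib.Helper53.HomShf
import Groth.Agent.S0880
import Groth.Prelude.Def_CohSite

/-!
# `E = Rlim τ_{≥ -n} E` under local finiteness of cohomological dimension (helper53)
-/

set_option autoImplicit false
universe u
open CategoryTheory Limits Pretriangulated Opposite

namespace Groth.Agent.Lib.Helper53.TruncTowerSite

open DerivedCategory Groth.Agent.Lib.Helper53.DerLoc Groth.Agent.Lib.Helper53.TruncTower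
  Groth.Agent.Lib.Helper53.RlimInj Groth.Agent.Lib.Helper53.SiteCoh
  Groth.Agent.Lib.Helper53.RlimMilnor

variable {C : Type u} [SmallCategory C] {J : GrothendieckTopology C}
  [HasDerivedCategory.{u} (Sheaf J AddCommGrpCat.{u})]
  (E : DerivedCategory (Sheaf J AddCommGrpCat.{u}))

/-- vanishing of `H^q(U, F)` for the fibre of a transition map of the truncation tower -/
lemma subsingleton_fibre (U : C) (p : ℤ → ℤ)
    (hU : ∀ (m : ℤ) (k : ℕ), p m < k → Subsingleton (CohSite.HU (CohCx.HD E (m - k)) k U))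
    (q : ℤ) (n : ℕ) (hn : p q - q ≤ n)
    (F : DerivedCategory (Sheaf J AddCommGrpCat.{u})) (f : F ⟶ CohCx.truncTower E (n + 1))
    (δ : CohCx.truncTower E n ⟶ F⟦(1 : ℤ)⟧)
    (hTr : Triangle.mk f (CohCx.truncTowerMap E n) δ ∈ distTriang _) :
    Subsingleton (CohCx.HDU F q U) := by
  obtain ⟨e⟩ := exists_iso_fibre E n F f δ hTr
  let d : ℤ := -((n : ℤ) + 1)
  haveI : Subsingleton ((singleFunctor _ 0).obj (freeSh J U) ⟶
      ((singleFunctor _ d).obj ((homologyFunctor _ d).obj E))⟦q⟧) := by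
    apply subsingleton_hom_single_shift.{u}
    intro k hk
    have h1 := hU q k (by omega)
    have h2 : q - (k : ℤ) = d := by omega
    rw [h2] at h1
    exact h1
  refine ⟨fun x y => ?_⟩
  have : x ≫ (e.hom)⟦q⟧' = y ≫ (e.hom)⟦q⟧' := Subsingleton.elim _ _
  exact (cancel_mono ((e.hom)⟦q⟧')).1 this

lemma cond_of_vanishing (U : C) (p : ℤ → ℤ)
    (hU : ∀ (m : ℤ) (k : ℕ), p m < k → Subsingleton (CohSite.HU (CohCx.HD E (m - k)) k U))
    (q : ℤ) (n₀ : ℕ) (hn₀ : p q - q ≤ n₀) :
    Cond (CohCx.truncTower E) (CohCx.truncTowerMap E) q n₀ U := by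
  have key : ∀ n, n₀ ≤ n →
      Function.Injective (fun φ : CohCx.HDU (CohCx.truncTower E (n + 1)) q U =>
        φ ≫ (CohCx.truncTowerMap E n)⟦q⟧') ∧
      Function.Surjective (fun φ : CohCx.HDU (CohCx.truncTower E (n + 1)) (q - 1) U =>
        φ ≫ (CohCx.truncTowerMap E n)⟦q - 1⟧') := by
    intro n hn
    obtain ⟨F, f, δ, hTr⟩ := distinguished_cocone_triangle₁ (CohCx.truncTowerMap E n)
    have hsub := subsingleton_fibre E U p hU q n (by omega) F f δ hTr
    exact ⟨injective_of_subsingleton _ hTr _ q hsub,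
      surjective_of_subsingleton _ hTr _ (q - 1) q (by omega) hsub⟩
  constructor
  · exact limOne_of_eventually_surjective n₀ _ _ (fun n hn => (key n hn).2)
  · intro k
    induction k with
    | zero =>
      intro x y hxy
      have h1 : ∀ z : CohCx.HDU (CohCx.truncTower E (n₀ + 0)) q U,
          Preadditive.rightComp _ ((shiftFunctor _ q).map
            (CohCx.transition (CohCx.truncTower E) (CohCx.truncTowerMap E) n₀ 0)) z = z := by
        intro z
        show z ≫ (𝟙 _)⟦q⟧' = z
        rw [CategoryTheory.Functor.map_id, Category.comp_id]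
      rw [h1, h1] at hxy
      exact hxy
    | succ k ih =>
      intro x y hxy
      apply (key (n₀ + k) (Nat.le_add_right _ _)).1
      apply ih
      show (x ≫ (CohCx.truncTowerMap E (n₀ + k))⟦q⟧') ≫
          (CohCx.transition (CohCx.truncTower E) (CohCx.truncTowerMap E) n₀ k)⟦q⟧' =
        (y ≫ (CohCx.truncTowerMap E (n₀ + k))⟦q⟧') ≫
          (CohCx.transition (CohCx.truncTower E) (CohCx.truncTowerMap E) n₀ k)⟦q⟧'
      rw [Category.assoc, Category.assoc, ← Functor.map_comp]
      exact hxy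

section Main
variable [HasProduct (CohCx.truncTower E)]

/-- the comparison map `E ⟶ L` to a derived limit of the truncation tower is an isomorphism, given
local injectivity data -/
theorem isRlimVia_of_injective (B : Set C)
    (hB : ∀ U : C, ∃ (ι : Type u) (Y : ι → C) (f : ∀ i, Y i ⟶ U),
      Sieve.ofArrows Y f ∈ J U ∧ ∀ i, Y i ∈ B)
    (hinj : ∀ (L : DerivedCategory (Sheaf J AddCommGrpCat.{u}))
      (a : ∀ n, L ⟶ CohCx.truncTower E n)
      (_ : CohCx.IsRlimVia (CohCx.truncTower E) (CohCx.truncTowerMap E) L a) (q : ℤ),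
      ∀ V ∈ B, ∃ n₀ : ℕ, -(n₀ : ℤ) ≤ q ∧
        Function.Injective (((homologyFunctor _ q).map (a n₀)).hom.app (op V))) :
    CohCx.IsRlimVia (CohCx.truncTower E) (CohCx.truncTowerMap E) E (CohCx.toTruncTower E) := by
  let K := CohCx.truncTower E
  let tt := CohCx.truncTowerMap E
  let aE := CohCx.toTruncTower E
  obtain ⟨L, u, c, hTr⟩ := distinguished_cocone_triangle₁ (dmap K tt)
  let aL : ∀ n, L ⟶ K n := fun n => u ≫ Pi.π K n
  have hu : u = Pi.lift aL := by
    apply Limits.Pi.hom_ext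
    intro n
    rw [Pi.lift_π]
  have hL : CohCx.IsRlimVia K tt L aL := ⟨c, by rw [← hu]; exact hTr⟩
  have h0 : Pi.lift aE ≫ dmap K tt = 0 := by
    apply Limits.Pi.hom_ext
    intro n
    rw [Category.assoc, Pi.lift_π, Preadditive.comp_sub, Pi.lift_π, Pi.lift_π_assoc, zero_comp]
    exact sub_eq_zero.2 (toTruncTower_comp E n).symm
  obtain ⟨lam₀, hlam₀⟩ := Triangle.coyoneda_exact₂ _ hTr (Pi.lift aE) h0
  let lam : E ⟶ L := lam₀
  have hlam : Pi.lift aE = lam ≫ u := hlam₀
  have hlam' : ∀ n, lam ≫ aL n = aE n := by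
    intro n
    have h1 : Pi.lift aE = lam ≫ u := hlam
    show lam ≫ u ≫ Pi.π K n = aE n
    rw [← Category.assoc, ← h1, Pi.lift_π]
  have hiso : IsIso lam := by
    rw [isIso_iff]
    intro q
    let α := (homologyFunctor (Sheaf J AddCommGrpCat.{u}) q).map lam
    have hcomp : ∀ n, α ≫ (homologyFunctor _ q).map (aL n) = (homologyFunctor _ q).map (aE n) := by
      intro n
      rw [← Functor.map_comp, hlam']
    haveI hmono : Mono α := by
      haveI : IsIso ((homologyFunctor _ q).map (aE (Int.toNat (-q)))) :=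
        isIso_homology_toTruncTower E _ q (by omega)
      haveI : Mono (α ≫ (homologyFunctor _ q).map (aL (Int.toNat (-q)))) := by
        rw [hcomp]; infer_instance
      exact mono_of_mono α ((homologyFunctor _ q).map (aL (Int.toNat (-q))))
    haveI hepi : Epi α := by
      rw [← CategoryTheory.Sheaf.isLocallySurjective_iff_epi']
      refine HomShf.isLocallySurjective_of_basis α.hom B hB ?_
      intro V hV σ
      obtain ⟨n₀, hn₀, hinj'⟩ := hinj L aL hL q V hV
      haveI hι : IsIso ((homologyFunctor _ q).map (aE n₀)) :=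
        isIso_homology_toTruncTower E n₀ q hn₀
      let β := (homologyFunctor (Sheaf J AddCommGrpCat.{u}) q).map (aL n₀)
      let ι := (homologyFunctor (Sheaf J AddCommGrpCat.{u}) q).map (aE n₀)
      let ρ := (inv ι).hom.app (op V) (β.hom.app (op V) σ)
      refine ⟨ρ, ?_⟩
      apply hinj'
      have h1 : β.hom.app (op V) (α.hom.app (op V) ρ) = ι.hom.app (op V) ρ := by
        have := congrArg (fun z => z.hom.app (op V) ρ) (hcomp n₀)
        exact this
      refine h1.trans ?_
      have h2 : (inv ι ≫ ι).hom.app (op V) (β.hom.app (op V) σ) = β.hom.app (op V) σ := by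
        rw [IsIso.inv_hom_id]
        rfl
      exact h2
    exact isIso_of_mono_of_epi α
  haveI := hiso
  refine ⟨c ≫ (inv lam)⟦(1 : ℤ)⟧', ?_⟩
  refine isomorphic_distinguished _ hTr _ ?_
  let elam : E ≅ L := asIso lam
  refine Triangle.isoMk _ _ elam (Iso.refl _) (Iso.refl _) ?_ ?_ ?_
  · show Pi.lift aE ≫ 𝟙 _ = lam ≫ u
    rw [Category.comp_id]
    exact hlam
  · show dmap K tt ≫ 𝟙 _ = 𝟙 _ ≫ dmap K tt
    rw [Category.comp_id, Category.id_comp]
  · show (c ≫ (inv lam)⟦(1 : ℤ)⟧') ≫ lam⟦(1 : ℤ)⟧' = 𝟙 _ ≫ c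
    rw [Category.assoc, ← Functor.map_comp, IsIso.inv_hom_id, CategoryTheory.Functor.map_id,
      Category.comp_id, Category.id_comp]

end Main

section Main2
variable [HasProduct (CohCx.truncTower E)]

/-- variant: it suffices to know that any `α : H^q(E) ⟶ H^q(L)` compatible with the projections is an
epimorphism -/
theorem isRlimVia_of_epi
    (hepi : ∀ (L : DerivedCategory (Sheaf J AddCommGrpCat.{u}))
      (a : ∀ n, L ⟶ CohCx.truncTower E n)
      (_ : CohCx.IsRlimVia (CohCx.truncTower E) (CohCx.truncTowerMap E) L a) (q : ℤ)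
      (α : (homologyFunctor _ q).obj E ⟶ (homologyFunctor _ q).obj L)
      (_ : ∀ n, α ≫ (homologyFunctor _ q).map (a n) =
        (homologyFunctor _ q).map (CohCx.toTruncTower E n)), Epi α) :
    CohCx.IsRlimVia (CohCx.truncTower E) (CohCx.truncTowerMap E) E (CohCx.toTruncTower E) := by
  let K := CohCx.truncTower E
  let tt := CohCx.truncTowerMap E
  let aE := CohCx.toTruncTower E
  obtain ⟨L, u, c, hTr⟩ := distinguished_cocone_triangle₁ (dmap K tt)
  let aL : ∀ n, L ⟶ K n := fun n => u ≫ Pi.π K n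
  have hu : u = Pi.lift aL := by
    apply Limits.Pi.hom_ext
    intro n
    rw [Pi.lift_π]
  have hL : CohCx.IsRlimVia K tt L aL := ⟨c, by rw [← hu]; exact hTr⟩
  have h0 : Pi.lift aE ≫ dmap K tt = 0 := by
    apply Limits.Pi.hom_ext
    intro n
    rw [Category.assoc, Pi.lift_π, Preadditive.comp_sub, Pi.lift_π, Pi.lift_π_assoc, zero_comp]
    exact sub_eq_zero.2 (toTruncTower_comp E n).symm
  obtain ⟨lam₀, hlam₀⟩ := Triangle.coyoneda_exact₂ _ hTr (Pi.lift aE) h0
  let lam : E ⟶ L := lam₀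
  have hlam : Pi.lift aE = lam ≫ u := hlam₀
  have hlam' : ∀ n, lam ≫ aL n = aE n := by
    intro n
    have h1 : Pi.lift aE = lam ≫ u := hlam
    show lam ≫ u ≫ Pi.π K n = aE n
    rw [← Category.assoc, ← h1, Pi.lift_π]
  have hiso : IsIso lam := by
    rw [isIso_iff]
    intro q
    let α := (homologyFunctor (Sheaf J AddCommGrpCat.{u}) q).map lam
    have hcomp : ∀ n, α ≫ (homologyFunctor _ q).map (aL n) = (homologyFunctor _ q).map (aE n) := by
      intro n
      rw [← Functor.map_comp, hlam']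
    haveI hmono : Mono α := by
      haveI : IsIso ((homologyFunctor _ q).map (aE (Int.toNat (-q)))) :=
        isIso_homology_toTruncTower E _ q (by omega)
      haveI : Mono (α ≫ (homologyFunctor _ q).map (aL (Int.toNat (-q)))) := by
        rw [hcomp]; infer_instance
      exact mono_of_mono α ((homologyFunctor _ q).map (aL (Int.toNat (-q))))
    haveI : Epi α := hepi L aL hL q α hcomp
    exact isIso_of_mono_of_epi α
  haveI := hiso
  refine ⟨c ≫ (inv lam)⟦(1 : ℤ)⟧', ?_⟩
  refine isomorphic_distinguished _ hTr _ ?_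
  let elam : E ≅ L := asIso lam
  refine Triangle.isoMk _ _ elam (Iso.refl _) (Iso.refl _) ?_ ?_ ?_
  · show Pi.lift aE ≫ 𝟙 _ = lam ≫ u
    rw [Category.comp_id]
    exact hlam
  · show dmap K tt ≫ 𝟙 _ = 𝟙 _ ≫ dmap K tt
    rw [Category.comp_id, Category.id_comp]
  · show (c ≫ (inv lam)⟦(1 : ℤ)⟧') ≫ lam⟦(1 : ℤ)⟧' = 𝟙 _ ≫ c
    rw [Category.assoc, ← Functor.map_comp, IsIso.inv_hom_id, CategoryTheory.Functor.map_id,
      Category.comp_id, Category.id_comp]

end Main2

end Groth.Agent.Lib.Helper53.TruncTowerSite
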