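import Groth.Agent.Lib.Helper53.AcycBij
import Groth.Agent.Lib.Helper53.DerLocSite
import Groth.Agent.Lib.Helper53.RlimMilnor
import Groth.Agent.Lib.Helper53.TruncTower
import Groth.Agent.S0881
import Groth.Agent.S0478
import Groth.Prelude.Def_CohSite

/-!
# `H^q(U, K) ≃ H^q(K)(U)` for `U` in a class of objects on which the cohomology sheaves of `K` are
acyclic (helper53)
-/

set_option autoImplicit false
universe u
open CategoryTheory Limits Pretriangulated Opposite

namespace Groth.Agent.Lib.Helper53.AcycSite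

open DerivedCategory Groth.Agent.Lib.Helper53.DerLoc Groth.Agent.Lib.Helper53.TruncTower
  Groth.Agent.Lib.Helper53.AcycBij Groth.Agent.Lib.Helper53.DerLocSite
  Groth.Agent.Lib.Helper53.SiteCoh Groth.Agent.Lib.Helper53.RlimMilnor

variable {C : Type u} [SmallCategory C] {J : GrothendieckTopology C}
  [HasDerivedCategory.{u} (Sheaf J AddCommGrpCat.{u})]

/-- countable products exist in the derived category of abelian sheaves on a small site -/
lemma hasProduct_nat (K : ℕ → DerivedCategory (Sheaf J AddCommGrpCat.{u})) : HasProduct K := by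
  haveI : HasProducts.{u} (DerivedCategory (Sheaf J AddCommGrpCat.{u})) := Groth.Agent.S0478.result
  haveI : HasProducts.{0} (DerivedCategory (Sheaf J AddCommGrpCat.{u})) :=
    has_smallest_products_of_hasProducts
  infer_instance

lemma P_of_vanishing (U : C) (F : Sheaf J AddCommGrpCat.{u})
    (h : ∀ p : ℕ, Subsingleton (CohSite.HU F (p + 1) U)) : P (freeSh J U) F := by
  intro k
  apply subsingleton_hom_single_shift_zero.{u}
  intro k' hk'
  obtain rfl : k' = k + 1 := by omega
  exact h k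

variable (K : DerivedCategory (Sheaf J AddCommGrpCat.{u}))

lemma acyc_truncTower (U : C)
    (h : ∀ (p : ℕ) (q : ℤ), Subsingleton (CohSite.HU (CohCx.HD K q) (p + 1) U)) (n : ℕ) :
    Acyc (freeSh J U) (CohCx.truncTower K n) := by
  intro i
  by_cases hi : -(n : ℤ) ≤ i
  · haveI := isIso_homology_toTruncTower K n i hi
    exact P_of_iso (asIso ((homologyFunctor _ i).map (CohCx.toTruncTower K n)))
      (P_of_vanishing U _ (fun p => h p i))
  · exact P_of_isZero (isZero_homology_truncTower K n i (by omega))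

lemma kU_bijective_truncTower (U : C)
    (h : ∀ (p : ℕ) (q : ℤ), Subsingleton (CohSite.HU (CohCx.HD K q) (p + 1) U)) (n : ℕ) (m : ℤ) :
    Function.Bijective (kU (CohCx.truncTower K n) m U) := by
  haveI : (CohCx.truncTower K n).IsGE (-(n : ℤ)) := by
    dsimp only [CohCx.truncTower]; infer_instance
  have h1 := kappaS_bijective (freeSh J U) (CohCx.truncTower K n) (-(n : ℤ))
    (acyc_truncTower K U h n) m
  exact (shSecEquiv J U _).bijective.comp h1

lemma app_injective_of_isIso {F G : Sheaf J AddCommGrpCat.{u}} (f : F ⟶ G) [IsIso f] (U : C) :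
    Function.Injective (f.hom.app (op U)) := by
  intro x y hxy
  have h : ∀ z, (inv f).hom.app (op U) (f.hom.app (op U) z) = z := by
    intro z
    have : (f ≫ inv f).hom.app (op U) z = z := by rw [IsIso.hom_inv_id]; rfl
    exact this
  rw [← h x, ← h y, hxy]

lemma app_inv_apply {F G : Sheaf J AddCommGrpCat.{u}} (f : F ⟶ G) [IsIso f] (U : C)
    (z : G.obj.obj (op U)) : f.hom.app (op U) ((inv f).hom.app (op U) z) = z := by
  have : (inv f ≫ f).hom.app (op U) z = z := by rw [IsIso.inv_hom_id]; rfl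
  exact this

lemma rightComp_surjective_of_isIso {K K' : DerivedCategory (Sheaf J AddCommGrpCat.{u})}
    (g : K ⟶ K') (m : ℤ) (U : C) [IsIso ((homologyFunctor _ m).map g)]
    (h1 : Function.Surjective (kU K m U)) (h2 : Function.Injective (kU K' m U)) :
    Function.Surjective (fun φ : CohCx.HDU K m U => φ ≫ g⟦m⟧') := by
  intro χ
  obtain ⟨φ, hφ⟩ := h1 ((inv ((homologyFunctor _ m).map g)).hom.app (op U) (kU K' m U χ))
  refine ⟨φ, h2 ?_⟩
  show kU K' m U (φ ≫ g⟦m⟧') = kU K' m U χ
  rw [kU_comp_right, hφ, app_inv_apply]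

/-- the canonical additive map `H^q(U, K) → H^q(K)(U)` -/
noncomputable def kUHom (q : ℤ) (U : C) : CohCx.HDU K q U →+ (CohCx.HD K q).obj.obj (op U) :=
  AddMonoidHom.mk' (kU K q U) (kU_add K q U)

theorem isRlimVia_truncTower [HasProduct (CohCx.truncTower K)] (B : Set C)
    (hB : ∀ U : C, ∃ (ι : Type u) (Y : ι → C) (f : ∀ i, Y i ⟶ U),
      Sieve.ofArrows Y f ∈ J U ∧ ∀ i, Y i ∈ B)
    (h : ∀ U ∈ B, ∀ (p : ℕ) (q : ℤ), Subsingleton (CohSite.HU (CohCx.HD K q) (p + 1) U)) :
    CohCx.IsRlimVia (CohCx.truncTower K) (CohCx.truncTowerMap K) K (CohCx.toTruncTower K) := by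
  refine Groth.Agent.S0881.result K B hB ?_
  intro V hV
  refine ⟨fun _ => 0, fun T hT => ?_⟩
  choose ι Y f hcov hYB using hB
  refine ⟨Σ (W : C), {g : W ⟶ V // T g} × ι W, fun i => Y i.1 i.2.2,
    fun i => f i.1 i.2.2 ≫ i.2.1.1, ?_, ?_, ?_⟩
  · intro i
    exact T.downward_closed i.2.1.2 _
  · refine J.transitive hT _ ?_
    intro W g hg
    refine J.superset_covering ?_ (hcov W)
    rintro Z k ⟨Z', a, b, hb, rfl⟩
    obtain ⟨i⟩ := hb
    exact ⟨_, a, _, Presieve.ofArrows.mk
      (⟨W, ⟨g, hg⟩, i⟩ : Σ (W : C), {g : W ⟶ V // T g} × ι W), by simp⟩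
  · intro i m k hk
    have hk0 : (0 : ℤ) < k := hk
    obtain ⟨k', rfl⟩ : ∃ k', k = k' + 1 := ⟨k - 1, by omega⟩
    exact h _ (hYB i.1 i.2.2) k' _

theorem kU_bijective (B : Set C)
    (hB : ∀ U : C, ∃ (ι : Type u) (Y : ι → C) (f : ∀ i, Y i ⟶ U),
      Sieve.ofArrows Y f ∈ J U ∧ ∀ i, Y i ∈ B)
    (h : ∀ U ∈ B, ∀ (p : ℕ) (q : ℤ), Subsingleton (CohSite.HU (CohCx.HD K q) (p + 1) U))
    (U : C) (hU : U ∈ B) (q : ℤ) : Function.Bijective (kU K q U) := by
  haveI := hasProduct_nat (CohCx.truncTower K)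
  have hL := isRlimVia_truncTower K B hB h
  have hbij := fun n m => kU_bijective_truncTower K U (h U hU) n m
  constructor
  · -- injectivity
    suffices hker : ∀ γ, kU K q U γ = 0 → γ = 0 by
      exact (injective_iff_map_eq_zero (kUHom K q U)).2 hker
    intro γ hγ
    have hall : ∀ n, γ ≫ (CohCx.toTruncTower K n)⟦q⟧' = 0 := by
      intro n
      apply (hbij n q).1
      rw [kU_comp_right, hγ, map_zero, kU_zero]
    refine milnor_inj _ _ K _ hL _ (q - 1) q (by omega) γ hall ?_
    refine limOne_of_eventually_surjective (Int.toNat (-(q - 1)))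
      (fun n => CohCx.HDU (CohCx.truncTower K n) (q - 1) U)
      (fun n => Preadditive.rightComp _ ((shiftFunctor _ (q - 1)).map (CohCx.truncTowerMap K n))) ?_
    intro n hn
    haveI := isIso_homology_truncTowerMap K n (q - 1) (by omega)
    exact rightComp_surjective_of_isIso (CohCx.truncTowerMap K n) (q - 1) U
      (hbij (n + 1) (q - 1)).2 (hbij n (q - 1)).1
  · -- surjectivity
    intro σ
    have hβ : ∀ n, ∃ β : CohCx.HDU (CohCx.truncTower K n) q U,
        kU (CohCx.truncTower K n) q U β =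
          ((homologyFunctor _ q).map (CohCx.toTruncTower K n)).hom.app (op U) σ :=
      fun n => (hbij n q).2 _
    choose β hβ using hβ
    have hcompat : ∀ n, β (n + 1) ≫ (CohCx.truncTowerMap K n)⟦q⟧' = β n := by
      intro n
      apply (hbij n q).1
      rw [kU_comp_right, hβ, hβ, ← toTruncTower_comp K n, Functor.map_comp]
      rfl
    obtain ⟨γ, hγ⟩ := milnor_surj _ _ K _ hL _ q β hcompat
    refine ⟨γ, ?_⟩
    haveI := isIso_homology_toTruncTower K (Int.toNat (-q)) q (by omega)
    apply app_injective_of_isIso ((homologyFunctor _ q).map (CohCx.toTruncTower K (Int.toNat (-q)))) U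
    rw [← kU_comp_right, hγ, hβ]

end Groth.Agent.Lib.Helper53.AcycSite
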