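import Groth.Agent.Lib.Helper62.WSerreEquiv

/-!
# The derived unit on `single (G₀ F)` for an underived adjunction `L₀ ⊣ G₀` with invertible counit
(helper53)
-/

set_option autoImplicit false
universe w w' v v' u u'
open CategoryTheory Limits

namespace Groth.Agent.Lib.Helper53.AdjSingle

open DerivedCategory

section Underived

variable {𝒜 : Type u} [Category.{v} 𝒜] {ℬ : Type u'} [Category.{v'} ℬ]
  {L₀ : 𝒜 ⥤ ℬ} {G₀ : ℬ ⥤ 𝒜} (adj₀ : L₀ ⊣ G₀)

/-- `L₀` is bijective on morphisms into `G₀ F` when the counit at `F` is invertible -/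
lemma bijective_map (T : 𝒜) (F : ℬ) [IsIso (adj₀.counit.app F)] :
    Function.Bijective (fun φ : T ⟶ G₀.obj F => L₀.map φ) := by
  have h1 : Function.Bijective (fun φ : T ⟶ G₀.obj F => L₀.map φ ≫ adj₀.counit.app F) := by
    have : (fun φ : T ⟶ G₀.obj F => L₀.map φ ≫ adj₀.counit.app F) =
        (adj₀.homEquiv T F).symm := by
      funext φ
      rw [Adjunction.homEquiv_counit]
    rw [this]
    exact (adj₀.homEquiv T F).symm.bijective
  constructor
  · intro φ ψ h
    apply h1.1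
    show L₀.map φ ≫ _ = L₀.map ψ ≫ _
    have h' : L₀.map φ = L₀.map ψ := h
    rw [h']
  · intro y
    obtain ⟨φ, hφ⟩ := h1.2 (y ≫ adj₀.counit.app F)
    refine ⟨φ, ?_⟩
    exact (cancel_mono (adj₀.counit.app F)).1 hφ

/-- `L₀` is bijective on morphisms into an object isomorphic to `G₀ F` -/
lemma bijective_map_of_iso (T N : 𝒜) (F : ℬ) [IsIso (adj₀.counit.app F)] (e : G₀.obj F ≅ N) :
    Function.Bijective (fun φ : T ⟶ N => L₀.map φ) := by
  have h1 := bijective_map adj₀ T F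
  constructor
  · intro φ ψ h
    have h' : L₀.map φ = L₀.map ψ := h
    have : φ ≫ e.inv = ψ ≫ e.inv := by
      apply h1.1
      show L₀.map (φ ≫ e.inv) = L₀.map (ψ ≫ e.inv)
      rw [Functor.map_comp, Functor.map_comp, h']
    exact (cancel_mono e.inv).1 this
  · intro y
    obtain ⟨φ, hφ⟩ := h1.2 (y ≫ L₀.map e.inv)
    refine ⟨φ ≫ e.hom, ?_⟩
    show L₀.map (φ ≫ e.hom) = y
    have hφ' : L₀.map φ = y ≫ L₀.map e.inv := hφ
    rw [Functor.map_comp, hφ', Category.assoc, ← Functor.map_comp, e.inv_hom_id,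
      CategoryTheory.Functor.map_id, Category.comp_id]

/-- the unit at `G₀ F` is invertible when the counit at `F` is -/
lemma isIso_unit_app (F : ℬ) [IsIso (adj₀.counit.app F)] : IsIso (adj₀.unit.app (G₀.obj F)) := by
  have h := adj₀.right_triangle_components F
  have h1 : IsIso (G₀.map (adj₀.counit.app F)) := inferInstance
  have h' : IsIso (adj₀.unit.app (G₀.obj F) ≫ G₀.map (adj₀.counit.app F)) := by
    rw [h]
    exact IsIso.id _
  exact IsIso.of_isIso_comp_right _ (G₀.map (adj₀.counit.app F))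

end Underived

section Derived

variable {𝒜 : Type u} [Category.{v} 𝒜] [Abelian 𝒜] [HasDerivedCategory.{w} 𝒜]
  {ℬ : Type u'} [Category.{v'} ℬ] [Abelian ℬ] [HasDerivedCategory.{w'} ℬ]
  {L₀ : 𝒜 ⥤ ℬ} [L₀.Additive] [PreservesFiniteLimits L₀] [PreservesFiniteColimits L₀]
  {G₀ : ℬ ⥤ 𝒜} (adj₀ : L₀ ⊣ G₀)
  {R : DerivedCategory ℬ ⥤ DerivedCategory 𝒜} (adj : L₀.mapDerivedCategory ⊣ R)

/-- the derived functor of `L₀` is bijective on `Hom(single T, single (G₀ F))` -/
lemma bijective_mapDerivedCategory_map (T : 𝒜) (F : ℬ) [IsIso (adj₀.counit.app F)] :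
    Function.Bijective (fun φ : (singleFunctor 𝒜 0).obj T ⟶ (singleFunctor 𝒜 0).obj (G₀.obj F) =>
      L₀.mapDerivedCategory.map φ) := by
  let ι := L₀.mapDerivedCategorySingleFunctor 0
  have h1 := bijective_map adj₀ T F
  have hnat : ∀ φ₀ : T ⟶ G₀.obj F, L₀.mapDerivedCategory.map ((singleFunctor 𝒜 0).map φ₀) =
      ι.hom.app T ≫ (singleFunctor ℬ 0).map (L₀.map φ₀) ≫ ι.inv.app (G₀.obj F) := by
    intro φ₀
    have := ι.hom.naturality φ₀
    simp only [Functor.comp_map] at this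
    rw [← Category.assoc, ← this, Category.assoc, Iso.hom_inv_id_app, Category.comp_id]
  constructor
  · intro φ ψ h
    obtain ⟨φ₀, rfl⟩ := (singleFunctor 𝒜 0).map_surjective φ
    obtain ⟨ψ₀, rfl⟩ := (singleFunctor 𝒜 0).map_surjective ψ
    have h' : L₀.mapDerivedCategory.map ((singleFunctor 𝒜 0).map φ₀) =
        L₀.mapDerivedCategory.map ((singleFunctor 𝒜 0).map ψ₀) := h
    rw [hnat, hnat] at h'
    have h2 := (cancel_epi (ι.hom.app T)).1 h'
    have h3 := (cancel_mono (ι.inv.app (G₀.obj F))).1 h2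
    have h4 := (singleFunctor ℬ 0).map_injective h3
    rw [h1.1 h4]
  · intro y
    obtain ⟨y₀, hy₀⟩ := (singleFunctor ℬ 0).map_surjective
      (ι.inv.app T ≫ y ≫ ι.hom.app (G₀.obj F))
    obtain ⟨φ₀, hφ₀⟩ := h1.2 y₀
    refine ⟨(singleFunctor 𝒜 0).map φ₀, ?_⟩
    show L₀.mapDerivedCategory.map ((singleFunctor 𝒜 0).map φ₀) = y
    have hφ₀' : L₀.map φ₀ = y₀ := hφ₀
    rw [hnat, hφ₀', hy₀]
    simp

include adj in
/-- postcomposition with the derived unit is bijective on `Hom(single T, single (G₀ F))` -/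
lemma bijective_comp_unit (T : 𝒜) (F : ℬ) [IsIso (adj₀.counit.app F)] :
    Function.Bijective (fun φ : (singleFunctor 𝒜 0).obj T ⟶ (singleFunctor 𝒜 0).obj (G₀.obj F) =>
      φ ≫ adj.unit.app ((singleFunctor 𝒜 0).obj (G₀.obj F))) := by
  have h1 := bijective_mapDerivedCategory_map adj₀ T F
  have : (fun φ : (singleFunctor 𝒜 0).obj T ⟶ (singleFunctor 𝒜 0).obj (G₀.obj F) =>
      φ ≫ adj.unit.app ((singleFunctor 𝒜 0).obj (G₀.obj F))) =
      (adj.homEquiv _ _) ∘ (fun φ => L₀.mapDerivedCategory.map φ) := by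
    funext φ
    show _ = adj.homEquiv _ _ (L₀.mapDerivedCategory.map φ)
    rw [Adjunction.homEquiv_unit]
    exact adj.unit.naturality φ
  rw [this]
  exact (adj.homEquiv _ _).bijective.comp h1

include adj₀ in
/-- the derived unit at `single (G₀ F)` is invertible as soon as the higher cohomology of the
target vanishes -/
theorem isIso_unit_single (F : ℬ) [IsIso (adj₀.counit.app F)]
    (hv : ∀ p : ℤ, 0 < p → IsZero ((homologyFunctor 𝒜 p).obj
      (R.obj (L₀.mapDerivedCategory.obj ((singleFunctor 𝒜 0).obj (G₀.obj F)))))) :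
    IsIso (adj.unit.app ((singleFunctor 𝒜 0).obj (G₀.obj F))) := by
  let _ : R.CommShift ℤ := adj.rightAdjointCommShift ℤ
  have : adj.CommShift ℤ := adj.commShift_of_leftAdjoint ℤ
  have : R.IsTriangulated := adj.isTriangulated_rightAdjoint
  let X := (singleFunctor 𝒜 0).obj (G₀.obj F)
  let Z := R.obj (L₀.mapDerivedCategory.obj X)
  haveI : X.IsGE 0 := by
    show ((singleFunctor 𝒜 0).obj (G₀.obj F)).IsGE 0
    infer_instance
  haveI : (L₀.mapDerivedCategory.obj X).IsGE 0 :=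
    Groth.Agent.Lib.Helper62.WSE.isGE_mapDerivedCategory L₀ X 0
  haveI : Z.IsGE 0 := Groth.Agent.Lib.Helper62.WSE.isGE_rightAdjoint adj _ 0
  haveI : Z.IsLE 0 := by
    rw [isLE_iff]
    intro i hi
    exact hv i hi
  obtain ⟨M, ⟨θ⟩⟩ := exists_iso_singleFunctor_obj_of_isGE_of_isLE Z 0
  obtain ⟨ψ, hψ⟩ := (singleFunctor 𝒜 0).map_surjective (adj.unit.app X ≫ θ.hom)
  have hψiso : IsIso ψ := by
    apply isIso_of_yoneda_map_bijective
    intro T
    have hb := bijective_comp_unit adj₀ adj T F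
    have hθ : Function.Bijective (fun x : (singleFunctor 𝒜 0).obj T ⟶ Z => x ≫ θ.hom) :=
      ⟨fun a b h => (cancel_mono θ.hom).1 h, fun y => ⟨y ≫ θ.inv, by simp⟩⟩
    have hcomp := hθ.comp hb
    constructor
    · intro a b hab
      have hab' : a ≫ ψ = b ≫ ψ := hab
      apply (singleFunctor 𝒜 0).map_injective
      apply hcomp.1
      show ((singleFunctor 𝒜 0).map a ≫ adj.unit.app X) ≫ θ.hom =
        ((singleFunctor 𝒜 0).map b ≫ adj.unit.app X) ≫ θ.hom
      rw [Category.assoc, Category.assoc, ← hψ, ← Functor.map_comp, ← Functor.map_comp, hab']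
    · intro y
      obtain ⟨x, hx⟩ := hcomp.2 ((singleFunctor 𝒜 0).map y)
      obtain ⟨x₀, rfl⟩ := (singleFunctor 𝒜 0).map_surjective x
      refine ⟨x₀, ?_⟩
      apply (singleFunctor 𝒜 0).map_injective
      have hx' : ((singleFunctor 𝒜 0).map x₀ ≫ adj.unit.app X) ≫ θ.hom =
          (singleFunctor 𝒜 0).map y := hx
      show (singleFunctor 𝒜 0).map (x₀ ≫ ψ) = _
      rw [Functor.map_comp, hψ, ← Category.assoc]
      exact hx'
  have h2 : IsIso (adj.unit.app X ≫ θ.hom) := by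
    rw [← hψ]
    infer_instance
  exact IsIso.of_isIso_comp_right (adj.unit.app X) θ.hom

end Derived

end Groth.Agent.Lib.Helper53.AdjSingle
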