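import Groth.Agent.S0997
import Groth.Agent.S9498

/-!
# Homotopy classes vs derived morphisms on `Spec R`: the tilde case (helper53, for S14112)
-/

set_option autoImplicit false
universe u
open CategoryTheory CategoryTheory.Limits AlgebraicGeometry
attribute [local instance] HasDerivedCategory.standard

namespace Groth.Agent.Lib.Helper53.AffKSpec

/-- transport of bijectivity of `Qh.map` along isomorphisms of complexes -/
theorem bijective_Qh_of_iso {A : Type (u + 1)} [Category.{u} A] [Abelian A]
    {E E' F F' : CochainComplex A ℤ} (eE : E ≅ E') (eF : F ≅ F')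
    (h : Function.Bijective (fun φ : (HomotopyCategory.quotient A (ComplexShape.up ℤ)).obj E' ⟶
        (HomotopyCategory.quotient A (ComplexShape.up ℤ)).obj F' =>
      (DerivedCategory.Qh (C := A)).map φ)) :
    Function.Bijective (fun φ : (HomotopyCategory.quotient A (ComplexShape.up ℤ)).obj E ⟶
        (HomotopyCategory.quotient A (ComplexShape.up ℤ)).obj F =>
      (DerivedCategory.Qh (C := A)).map φ) := by
  have hcomp : (fun φ : (HomotopyCategory.quotient A (ComplexShape.up ℤ)).obj E ⟶
        (HomotopyCategory.quotient A (ComplexShape.up ℤ)).obj F =>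
      (DerivedCategory.Qh (C := A)).map φ) =
      fun φ => (((DerivedCategory.Qh (C := A)).mapIso
          ((HomotopyCategory.quotient A (ComplexShape.up ℤ)).mapIso eE)).homCongr
        ((DerivedCategory.Qh (C := A)).mapIso
          ((HomotopyCategory.quotient A (ComplexShape.up ℤ)).mapIso eF))).symm
        ((DerivedCategory.Qh (C := A)).map
          ((((HomotopyCategory.quotient A (ComplexShape.up ℤ)).mapIso eE).homCongr
            ((HomotopyCategory.quotient A (ComplexShape.up ℤ)).mapIso eF)) φ)) := by
    funext φ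
    simp [Iso.homCongr]
  rw [hcomp]
  exact (Equiv.bijective _).comp (h.comp (Equiv.bijective _))

/-- the tilde case: `P` K-projective complex of `R`-modules, `M` any complex of `R`-modules -/
theorem tilde_case (R : CommRingCat.{u}) (P M : CochainComplex (ModuleCat.{u} R) ℤ)
    [P.IsKProjective] :
    Function.Bijective (fun φ : (HomotopyCategory.quotient (Spec R).Modules (ComplexShape.up ℤ)).obj
        (((tilde.functor R).mapHomologicalComplex (ComplexShape.up ℤ)).obj P) ⟶
        (HomotopyCategory.quotient (Spec R).Modules (ComplexShape.up ℤ)).obj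
        (((tilde.functor R).mapHomologicalComplex (ComplexShape.up ℤ)).obj M) =>
      (DerivedCategory.Qh (C := (Spec R).Modules)).map φ) := by
  haveI : PreservesFiniteLimits (tilde.functor R) := (Groth.Agent.S9498.key R).1
  haveI : PreservesFiniteColimits (tilde.functor R) := (Groth.Agent.S9498.key R).2
  obtain ⟨hfull, hfaith, -⟩ := Groth.Agent.S0997.result R
  let T := tilde.functor R
  let TK := T.mapHomotopyCategory (ComplexShape.up ℤ)
  let TD := T.mapDerivedCategory
  let ι : DerivedCategory.Qh ⋙ TD ≅ TK ⋙ DerivedCategory.Qh := T.mapDerivedCategoryFactorsh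
  let qR := HomotopyCategory.quotient (ModuleCat.{u} R) (ComplexShape.up ℤ)
  -- the three bijections
  have h1 : Function.Bijective (fun φ : qR.obj P ⟶ qR.obj M =>
      (DerivedCategory.Qh (C := ModuleCat.{u} R)).map φ) :=
    CochainComplex.IsKProjective.Qh_map_bijective P (qR.obj M)
  have h2 : Function.Bijective (fun ψ : DerivedCategory.Qh.obj (qR.obj P) ⟶
      DerivedCategory.Qh.obj (qR.obj M) => TD.map ψ) :=
    ⟨fun a b hab => hfaith.map_injective hab, fun c => hfull.map_surjective c⟩
  have h3 : Function.Bijective (fun φ : qR.obj P ⟶ qR.obj M => TK.map φ) :=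
    ⟨fun a b hab => TK.map_injective hab, fun c => TK.map_surjective c⟩
  -- naturality
  have hnat : ∀ φ : qR.obj P ⟶ qR.obj M,
      (DerivedCategory.Qh (C := (Spec R).Modules)).map (TK.map φ) =
        ι.inv.app (qR.obj P) ≫ TD.map (DerivedCategory.Qh.map φ) ≫ ι.hom.app (qR.obj M) := by
    intro φ
    have := ι.hom.naturality φ
    simp only [Functor.comp_map] at this
    rw [this, ← Category.assoc, Iso.inv_hom_id_app]
    exact (Category.id_comp _).symm
  -- conclude
  have h4 : Function.Bijective (fun φ : qR.obj P ⟶ qR.obj M =>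
      (DerivedCategory.Qh (C := (Spec R).Modules)).map (TK.map φ)) := by
    have hc : (fun φ : qR.obj P ⟶ qR.obj M =>
        (DerivedCategory.Qh (C := (Spec R).Modules)).map (TK.map φ)) =
        fun φ => ((ι.app (qR.obj P)).homCongr (ι.app (qR.obj M)))
          (TD.map (DerivedCategory.Qh.map φ)) := by
      funext φ
      rw [hnat φ]
      simp [Iso.homCongr]
    rw [hc]
    exact (Equiv.bijective _).comp (h2.comp h1)
  exact (Function.Bijective.of_comp_iff (fun χ : TK.obj (qR.obj P) ⟶ TK.obj (qR.obj M) =>
    (DerivedCategory.Qh (C := (Spec R).Modules)).map χ) h3).1 h4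

instance additive_Γ (R : CommRingCat.{u}) : (moduleSpecΓFunctor (R := R)).Additive :=
  (tilde.adjunction (R := R)).right_adjoint_additive

/-- a complex of quasi-coherent modules on `Spec R` is the tilde of its complex of sections -/
theorem nonempty_tilde_Γ_iso (R : CommRingCat.{u}) (F : CochainComplex (Spec R).Modules ℤ)
    (hF : ∀ i : ℤ, Coh.IsQCoh (F.X i)) :
    Nonempty (((tilde.functor R).mapHomologicalComplex (ComplexShape.up ℤ)).obj
      (((moduleSpecΓFunctor (R := R)).mapHomologicalComplex (ComplexShape.up ℤ)).obj F) ≅ F) := by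
  have hiso : ∀ i, IsIso ((tilde.adjunction (R := R)).counit.app (F.X i)) := fun i =>
    @Scheme.Modules.isIso_fromTildeΓ_of_isQuasicoherent R (F.X i) (hF i)
  refine ⟨HomologicalComplex.Hom.isoOfComponents
    (fun i => @asIso _ _ _ _ ((tilde.adjunction (R := R)).counit.app (F.X i)) (hiso i)) ?_⟩
  intro i j _
  exact ((tilde.adjunction (R := R)).counit.naturality (F.d i j)).symm

/-- the case of `Spec R` -/
theorem spec_case (R : CommRingCat.{u}) (E F : CochainComplex (Spec R).Modules ℤ) (b : ℤ)
    (hEb : ∀ i : ℤ, b < i → IsZero (E.X i)) (hEq : ∀ i : ℤ, Coh.IsQCoh (E.X i))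
    (hEp : ∀ i : ℤ, Projective (moduleSpecΓFunctor.obj (E.X i)))
    (hF : ∀ i : ℤ, Coh.IsQCoh (F.X i)) :
    Function.Bijective (fun φ : (HomotopyCategory.quotient (Spec R).Modules (ComplexShape.up ℤ)).obj E ⟶
        (HomotopyCategory.quotient (Spec R).Modules (ComplexShape.up ℤ)).obj F =>
      (DerivedCategory.Qh (C := (Spec R).Modules)).map φ) := by
  obtain ⟨eE⟩ := nonempty_tilde_Γ_iso R E hEq
  obtain ⟨eF⟩ := nonempty_tilde_Γ_iso R F hF
  let P : CochainComplex (ModuleCat.{u} R) ℤ :=
    ((moduleSpecΓFunctor (R := R)).mapHomologicalComplex (ComplexShape.up ℤ)).obj E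
  haveI : ∀ n : ℤ, Projective (P.X n) := fun n => hEp n
  haveI : P.IsStrictlyLE b := by
    rw [CochainComplex.isStrictlyLE_iff]
    intro i hi
    exact (moduleSpecΓFunctor (R := R)).map_isZero (hEb i hi)
  haveI : P.IsKProjective := CochainComplex.isKProjective_of_projective P b
  exact bijective_Qh_of_iso eE.symm eF.symm (tilde_case R P _)

end Groth.Agent.Lib.Helper53.AffKSpec
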