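import Groth.Agent.Lib.Helper53.AcycBij

/-!
# Vanishing of `Hom(T[0], N[j])` for bounded `N` whose cohomology has `Hom(T,-)`-dimension `≤ d`
(helper53)
-/

set_option autoImplicit false
universe w v u
open CategoryTheory Limits Pretriangulated Opposite

namespace Groth.Agent.Lib.Helper53.CdBound

open DerivedCategory Groth.Agent.Lib.Helper53.DerLoc Groth.Agent.Lib.Helper53.TruncTower
  Groth.Agent.Lib.Helper53.AcycBij

variable {𝒜 : Type u} [Category.{v} 𝒜] [Abelian 𝒜] [HasDerivedCategory.{w} 𝒜]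

/-- `Ext^k(T, Y) = 0` for `k > d`, in terms of the derived category -/
def Pd (d : ℕ) (T Y : 𝒜) : Prop :=
  ∀ k : ℕ, Subsingleton
    ((singleFunctor 𝒜 0).obj T ⟶ ((singleFunctor 𝒜 0).obj Y)⟦(k : ℤ) + d + 1⟧)

lemma Pd_of_iso {d : ℕ} {T Y Y' : 𝒜} (e : Y ≅ Y') (h : Pd d T Y) : Pd d T Y' := by
  intro k
  haveI := h k
  refine ⟨fun x y => ?_⟩
  let ε := (shiftFunctor (DerivedCategory 𝒜) ((k : ℤ) + d + 1)).mapIso
    ((singleFunctor 𝒜 0).mapIso e)
  have : x ≫ ε.inv = y ≫ ε.inv := Subsingleton.elim _ _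
  exact (cancel_mono ε.inv).1 this

lemma Pd_of_isZero {d : ℕ} {T Y : 𝒜} (h : IsZero Y) : Pd d T Y := by
  intro k
  have h1 : IsZero ((singleFunctor 𝒜 0).obj Y) := Functor.map_isZero _ h
  have h2 : IsZero (((singleFunctor 𝒜 0).obj Y)⟦(k : ℤ) + d + 1⟧) := Functor.map_isZero _ h1
  exact ⟨fun x y => h2.eq_of_tgt _ _⟩

/-- all cohomology objects of `K` have `Hom(T,-)`-dimension `≤ d` -/
def Cd (d : ℕ) (T : 𝒜) (K : DerivedCategory 𝒜) : Prop :=
  ∀ i : ℤ, Pd d T ((homologyFunctor 𝒜 i).obj K)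

lemma cd_truncLE (d : ℕ) (T : 𝒜) (K : DerivedCategory 𝒜) (c : ℤ) (h : Cd d T K) :
    Cd d T ((TStructure.t.truncLE c).obj K) := by
  intro i
  by_cases hi : i ≤ c
  · have hTr := TStructure.t.triangleLEGE_distinguished c (c + 1) rfl K
    let K₃ : DerivedCategory 𝒜 := (TStructure.t.truncGE (c + 1)).obj K
    haveI : K₃.IsGE (c + 1) := by dsimp only [K₃]; infer_instance
    haveI : IsIso ((homologyFunctor 𝒜 i).map ((TStructure.t.truncLEι c).app K)) :=
      isIso_homologyMap_mor₁ _ hTr (i - 1) i (by omega)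
        (isZero_of_isGE K₃ (c + 1) (i - 1) (by omega)) (isZero_of_isGE K₃ (c + 1) i (by omega))
    exact Pd_of_iso (asIso ((homologyFunctor 𝒜 i).map ((TStructure.t.truncLEι c).app K))).symm (h i)
  · haveI : ((TStructure.t.truncLE c).obj K).IsLE c := inferInstance
    exact Pd_of_isZero (isZero_of_isLE _ c i (by omega))

lemma subsingleton_single (d : ℕ) (T Y : 𝒜) (hY : Pd d T Y) (b j : ℤ) (hj : b + d < j) :
    Subsingleton ((singleFunctor 𝒜 0).obj T ⟶ ((singleFunctor 𝒜 b).obj Y)⟦j⟧) := by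
  obtain ⟨k, hk⟩ : ∃ k : ℕ, j - b = (k : ℤ) + d + 1 := ⟨(j - b - d - 1).toNat, by omega⟩
  have h1 : Subsingleton ((singleFunctor 𝒜 0).obj T ⟶ ((singleFunctor 𝒜 0).obj Y)⟦j - b⟧) := by
    rw [hk]; exact hY k
  refine ⟨fun x y => ?_⟩
  have : x ≫ (singleShiftIso Y b j).hom = y ≫ (singleShiftIso Y b j).hom := Subsingleton.elim _ _
  exact (cancel_mono (singleShiftIso Y b j).hom).1 this

/-- vanishing of `Hom(T[0], N[j])` for `j > b + d` when `N ∈ D^{[a,b]}` has cohomology of
`Hom(T,-)`-dimension `≤ d` -/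
lemma subsingleton_of_bounded (d : ℕ) (T : 𝒜) : ∀ (n : ℕ) (N : DerivedCategory 𝒜) (a b : ℤ),
    b < a + n → N.IsGE a → N.IsLE b → Cd d T N → ∀ j : ℤ, b + d < j →
    Subsingleton ((singleFunctor 𝒜 0).obj T ⟶ N⟦j⟧)
  | 0, N, a, b, hab, hGE, hLE, _, j, _ => by
      have hz : IsZero N := TStructure.t.isZero N b a (by omega)
      exact subsingleton_of_isZero T N hz j
  | n + 1, N, a, b, hab, hGE, hLE, hN, j, hj => by
      by_cases hba : b < a
      · have hz : IsZero N := TStructure.t.isZero N b a (by omega)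
        exact subsingleton_of_isZero T N hz j
      · let N₁ : DerivedCategory 𝒜 := (TStructure.t.truncLE (b - 1)).obj N
        let N₃ : DerivedCategory 𝒜 := (TStructure.t.truncGE b).obj N
        have hTr := TStructure.t.triangleLEGE_distinguished (b - 1) b (by omega) N
        haveI : N₁.IsLE (b - 1) := by dsimp only [N₁]; infer_instance
        have hN₁ : Cd d T N₁ := cd_truncLE d T N (b - 1) hN
        haveI : N₃.IsGE b := by dsimp only [N₃]; infer_instance
        haveI : N₃.IsLE b := by dsimp only [N₃]; infer_instance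
        haveI hiso : ∀ i, i ≤ b - 1 →
            IsIso ((homologyFunctor 𝒜 i).map ((TStructure.t.truncLEι (b - 1)).app N)) := fun i hi =>
          isIso_homologyMap_mor₁ _ hTr (i - 1) i (by omega)
            (isZero_of_isGE N₃ b (i - 1) (by omega)) (isZero_of_isGE N₃ b i (by omega))
        haveI : N₁.IsGE a := by
          rw [isGE_iff]
          intro i hi
          haveI := hiso i (by omega)
          exact (isZero_of_isGE N a i hi).of_iso
            (asIso ((homologyFunctor 𝒜 i).map ((TStructure.t.truncLEι (b - 1)).app N)))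
        have h1 : Subsingleton ((singleFunctor 𝒜 0).obj T ⟶ N₁⟦j⟧) :=
          subsingleton_of_bounded d T n N₁ a (b - 1) (by push_cast at hab; omega) inferInstance
            inferInstance hN₁ j (by omega)
        obtain ⟨Y, ⟨e⟩⟩ := exists_iso_singleFunctor_obj_of_isGE_of_isLE N₃ b
        haveI hiso₂ : IsIso ((homologyFunctor 𝒜 b).map ((TStructure.t.truncGEπ b).app N)) :=
          isIso_homologyMap_mor₂ _ hTr b (b + 1) rfl
            (isZero_of_isLE N₁ (b - 1) b (by omega)) (isZero_of_isLE N₁ (b - 1) (b + 1) (by omega))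
        let iY : Y ≅ (homologyFunctor 𝒜 b).obj N :=
          ((singleFunctorCompHomologyFunctorIso 𝒜 b).app Y).symm ≪≫
            (homologyFunctor 𝒜 b).mapIso e.symm ≪≫
            (asIso ((homologyFunctor 𝒜 b).map ((TStructure.t.truncGEπ b).app N))).symm
        have hY : Pd d T Y := Pd_of_iso iY.symm (hN b)
        have h3 : Subsingleton ((singleFunctor 𝒜 0).obj T ⟶ N₃⟦j⟧) := by
          haveI := subsingleton_single d T Y hY b j hj
          refine ⟨fun x y => ?_⟩
          have : x ≫ e.hom⟦j⟧' = y ≫ e.hom⟦j⟧' := Subsingleton.elim _ _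
          exact (cancel_mono (e.hom⟦j⟧')).1 this
        refine ⟨fun x y => ?_⟩
        exact injective_of_subsingleton _ hTr _ j h1 (h3.elim _ _)

/-- `Hom(T[0], F[m]) = 0` for bounded below `F` of `Hom(T,-)`-dimension `≤ d` whose cohomology
vanishes in the range `[m - d, m]` -/
lemma subsingleton_hom_of_vanishing_range (d : ℕ) (T : 𝒜) (F : DerivedCategory 𝒜) (a : ℤ)
    [F.IsGE a] (hF : Cd d T F) (m : ℤ)
    (hz : ∀ q : ℤ, m - d ≤ q → q ≤ m → IsZero ((homologyFunctor 𝒜 q).obj F)) :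
    Subsingleton ((singleFunctor 𝒜 0).obj T ⟶ F⟦m⟧) := by
  let c : ℤ := m - d - 1
  let N₁ : DerivedCategory 𝒜 := (TStructure.t.truncLE c).obj F
  let N₃ : DerivedCategory 𝒜 := (TStructure.t.truncGE (c + 1)).obj F
  have hTr := TStructure.t.triangleLEGE_distinguished c (c + 1) rfl F
  haveI : N₁.IsLE c := by dsimp only [N₁]; infer_instance
  haveI : N₃.IsGE (c + 1) := by dsimp only [N₃]; infer_instance
  have hN₁ : Cd d T N₁ := cd_truncLE d T F c hF
  haveI hiso : ∀ i, i ≤ c →
      IsIso ((homologyFunctor 𝒜 i).map ((TStructure.t.truncLEι c).app F)) := fun i hi =>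
    isIso_homologyMap_mor₁ _ hTr (i - 1) i (by omega)
      (isZero_of_isGE N₃ (c + 1) (i - 1) (by omega)) (isZero_of_isGE N₃ (c + 1) i (by omega))
  haveI : N₁.IsGE a := by
    rw [isGE_iff]
    intro i hi
    by_cases hic : i ≤ c
    · haveI := hiso i hic
      exact (isZero_of_isGE F a i hi).of_iso
        (asIso ((homologyFunctor 𝒜 i).map ((TStructure.t.truncLEι c).app F)))
    · exact isZero_of_isLE N₁ c i (by omega)
  have h1 : Subsingleton ((singleFunctor 𝒜 0).obj T ⟶ N₁⟦m⟧) :=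
    subsingleton_of_bounded d T (c - a + 1).toNat N₁ a c (by omega) inferInstance inferInstance
      hN₁ m (by omega)
  -- `N₃` is `≥ m + 1`
  haveI : N₃.IsGE (m + 1) := by
    rw [isGE_iff]
    intro i hi
    by_cases hic : i ≤ c
    · exact isZero_of_isGE N₃ (c + 1) i (by omega)
    · haveI : IsIso ((homologyFunctor 𝒜 i).map ((TStructure.t.truncGEπ (c + 1)).app F)) :=
        isIso_homologyMap_mor₂ _ hTr i (i + 1) rfl
          (isZero_of_isLE N₁ c i (by omega)) (isZero_of_isLE N₁ c (i + 1) (by omega))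
      exact (hz i (by omega) (by omega)).of_iso
        (asIso ((homologyFunctor 𝒜 i).map ((TStructure.t.truncGEπ (c + 1)).app F))).symm
  have h3 : Subsingleton ((singleFunctor 𝒜 0).obj T ⟶ N₃⟦m⟧) := by
    haveI : (N₃⟦m⟧).IsGE 1 := TStructure.t.isGE_shift N₃ (m + 1) m 1 (by omega)
    haveI : ((singleFunctor 𝒜 0).obj T).IsLE 0 := inferInstance
    refine ⟨fun x y => ?_⟩
    rw [TStructure.t.zero x 0 1 (by omega), TStructure.t.zero y 0 1 (by omega)]
  refine ⟨fun x y => ?_⟩
  exact injective_of_subsingleton _ hTr _ m h1 (h3.elim _ _)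

end Groth.Agent.Lib.Helper53.CdBound
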