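import Groth.Agent.Lib.Helper53.Profinite
import Mathlib.Algebra.Homology.ShortComplex.ExactFunctor

/-!
# Direct image along a closed embedding is exact
-/

universe u

open CategoryTheory TopologicalSpace Opposite CategoryTheory.Limits Abelian

namespace Groth.Agent.Lib.Helper53

variable {X Y : TopCat.{u}}

/-- direct image along a closed embedding preserves epimorphisms of abelian sheaves -/
theorem push_map_epi_of_isClosedEmbedding (f : X ⟶ Y) (hf : Topology.IsClosedEmbedding f)
    {G H : CohTop.Ab X} (π : G ⟶ H) [Epi π] : Epi ((CohTop.push f).map π) := by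
  rw [← CategoryTheory.Sheaf.isLocallySurjective_iff_epi']
  change TopCat.Presheaf.IsLocallySurjective ((CohTop.push f).map π).hom
  rw [TopCat.Presheaf.isLocallySurjective_iff]
  intro V t y hy
  by_cases hyr : y ∈ Set.range f
  · obtain ⟨x, rfl⟩ := hyr
    obtain ⟨W, hW, s, hxW, hs⟩ :=
      exists_local_lift_of_epi π ((Opens.map f).obj V) t x hy
    obtain ⟨V'', hV''o, hV''⟩ := hf.isInducing.isOpen_iff.1 W.isOpen
    let V' : Opens Y := ⟨V'', hV''o⟩ ⊓ V
    have hV'W : (Opens.map f).obj V' ≤ W := by
      intro z hz
      have : z ∈ f ⁻¹' V'' := hz.1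
      rw [hV''] at this
      exact this
    refine ⟨V', inf_le_right, ⟨G.obj.map (homOfLE hV'W).op s, ?_⟩, ?_⟩
    · change π.hom.app (op ((Opens.map f).obj V')) (G.obj.map (homOfLE hV'W).op s) =
        H.obj.map (homOfLE (show (Opens.map f).obj V' ≤ (Opens.map f).obj V from
          fun z hz => hz.2)).op t
      rw [app_map_comm, hs, map_map_eq]
    · refine ⟨?_, hy⟩
      change f x ∈ V''
      have : x ∈ f ⁻¹' V'' := by rw [hV'']; exact hxW
      exact this
  · let V' : Opens Y := V ⊓ ⟨(Set.range f)ᶜ, hf.isClosed_range.isOpen_compl⟩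
    have hbot : (Opens.map f).obj V' = ⊥ := by
      ext z
      simp only [Opens.coe_bot, Set.mem_empty_iff_false, iff_false]
      intro hz
      exact hz.2 ⟨z, rfl⟩
    refine ⟨V', inf_le_left, ⟨0, ?_⟩, ⟨hy, hyr⟩⟩
    exact sections_eq_of_eq_bot H hbot _ _

instance (f : X ⟶ Y) : PreservesFiniteLimits (CohTop.push f) := by
  have : (CohTop.push f).IsRightAdjoint :=
    (TopCat.Sheaf.pullbackPushforwardAdjunction AddCommGrpCat.{u} f).isRightAdjoint
  infer_instance

/-- direct image along a closed embedding is right exact -/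
theorem preservesFiniteColimits_push_of_isClosedEmbedding (f : X ⟶ Y)
    (hf : Topology.IsClosedEmbedding f) : PreservesFiniteColimits (CohTop.push f) := by
  rw [Functor.preservesFiniteColimits_iff_forall_exact_map_and_epi]
  intro S hS
  have h0 : PreservesFiniteLimits (CohTop.push f) := inferInstance
  have h1 : (S.map (CohTop.push f)).Exact ∧ Mono ((CohTop.push f).map S.f) :=
    (((Functor.preservesFiniteLimits_tfae (CohTop.push f)).out 3 0 rfl rfl).1 h0) S hS
  have : Epi S.g := hS.epi_g
  exact ⟨h1.1, push_map_epi_of_isClosedEmbedding f hf S.g⟩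

/-- the higher direct images along a closed embedding vanish -/
theorem isZero_Rpush_succ_of_isClosedEmbedding (f : X ⟶ Y) (hf : Topology.IsClosedEmbedding f)
    (F : CohTop.Ab X) (q : ℕ) : IsZero ((CohTop.Rpush f (q + 1)).obj F) := by
  have := preservesFiniteColimits_push_of_isClosedEmbedding f hf
  let I : InjectiveResolution F := Classical.choice (HasInjectiveResolution.out)
  refine IsZero.of_iso ?_ (I.isoRightDerivedObj (CohTop.push f) (q + 1))
  change IsZero ((((CohTop.push f).mapHomologicalComplex _).obj I.cocomplex).homology (q + 1))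
  rw [← HomologicalComplex.exactAt_iff_isZero_homology,
    HomologicalComplex.exactAt_iff' _ q (q + 1) (q + 2) (by simp) (by simp)]
  exact (I.exact_succ q).map (CohTop.push f)

end Groth.Agent.Lib.Helper53
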