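import Mathlib

/-!
# Sections of constant sheaves of modules on a site (helper53)

`T U = (constantSheaf J (ModuleCat Λ)) ⋙ sections over U` is an exact, additive, `Λ`-linear functor.
-/

set_option autoImplicit false
universe u
open CategoryTheory Limits Opposite

namespace Groth.Agent.Lib.Helper53.ConstMod

variable {C : Type u} [SmallCategory C] (J : GrothendieckTopology C) (Λ : Type u) [CommRing Λ]

instance : PreservesFiniteLimits (constantSheaf J (ModuleCat.{u} Λ)) := by
  unfold constantSheaf; infer_instance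
instance : PreservesFiniteColimits (constantSheaf J (ModuleCat.{u} Λ)) := by
  unfold constantSheaf; infer_instance
instance : (constantSheaf J (ModuleCat.{u} Λ)).Additive :=
  Functor.additive_of_preserves_binary_products _

/-- sections over `U` of the constant sheaf -/
noncomputable def T (U : C) : ModuleCat.{u} Λ ⥤ ModuleCat.{u} Λ :=
  constantSheaf J (ModuleCat.{u} Λ) ⋙ sheafToPresheaf J (ModuleCat.{u} Λ) ⋙
    (evaluation Cᵒᵖ (ModuleCat.{u} Λ)).obj (op U)

variable (U : C)

instance : PreservesFiniteLimits (T J Λ U) := by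
  unfold T; infer_instance

instance : (T J Λ U).Additive := Functor.additive_of_preserves_binary_products _

/-- a set-theoretic splitting of the map of constant sheaves induced by a surjection -/
lemma exists_set_section {B' C' : ModuleCat.{u} Λ} (p : B' ⟶ C')
    (hp : Function.Surjective p) :
    ∃ ρ : (sheafCompose J (forget (ModuleCat.{u} Λ))).obj
          ((constantSheaf J (ModuleCat.{u} Λ)).obj C') ⟶
        (sheafCompose J (forget (ModuleCat.{u} Λ))).obj
          ((constantSheaf J (ModuleCat.{u} Λ)).obj B'),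
      ρ ≫ (sheafCompose J (forget (ModuleCat.{u} Λ))).map
        ((constantSheaf J (ModuleCat.{u} Λ)).map p) = 𝟙 _ := by
  let Fg := forget (ModuleCat.{u} Λ)
  let κ := constantCommuteCompose J Fg
  let σ : Fg.obj C' ⟶ Fg.obj B' := TypeCat.ofHom (Function.surjInv hp)
  have hσ : σ ≫ Fg.map p = 𝟙 _ := by
    ext c
    exact Function.surjInv_eq hp c
  refine ⟨κ.hom.app C' ≫ (constantSheaf J (Type u)).map σ ≫ κ.inv.app B', ?_⟩
  have hnat := κ.inv.naturality p
  simp only [Functor.comp_map] at hnat
  rw [Category.assoc, Category.assoc, ← hnat, ← Category.assoc ((constantSheaf J (Type u)).map σ),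
    ← Functor.map_comp, hσ, CategoryTheory.Functor.map_id, Category.id_comp]
  exact κ.hom_inv_id_app C'

lemma T_map_surjective {B' C' : ModuleCat.{u} Λ} (p : B' ⟶ C') (hp : Function.Surjective p) :
    Function.Surjective ((T J Λ U).map p) := by
  obtain ⟨ρ, hρ⟩ := exists_set_section J Λ p hp
  intro c
  refine ⟨ρ.hom.app (op U) c, ?_⟩
  have h1 := congrArg (fun φ => φ.hom.app (op U)) hρ
  exact congrArg (fun φ => φ c) h1

instance : (T J Λ U).PreservesEpimorphisms where
  preserves {X Y} f hf := by
    rw [ModuleCat.epi_iff_surjective] at hf ⊢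
    exact T_map_surjective J Λ U f hf

instance : (T J Λ U).PreservesHomology :=
  Functor.preservesHomology_of_preservesEpis_and_kernels _

/-- `Λ`-linearity of the constant sheaf functor on scalar endomorphisms -/
lemma constantSheaf_map_smul_id (M : ModuleCat.{u} Λ) (r : Λ) (V : Cᵒᵖ) :
    ((constantSheaf J (ModuleCat.{u} Λ)).map (r • 𝟙 M)).hom.app V =
      r • 𝟙 (((constantSheaf J (ModuleCat.{u} Λ)).obj M).obj.obj V) := by
  let G := (constantSheaf J (ModuleCat.{u} Λ)).obj M
  let σ : G ⟶ G := ObjectProperty.homMk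
    { app := fun W => r • 𝟙 (G.obj.obj W)
      naturality := fun W W' f => by
        rw [Linear.comp_smul, Linear.smul_comp, Category.comp_id, Category.id_comp] }
  have key : (constantSheaf J (ModuleCat.{u} Λ)).map (r • 𝟙 M) = σ := by
    apply Sheaf.hom_ext
    apply sheafify_hom_ext _ _ _ G.property
    have h1 : toSheafify J ((Functor.const Cᵒᵖ).obj M) ≫
        ((constantSheaf J (ModuleCat.{u} Λ)).map (r • 𝟙 M)).hom =
        (Functor.const Cᵒᵖ).map (r • 𝟙 M) ≫ toSheafify J ((Functor.const Cᵒᵖ).obj M) :=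
      ((sheafificationAdjunction J (ModuleCat.{u} Λ)).unit.naturality
        ((Functor.const Cᵒᵖ).map (r • 𝟙 M))).symm
    rw [h1]
    ext W : 2
    have e1 : ((Functor.const Cᵒᵖ).map (r • 𝟙 M) ≫ toSheafify J ((Functor.const Cᵒᵖ).obj M)).app W =
        (r • 𝟙 M) ≫ (toSheafify J ((Functor.const Cᵒᵖ).obj M)).app W := rfl
    have e2 : (toSheafify J ((Functor.const Cᵒᵖ).obj M) ≫ σ.hom).app W =
        (toSheafify J ((Functor.const Cᵒᵖ).obj M)).app W ≫
          (r • 𝟙 ((sheafify J ((Functor.const Cᵒᵖ).obj M)).obj W)) := rfl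
    rw [e1, e2, Linear.smul_comp, Linear.comp_smul, Category.id_comp, Category.comp_id]
  rw [key]
  rfl

lemma T_map_smul {M N : ModuleCat.{u} Λ} (r : Λ) (f : M ⟶ N) :
    (T J Λ U).map (r • f) = r • (T J Λ U).map f := by
  have h1 : r • f = (r • 𝟙 M) ≫ f := by
    rw [Linear.smul_comp, Category.id_comp]
  have h2 : (T J Λ U).map (r • 𝟙 M) = r • 𝟙 _ := constantSheaf_map_smul_id J Λ M r (op U)
  rw [h1, Functor.map_comp, h2, Linear.smul_comp, Category.id_comp]

end Groth.Agent.Lib.Helper53.ConstMod
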