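import Groth.Agent.Lib.Helper53.ModExt
import Mathlib

/-!
# Constant abelian sheaves on a site: exactness, lifting of global sections (helper53)
-/

set_option autoImplicit false
universe u
open CategoryTheory Limits Opposite Abelian
open Groth.Agent.Lib.Helper53

namespace Groth.Agent.Lib.Helper53.ConstSh

variable {C : Type u} [SmallCategory C] (J : GrothendieckTopology C)

instance : PreservesFiniteLimits (constantSheaf J AddCommGrpCat.{u}) := by
  unfold constantSheaf; infer_instance
instance : PreservesFiniteColimits (constantSheaf J AddCommGrpCat.{u}) := by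
  unfold constantSheaf; infer_instance
instance : (constantSheaf J AddCommGrpCat.{u}).Additive :=
  Functor.additive_of_preserves_binary_products _

/-- a set-theoretic splitting of the map of constant sheaves induced by a surjection -/
lemma exists_set_section {B' C' : AddCommGrpCat.{u}} (p : B' ⟶ C')
    (hp : Function.Surjective p) :
    ∃ ρ : (sheafCompose J (forget AddCommGrpCat.{u})).obj ((constantSheaf J AddCommGrpCat.{u}).obj C') ⟶
        (sheafCompose J (forget AddCommGrpCat.{u})).obj ((constantSheaf J AddCommGrpCat.{u}).obj B'),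
      ρ ≫ (sheafCompose J (forget AddCommGrpCat.{u})).map
        ((constantSheaf J AddCommGrpCat.{u}).map p) = 𝟙 _ := by
  let Fg := forget AddCommGrpCat.{u}
  let κ := constantCommuteCompose J Fg
  let σ : Fg.obj C' ⟶ Fg.obj B' := TypeCat.ofHom (Function.surjInv hp)
  have hσ : σ ≫ Fg.map p = 𝟙 _ := by
    ext c
    exact Function.surjInv_eq hp c
  refine ⟨κ.hom.app C' ≫ (constantSheaf J (Type u)).map σ ≫ κ.inv.app B', ?_⟩
  have hnat := κ.inv.naturality p
  simp only [Functor.comp_map] at hnat
  rw [Category.assoc, Category.assoc, ← hnat, ← Category.assoc ((constantSheaf J (Type u)).map σ),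
    ← Functor.map_comp, hσ, CategoryTheory.Functor.map_id, Category.id_comp]
  exact κ.hom_inv_id_app C'

/-- global sections of constant sheaves lift along surjections -/
lemma exists_lift_const {B' C' : AddCommGrpCat.{u}} (p : B' ⟶ C') (hp : Function.Surjective p)
    (y : ModExt.constZ J ⟶ (constantSheaf J AddCommGrpCat.{u}).obj C') :
    ∃ z : ModExt.constZ J ⟶ (constantSheaf J AddCommGrpCat.{u}).obj B',
      z ≫ (constantSheaf J AddCommGrpCat.{u}).map p = y := by
  obtain ⟨ρ, hρ⟩ := exists_set_section J p hp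
  let cB := (constantSheaf J AddCommGrpCat.{u}).obj B'
  let cC := (constantSheaf J AddCommGrpCat.{u}).obj C'
  let t := ModExt.constShHomEquiv J cC y
  have hρX : ∀ (X : Cᵒᵖ) (c : cC.obj.obj X),
      ((constantSheaf J AddCommGrpCat.{u}).map p).hom.app X (ρ.hom.app X c) = c := by
    intro X c
    have h1 := congrArg (fun φ => φ.hom.app X) hρ
    exact congrArg (fun φ => φ c) h1
  let t' : ((sheafToPresheaf J AddCommGrpCat.{u}).obj cB ⋙ forget AddCommGrpCat.{u}).sections :=
    ⟨fun X => ρ.hom.app X (t.1 X), by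
      intro X Y g
      have h1 := ρ.hom.naturality g
      have h2 := congrArg (fun φ => φ (t.1 X)) h1
      have h3 := t.2 g
      refine h2.symm.trans ?_
      exact congrArg (ρ.hom.app Y) h3⟩
  refine ⟨(ModExt.constShHomEquiv J cB).symm t', ?_⟩
  apply (ModExt.constShHomEquiv J cC).injective
  apply Subtype.ext
  funext X
  rw [ModExt.constShHomEquiv_naturality, Equiv.apply_symm_apply]
  exact hρX X (t.1 X)

omit [SmallCategory C] in
/-- if morphisms to `X₃` lift to `X₂`, then `Ext¹(T, X₁) → Ext¹(T, X₂)` is injective -/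
lemma ext_one_eq_zero_of_lift {𝒜 : Type*} [Category 𝒜] [Abelian 𝒜] [HasExt.{u} 𝒜]
    {S' : ShortComplex 𝒜} (hS' : S'.ShortExact) (T : 𝒜)
    (hlift : ∀ y : T ⟶ S'.X₃, ∃ z : T ⟶ S'.X₂, z ≫ S'.g = y) (x : Ext.{u} T S'.X₁ 1)
    (hx : x.comp (Ext.mk₀ S'.f) (add_zero 1) = 0) : x = 0 := by
  obtain ⟨x₃, hx₃⟩ := Ext.covariant_sequence_exact₁ T hS' x hx (zero_add 1)
  obtain ⟨y, rfl⟩ := (Ext.mk₀_bijective _ _).2 x₃
  obtain ⟨z, rfl⟩ := hlift y
  rw [← hx₃, ← Ext.mk₀_comp_mk₀, Ext.comp_assoc_of_second_deg_zero, hS'.comp_extClass,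
    Ext.comp_zero]

theorem main {A B : Type u} [AddCommGroup A] [AddCommGroup B] (f : A →+ B)
    (hf : Function.Injective f) :
    Function.Injective
      (Sheaf.H.map ((constantSheaf J AddCommGrpCat.{u}).map (AddCommGrpCat.ofHom f)) 1) := by
  let fA : AddCommGrpCat.of A ⟶ AddCommGrpCat.of B := AddCommGrpCat.ofHom f
  have : Mono fA := (AddCommGrpCat.mono_iff_injective fA).2 hf
  let S : ShortComplex AddCommGrpCat.{u} :=
    ShortComplex.mk fA (cokernel.π fA) (cokernel.condition fA)
  have hS : S.ShortExact :=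
    ShortComplex.ShortExact.mk' (ShortComplex.exact_cokernel fA) inferInstance inferInstance
  have hS' : (S.map (constantSheaf J AddCommGrpCat.{u})).ShortExact :=
    hS.map_of_exact (constantSheaf J AddCommGrpCat.{u})
  have hsurj : Function.Surjective (cokernel.π fA) :=
    (AddCommGrpCat.epi_iff_surjective _).1 inferInstance
  rw [injective_iff_map_eq_zero]
  intro x hx
  rw [Sheaf.H.map_apply] at hx
  exact ext_one_eq_zero_of_lift hS' (ModExt.constZ J)
    (fun y => exists_lift_const J (cokernel.π fA) hsurj y) x hx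

end Groth.Agent.Lib.Helper53.ConstSh
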