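import Groth.Agent.Lib.Helper53.Profinite
import Groth.Agent.Lib.Helper53.Restrict
import Mathlib

/-!
# Subsheaves of the constant sheaf ℤ on an irreducible space (helper53)

`exists_factor`: factorization of presheaf maps through a sectionwise injective map;
`cst`: constant sections of the constant sheaf; `main`: a subsheaf of `ℤ` is generically `dℤ`.
-/

set_option autoImplicit false
universe u
open CategoryTheory TopologicalSpace Opposite CategoryTheory.Limits
open Groth.Agent.Lib.Helper53

namespace Groth.Agent.Lib.Helper53.ConstSub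

/-- factorization through a sectionwise injective morphism -/
lemma exists_factor {C : Type*} [Category C] {A B Z : Cᵒᵖ ⥤ AddCommGrpCat.{u}} (f : A ⟶ Z) (g : B ⟶ Z)
    (hg : ∀ V, Function.Injective (g.app V))
    (h : ∀ V (s : A.obj V), ∃ b : B.obj V, g.app V b = f.app V s) :
    ∃ k : A ⟶ B, k ≫ g = f := by
  choose b hb using h
  refine ⟨{ app := fun V => AddCommGrpCat.ofHom
              { toFun := b V
                map_zero' := by
                  apply hg V
                  rw [hb, map_zero, map_zero]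
                map_add' := by
                  intro s t
                  apply hg V
                  rw [map_add, hb, hb, hb, map_add] }
            naturality := ?_ }, ?_⟩
  · intro V W i
    ext s
    apply hg W
    change g.app W (b W (A.map i s)) = g.app W (B.map i (b V s))
    rw [hb]
    have h1 := congrArg (fun φ => φ.hom (b V s)) (g.naturality i)
    have h2 := congrArg (fun φ => φ.hom s) (f.naturality i)
    simp only [AddCommGrpCat.hom_comp, AddMonoidHom.coe_comp, Function.comp_apply] at h1 h2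
    rw [h1, hb, h2]
  · ext V s
    exact hb V s


variable {X : TopCat.{u}}

noncomputable abbrev Zs (X : TopCat.{u}) : CohTop.Ab X := CohTop.const X (ULift.{u} ℤ)

/-- constant section -/
noncomputable def cst (V : Opens X) (a : ℤ) : (Zs X).obj.obj (op V) :=
  (constUnit X (ULift.{u} ℤ)).app (op V) ⟨a⟩

lemma cst_add (V : Opens X) (a b : ℤ) : cst V (a + b) = cst V a + cst V b := by
  unfold cst
  rw [← map_add]
  rfl

lemma cst_zero (V : Opens X) : cst V 0 = 0 := by
  unfold cst
  exact map_zero ((constUnit X (ULift.{u} ℤ)).app (op V)).hom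

lemma cst_zsmul (V : Opens X) (d a : ℤ) : d • cst V a = cst V (d * a) := by
  unfold cst
  rw [← map_zsmul]
  congr 1

lemma cst_res {U V : Opens X} (h : V ≤ U) (a : ℤ) :
    (Zs X).obj.map (homOfLE h).op (cst U a) = cst V a :=
  constUnit_naturality _ h _

lemma cst_injective (V : Opens X) (hV : V ≠ ⊥) (a b : ℤ) (h : cst V a = cst V b) : a = b := by
  obtain ⟨x, hx⟩ : (V : Set X).Nonempty := by
    rw [Set.nonempty_iff_ne_empty]
    intro h0
    exact hV (Opens.ext h0)
  have := constUnit_injective (ULift.{u} ℤ) V x hx ⟨a⟩ ⟨b⟩ h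
  exact congrArg ULift.down this

lemma exists_cst [IrreducibleSpace X] (V : Opens X) (t : (Zs X).obj.obj (op V)) :
    ∃ a : ℤ, cst V a = t := by
  obtain ⟨a, ha⟩ := exists_constUnit_eq (ULift.{u} ℤ) V t
  exact ⟨a.down, ha⟩

variable (H : CohTop.Ab X) (ι : H ⟶ Zs X)

/-- the ideal of integers occurring as sections of `H` over `V` -/
noncomputable def S (V : Opens X) : Ideal ℤ where
  carrier := {a | ∃ h : H.obj.obj (op V), ι.hom.app (op V) h = cst V a}
  add_mem' := by
    rintro a b ⟨h, hh⟩ ⟨k, hk⟩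
    exact ⟨h + k, by rw [map_add, hh, hk, cst_add]⟩
  zero_mem' := ⟨0, by rw [map_zero, cst_zero]⟩
  smul_mem' := by
    rintro c a ⟨h, hh⟩
    refine ⟨c • h, ?_⟩
    rw [map_zsmul, hh, cst_zsmul]
    rfl

lemma mem_S (V : Opens X) (a : ℤ) :
    a ∈ S H ι V ↔ ∃ h : H.obj.obj (op V), ι.hom.app (op V) h = cst V a := Iff.rfl

lemma S_mono {U V : Opens X} (hVU : V ≤ U) : S H ι U ≤ S H ι V := by
  rintro a ⟨h, hh⟩
  refine ⟨H.obj.map (homOfLE hVU).op h, ?_⟩
  rw [app_map_comm, hh, cst_res]

lemma exists_stable [IrreducibleSpace X] :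
    ∃ U : Opens X, U ≠ ⊥ ∧ ∀ V : Opens X, V ≤ U → V ≠ ⊥ → S H ι V = S H ι U := by
  have hwf : WellFounded ((· > ·) : Ideal ℤ → Ideal ℤ → Prop) := wellFounded_gt
  have htop : (⊤ : Opens X) ≠ ⊥ := by
    intro h
    have hx : (Classical.arbitrary X) ∈ (⊤ : Opens X) := trivial
    rw [h] at hx
    exact hx
  obtain ⟨I₀, ⟨U, hU, rfl⟩, hmin⟩ := hwf.has_min {I | ∃ V : Opens X, V ≠ ⊥ ∧ S H ι V = I}
    ⟨S H ι ⊤, ⊤, htop, rfl⟩
  refine ⟨U, hU, fun V hVU hV => ?_⟩
  by_contra hne
  exact hmin (S H ι V) ⟨V, hV, rfl⟩ (lt_of_le_of_ne (S_mono H ι hVU) (Ne.symm hne))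

lemma injective_app_of_mono {G H : CohTop.Ab X} (ι : H ⟶ G) [Mono ι] (V : Opens X) :
    Function.Injective (ι.hom.app (op V)) := by
  have h1 : Mono ι.hom := (Sheaf.Hom.mono_iff_presheaf_mono _ _ ι).1 inferInstance
  have h2 : Mono (ι.hom.app (op V)) := inferInstance
  exact (AddCommGrpCat.mono_iff_injective _).1 h2

lemma restr_zsmul_app (U : Opens X) (G : CohTop.Ab X) (d : ℤ) (V : Opens (TopCat.of U))
    (z : G.obj.obj (op ((jFun U).obj V))) :
    ((CohTop.restrFunctor U).map (d • 𝟙 G)).hom.app (op V) z = d • z := by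
  have h1 : (CohTop.restrFunctor U).map (d • 𝟙 G) = d • 𝟙 _ := by
    rw [Functor.map_zsmul, CategoryTheory.Functor.map_id]
  rw [h1]
  rfl

theorem main [IrreducibleSpace X] (H : CohTop.Ab X) (ι : H ⟶ Zs X) [Mono ι] :
    ∃ (U : Opens X) (d : ℤ), U ≠ ⊥ ∧
      imageSubobject ((CohTop.restrFunctor U).map ι) =
        imageSubobject ((CohTop.restrFunctor U).map (d • 𝟙 (Zs X))) := by
  obtain ⟨U, hU, hst⟩ := exists_stable H ι
  obtain ⟨d, hd⟩ := (IsPrincipalIdealRing.principal (S H ι U)).principal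
  refine ⟨U, d, hU, ?_⟩
  -- sections over opens of `U`
  have hjle : ∀ V : Opens (TopCat.of U), (jFun U).obj V ≤ U := by
    rintro V _ ⟨y, -, rfl⟩
    exact y.2
  have hS : ∀ V : Opens (TopCat.of U), (jFun U).obj V ≠ ⊥ → ∀ a : ℤ,
      a ∈ S H ι ((jFun U).obj V) ↔ ∃ c : ℤ, a = d * c := by
    intro V hV a
    rw [hst _ (hjle V) hV, hd]
    rw [Submodule.mem_span_singleton]
    constructor
    · rintro ⟨c, rfl⟩
      exact ⟨c, by rw [smul_eq_mul, mul_comm]⟩
    · rintro ⟨c, rfl⟩
      exact ⟨c, by rw [smul_eq_mul, mul_comm]⟩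
  set f := (CohTop.restrFunctor U).map ι with hf
  set g := (CohTop.restrFunctor U).map (d • 𝟙 (Zs X)) with hg
  by_cases hd0 : d = 0
  · -- both maps vanish
    have hg0 : g = 0 := by
      rw [hg, hd0, zero_smul, Functor.map_zero]
    have hf0 : f = 0 := by
      apply Sheaf.hom_ext
      ext V s
      change ι.hom.app (op ((jFun U).obj V.unop)) s = 0
      by_cases hV : (jFun U).obj V.unop = ⊥
      · exact sections_eq_of_eq_bot (Zs X) hV _ _
      · obtain ⟨a, ha⟩ := exists_cst _ (ι.hom.app (op ((jFun U).obj V.unop)) s)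
        have hmem : a ∈ S H ι ((jFun U).obj V.unop) := ⟨s, ha.symm⟩
        obtain ⟨c, hc⟩ := (hS V.unop hV a).1 hmem
        rw [hd0, zero_mul] at hc
        rw [← ha, hc, cst_zero]
    rw [hf0, hg0, imageSubobject_zero, imageSubobject_zero]
  · -- mutual factorization
    have hginj : ∀ V : (Opens (TopCat.of U))ᵒᵖ, Function.Injective (g.hom.app V) := by
      intro V
      rw [injective_iff_map_eq_zero]
      intro z hz
      by_cases hV : (jFun U).obj V.unop = ⊥
      · exact sections_eq_of_eq_bot (Zs X) hV _ _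
      · obtain ⟨a, rfl⟩ := exists_cst ((jFun U).obj V.unop) z
        have h1 : d • cst ((jFun U).obj V.unop) a = 0 := by
          rw [← restr_zsmul_app U (Zs X) d V.unop]
          exact hz
        rw [cst_zsmul, ← cst_zero] at h1
        have h2 := cst_injective _ hV _ _ h1
        have h3 : a = 0 := by
          rcases mul_eq_zero.1 h2 with h | h
          · exact absurd h hd0
          · exact h
        rw [h3, cst_zero]
        rfl
    have hfinj : ∀ V : (Opens (TopCat.of U))ᵒᵖ, Function.Injective (f.hom.app V) := by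
      intro V
      exact injective_app_of_mono ι ((jFun U).obj V.unop)
    have h1 : ∀ (V : (Opens (TopCat.of U))ᵒᵖ) (s : ((CohTop.restrFunctor U).obj H).obj.obj V),
        ∃ b, g.hom.app V b = f.hom.app V s := by
      intro V s
      by_cases hV : (jFun U).obj V.unop = ⊥
      · exact ⟨0, sections_eq_of_eq_bot (Zs X) hV _ _⟩
      · obtain ⟨a, ha⟩ := exists_cst _ (ι.hom.app (op ((jFun U).obj V.unop)) s)
        have hmem : a ∈ S H ι ((jFun U).obj V.unop) := ⟨s, ha.symm⟩
        obtain ⟨c, hc⟩ := (hS V.unop hV a).1 hmem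
        refine ⟨cst ((jFun U).obj V.unop) c, ?_⟩
        change ((CohTop.restrFunctor U).map (d • 𝟙 (Zs X))).hom.app (op V.unop) _ =
          ι.hom.app (op ((jFun U).obj V.unop)) s
        rw [restr_zsmul_app, cst_zsmul, ← hc, ha]
    have h2 : ∀ (V : (Opens (TopCat.of U))ᵒᵖ) (z : ((CohTop.restrFunctor U).obj (Zs X)).obj.obj V),
        ∃ b, f.hom.app V b = g.hom.app V z := by
      intro V z
      by_cases hV : (jFun U).obj V.unop = ⊥
      · exact ⟨0, sections_eq_of_eq_bot (Zs X) hV _ _⟩
      · obtain ⟨a, rfl⟩ := exists_cst ((jFun U).obj V.unop) z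
        have hmem : d * a ∈ S H ι ((jFun U).obj V.unop) := (hS V.unop hV _).2 ⟨a, rfl⟩
        obtain ⟨h, hh⟩ := hmem
        refine ⟨h, ?_⟩
        change ι.hom.app (op ((jFun U).obj V.unop)) h =
          ((CohTop.restrFunctor U).map (d • 𝟙 (Zs X))).hom.app (op V.unop) _
        rw [restr_zsmul_app, cst_zsmul, hh]
    obtain ⟨k, hk⟩ := exists_factor f.hom g.hom hginj h1
    obtain ⟨k', hk'⟩ := exists_factor g.hom f.hom hfinj h2
    have e1 : f = (⟨k⟩ : (CohTop.restrFunctor U).obj H ⟶ (CohTop.restrFunctor U).obj (Zs X)) ≫ g :=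
      Sheaf.hom_ext hk.symm
    have e2 : g = (⟨k'⟩ : (CohTop.restrFunctor U).obj (Zs X) ⟶ (CohTop.restrFunctor U).obj H) ≫ f :=
      Sheaf.hom_ext hk'.symm
    apply le_antisymm
    · rw [e1]
      exact imageSubobject_comp_le _ _
    · rw [e2]
      exact imageSubobject_comp_le _ _

end Groth.Agent.Lib.Helper53.ConstSub
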