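import Groth.Agent.Lib.Helper53.ConstMod

/-!
# Sections of constant sheaves commute with `- ⊗ P` for finitely presented `P` (helper53)
-/

set_option autoImplicit false
universe u
open CategoryTheory Limits Opposite TensorProduct

namespace Groth.Agent.Lib.Helper53.ConstTensor

open Groth.Agent.Lib.Helper53.ConstMod

variable {C : Type u} [SmallCategory C] (J : GrothendieckTopology C) (Λ : Type u) [CommRing Λ]
  (U : C)

/-- the action of `T` on linear maps, as a linear map -/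
noncomputable def Tlin (M N : Type u) [AddCommGroup M] [Module Λ M] [AddCommGroup N] [Module Λ N] :
    (M →ₗ[Λ] N) →ₗ[Λ]
      ((T J Λ U).obj (ModuleCat.of Λ M) →ₗ[Λ] (T J Λ U).obj (ModuleCat.of Λ N)) where
  toFun f := ((T J Λ U).map (ModuleCat.ofHom f)).hom
  map_add' f g := by
    rw [ModuleCat.ofHom_add, Functor.map_add, ModuleCat.hom_add]
  map_smul' r f := by
    have : ModuleCat.ofHom (r • f) = r • ModuleCat.ofHom f := rfl
    rw [this, T_map_smul, ModuleCat.hom_smul]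
    rfl

lemma Tlin_apply {M N : Type u} [AddCommGroup M] [Module Λ M] [AddCommGroup N] [Module Λ N]
    (f : M →ₗ[Λ] N) : Tlin J Λ U M N f = ((T J Λ U).map (ModuleCat.ofHom f)).hom := rfl

lemma Tlin_id (M : Type u) [AddCommGroup M] [Module Λ M] :
    Tlin J Λ U M M LinearMap.id = LinearMap.id := by
  rw [Tlin_apply]
  have : ModuleCat.ofHom (LinearMap.id : M →ₗ[Λ] M) = 𝟙 (ModuleCat.of Λ M) := rfl
  rw [this, CategoryTheory.Functor.map_id]
  rfl

lemma Tlin_comp {M N P : Type u} [AddCommGroup M] [Module Λ M] [AddCommGroup N] [Module Λ N]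
    [AddCommGroup P] [Module Λ P] (g : N →ₗ[Λ] P) (f : M →ₗ[Λ] N) :
    Tlin J Λ U M P (g ∘ₗ f) = Tlin J Λ U N P g ∘ₗ Tlin J Λ U M N f := by
  rw [Tlin_apply, Tlin_apply, Tlin_apply, ModuleCat.ofHom_comp, Functor.map_comp]
  rfl

variable (M : Type u) [AddCommGroup M] [Module Λ M]

/-- the comparison map `T(M) ⊗ P → T(M ⊗ P)` -/
noncomputable def theta (P : Type u) [AddCommGroup P] [Module Λ P] :
    ((T J Λ U).obj (ModuleCat.of Λ M)) ⊗[Λ] P →ₗ[Λ]
      (T J Λ U).obj (ModuleCat.of Λ (M ⊗[Λ] P)) :=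
  TensorProduct.lift ((Tlin J Λ U M (M ⊗[Λ] P) ∘ₗ (TensorProduct.mk Λ M P).flip).flip)

lemma theta_tmul (P : Type u) [AddCommGroup P] [Module Λ P]
    (s : (T J Λ U).obj (ModuleCat.of Λ M)) (x : P) :
    theta J Λ U M P (s ⊗ₜ x) = Tlin J Λ U M (M ⊗[Λ] P) ((TensorProduct.mk Λ M P).flip x) s := by
  simp [theta]

/-- the functor `P ↦ T(M ⊗ P)` on maps -/
noncomputable def Glin (P P' : Type u) [AddCommGroup P] [Module Λ P] [AddCommGroup P']
    [Module Λ P'] : (P →ₗ[Λ] P') →ₗ[Λ]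
      ((T J Λ U).obj (ModuleCat.of Λ (M ⊗[Λ] P)) →ₗ[Λ] (T J Λ U).obj (ModuleCat.of Λ (M ⊗[Λ] P'))) :=
  Tlin J Λ U (M ⊗[Λ] P) (M ⊗[Λ] P') ∘ₗ LinearMap.lTensorHom M

lemma Glin_apply {P P' : Type u} [AddCommGroup P] [Module Λ P] [AddCommGroup P']
    [Module Λ P'] (f : P →ₗ[Λ] P') :
    Glin J Λ U M P P' f = Tlin J Λ U _ _ (LinearMap.lTensor M f) := rfl

lemma Glin_id (P : Type u) [AddCommGroup P] [Module Λ P] :
    Glin J Λ U M P P LinearMap.id = LinearMap.id := by
  rw [Glin_apply, LinearMap.lTensor_id, Tlin_id]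

lemma Glin_comp {P P' P'' : Type u} [AddCommGroup P] [Module Λ P] [AddCommGroup P']
    [Module Λ P'] [AddCommGroup P''] [Module Λ P''] (g : P' →ₗ[Λ] P'') (f : P →ₗ[Λ] P') :
    Glin J Λ U M P P'' (g ∘ₗ f) = Glin J Λ U M P' P'' g ∘ₗ Glin J Λ U M P P' f := by
  rw [Glin_apply, Glin_apply, Glin_apply, LinearMap.lTensor_comp, Tlin_comp]

/-- naturality of `theta` -/
lemma theta_nat {P P' : Type u} [AddCommGroup P] [Module Λ P] [AddCommGroup P']
    [Module Λ P'] (f : P →ₗ[Λ] P') :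
    Glin J Λ U M P P' f ∘ₗ theta J Λ U M P =
      theta J Λ U M P' ∘ₗ LinearMap.lTensor ((T J Λ U).obj (ModuleCat.of Λ M)) f := by
  apply TensorProduct.ext'
  intro s x
  rw [LinearMap.comp_apply, LinearMap.comp_apply, LinearMap.lTensor_tmul, theta_tmul, theta_tmul,
    Glin_apply, ← LinearMap.comp_apply, ← Tlin_comp]
  congr 2

lemma theta_nat_apply {P P' : Type u} [AddCommGroup P] [Module Λ P] [AddCommGroup P']
    [Module Λ P'] (f : P →ₗ[Λ] P') (z : ((T J Λ U).obj (ModuleCat.of Λ M)) ⊗[Λ] P) :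
    Glin J Λ U M P P' f (theta J Λ U M P z) =
      theta J Λ U M P' (LinearMap.lTensor ((T J Λ U).obj (ModuleCat.of Λ M)) f z) :=
  LinearMap.congr_fun (theta_nat J Λ U M f) z

/-- `theta` for `P = Λ` -/
lemma theta_self_bijective : Function.Bijective (theta J Λ U M Λ) := by
  have h : Tlin J Λ U (M ⊗[Λ] Λ) M (TensorProduct.rid Λ M).toLinearMap ∘ₗ theta J Λ U M Λ =
      (TensorProduct.rid Λ ((T J Λ U).obj (ModuleCat.of Λ M))).toLinearMap := by
    apply TensorProduct.ext'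
    intro s r
    rw [LinearMap.comp_apply, theta_tmul, ← LinearMap.comp_apply, ← Tlin_comp]
    have : (TensorProduct.rid Λ M).toLinearMap ∘ₗ (TensorProduct.mk Λ M Λ).flip r =
        r • LinearMap.id := by
      ext m
      simp
    rw [this, map_smul, Tlin_id]
    simp
  have hT : Function.Bijective (Tlin J Λ U (M ⊗[Λ] Λ) M (TensorProduct.rid Λ M).toLinearMap) := by
    have h1 : Tlin J Λ U (M ⊗[Λ] Λ) M (TensorProduct.rid Λ M).toLinearMap ∘ₗ
        Tlin J Λ U M (M ⊗[Λ] Λ) (TensorProduct.rid Λ M).symm.toLinearMap = LinearMap.id := by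
      rw [← Tlin_comp]
      simp [Tlin_id]
    have h2 : Tlin J Λ U M (M ⊗[Λ] Λ) (TensorProduct.rid Λ M).symm.toLinearMap ∘ₗ
        Tlin J Λ U (M ⊗[Λ] Λ) M (TensorProduct.rid Λ M).toLinearMap = LinearMap.id := by
      rw [← Tlin_comp]
      simp [Tlin_id]
    exact Function.bijective_iff_has_inverse.mpr ⟨_, fun x => LinearMap.congr_fun h2 x,
      fun x => LinearMap.congr_fun h1 x⟩
  have h3 : Function.Bijective (⇑(Tlin J Λ U (M ⊗[Λ] Λ) M (TensorProduct.rid Λ M).toLinearMap) ∘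
      ⇑(theta J Λ U M Λ)) := by
    have : (⇑(Tlin J Λ U (M ⊗[Λ] Λ) M (TensorProduct.rid Λ M).toLinearMap) ∘
      ⇑(theta J Λ U M Λ)) = ⇑(TensorProduct.rid Λ ((T J Λ U).obj (ModuleCat.of Λ M))) := by
      rw [← LinearMap.coe_comp, h]
      rfl
    rw [this]
    exact (TensorProduct.rid Λ _).bijective
  exact ⟨(Function.Injective.of_comp_iff hT.1 _).mp h3.1 |> fun h => h,
    (Function.Surjective.of_comp_iff' hT _).mp h3.2⟩

/-- `theta` for `P = Fin n → Λ` -/
lemma theta_free_bijective (n : ℕ) : Function.Bijective (theta J Λ U M (Fin n → Λ)) := by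
  let TM := (T J Λ U).obj (ModuleCat.of Λ M)
  have hid : (∑ j : Fin n, (LinearMap.single Λ (fun _ : Fin n => Λ) j) ∘ₗ
      (LinearMap.proj j : (Fin n → Λ) →ₗ[Λ] Λ)) = LinearMap.id := by
    ext j k
    simp [Pi.single_apply, Finset.sum_apply]
  have hF : ∀ z : TM ⊗[Λ] (Fin n → Λ),
      z = ∑ j : Fin n, LinearMap.lTensor TM (LinearMap.single Λ (fun _ : Fin n => Λ) j)
        (LinearMap.lTensor TM (LinearMap.proj j : (Fin n → Λ) →ₗ[Λ] Λ) z) := by
    intro z
    have h1 : LinearMap.lTensorHom TM (∑ j : Fin n, (LinearMap.single Λ (fun _ : Fin n => Λ) j) ∘ₗ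
      (LinearMap.proj j : (Fin n → Λ) →ₗ[Λ] Λ)) = LinearMap.id := by
      rw [hid]; exact LinearMap.lTensor_id _ _
    rw [map_sum] at h1
    have h2 : (∑ j : Fin n, (LinearMap.lTensorHom TM ((LinearMap.single Λ (fun _ : Fin n => Λ) j) ∘ₗ
      (LinearMap.proj j : (Fin n → Λ) →ₗ[Λ] Λ)) :
        TM ⊗[Λ] (Fin n → Λ) →ₗ[Λ] TM ⊗[Λ] (Fin n → Λ))) z = z := by
      rw [h1]; rfl
    rw [LinearMap.sum_apply] at h2
    conv_lhs => rw [← h2]
    refine Finset.sum_congr rfl fun j _ => ?_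
    rw [LinearMap.coe_lTensorHom, LinearMap.lTensor_comp]
    rfl
  have hG : ∀ w : (T J Λ U).obj (ModuleCat.of Λ (M ⊗[Λ] (Fin n → Λ))),
      w = ∑ j : Fin n, Glin J Λ U M _ _ (LinearMap.single Λ (fun _ : Fin n => Λ) j)
        (Glin J Λ U M _ _ (LinearMap.proj j : (Fin n → Λ) →ₗ[Λ] Λ) w) := by
    intro w
    have h1 : Glin J Λ U M _ _ (∑ j : Fin n, (LinearMap.single Λ (fun _ : Fin n => Λ) j) ∘ₗ
      (LinearMap.proj j : (Fin n → Λ) →ₗ[Λ] Λ)) = LinearMap.id := by
      rw [hid]; exact Glin_id J Λ U M _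
    rw [map_sum] at h1
    have h2 : (∑ j : Fin n, (Glin J Λ U M _ _ ((LinearMap.single Λ (fun _ : Fin n => Λ) j) ∘ₗ
      (LinearMap.proj j : (Fin n → Λ) →ₗ[Λ] Λ)) :
        (T J Λ U).obj (ModuleCat.of Λ (M ⊗[Λ] (Fin n → Λ))) →ₗ[Λ]
          (T J Λ U).obj (ModuleCat.of Λ (M ⊗[Λ] (Fin n → Λ))))) w = w := by
      rw [h1]; rfl
    rw [LinearMap.sum_apply] at h2
    conv_lhs => rw [← h2]
    refine Finset.sum_congr rfl fun j _ => ?_
    rw [Glin_comp]
    rfl
  constructor
  · rw [injective_iff_map_eq_zero]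
    intro z hz
    rw [hF z]
    refine Finset.sum_eq_zero fun j _ => ?_
    have h1 : theta J Λ U M Λ (LinearMap.lTensor TM
        (LinearMap.proj j : (Fin n → Λ) →ₗ[Λ] Λ) z) = 0 := by
      rw [← theta_nat_apply, hz, map_zero]
    have h2 := (theta_self_bijective J Λ U M).1 (h1.trans (map_zero _).symm)
    rw [h2, map_zero]
  · intro w
    choose a ha using fun j : Fin n => (theta_self_bijective J Λ U M).2
      (Glin J Λ U M _ _ (LinearMap.proj j : (Fin n → Λ) →ₗ[Λ] Λ) w)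
    refine ⟨∑ j : Fin n, LinearMap.lTensor TM (LinearMap.single Λ (fun _ : Fin n => Λ) j) (a j), ?_⟩
    rw [map_sum]
    conv_rhs => rw [hG w]
    refine Finset.sum_congr rfl fun j _ => ?_
    rw [← theta_nat_apply, ha]

/-- `Tlin` preserves surjectivity -/
lemma Tlin_surjective {N N' : Type u} [AddCommGroup N] [Module Λ N] [AddCommGroup N']
    [Module Λ N'] (f : N →ₗ[Λ] N') (hf : Function.Surjective f) :
    Function.Surjective (Tlin J Λ U N N' f) :=
  T_map_surjective J Λ U (ModuleCat.ofHom f) hf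

/-- `Tlin` preserves injectivity -/
lemma Tlin_injective {N N' : Type u} [AddCommGroup N] [Module Λ N] [AddCommGroup N']
    [Module Λ N'] (f : N →ₗ[Λ] N') (hf : Function.Injective f) :
    Function.Injective (Tlin J Λ U N N' f) := by
  have : Mono (ModuleCat.ofHom f) := (ModuleCat.mono_iff_injective _).mpr hf
  have h2 : Mono ((T J Λ U).map (ModuleCat.ofHom f)) := inferInstance
  exact (ModuleCat.mono_iff_injective _).mp h2

/-- `Tlin` preserves exactness -/
lemma Tlin_exact {N N' N'' : Type u} [AddCommGroup N] [Module Λ N] [AddCommGroup N']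
    [Module Λ N'] [AddCommGroup N''] [Module Λ N''] (f : N →ₗ[Λ] N') (g : N' →ₗ[Λ] N'')
    (h : Function.Exact f g) :
    Function.Exact (Tlin J Λ U N N' f) (Tlin J Λ U N' N'' g) := by
  let S : ShortComplex (ModuleCat.{u} Λ) :=
    ShortComplex.mk (ModuleCat.ofHom f) (ModuleCat.ofHom g) (by
      ext x
      exact h.apply_apply_eq_zero x)
  have hS : S.Exact := (ShortComplex.ShortExact.moduleCat_exact_iff_function_exact S).mpr h
  have hS' := hS.map (T J Λ U)
  exact (ShortComplex.ShortExact.moduleCat_exact_iff_function_exact _).mp hS'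

/-- `theta` is bijective for finitely presented `P` -/
theorem theta_bijective (P : Type u) [AddCommGroup P] [Module Λ P]
    [Module.FinitePresentation Λ P] : Function.Bijective (theta J Λ U M P) := by
  let TM := (T J Λ U).obj (ModuleCat.of Λ M)
  obtain ⟨n, k, π, g, hπ, hex⟩ := Module.FinitePresentation.exists_fin' Λ P
  have hGπ : Function.Surjective (Glin J Λ U M _ _ π) :=
    Tlin_surjective J Λ U _ (LinearMap.lTensor_surjective M hπ)
  have hGex : Function.Exact (Glin J Λ U M _ _ g) (Glin J Λ U M _ _ π) :=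
    Tlin_exact J Λ U _ _ (lTensor_exact M hex hπ)
  have hFπ : Function.Surjective (LinearMap.lTensor TM π) := LinearMap.lTensor_surjective TM hπ
  constructor
  · rw [injective_iff_map_eq_zero]
    intro z hz
    obtain ⟨a, rfl⟩ := hFπ z
    rw [← theta_nat_apply] at hz
    obtain ⟨b, hb⟩ := (hGex _).mp hz
    obtain ⟨c, rfl⟩ := (theta_free_bijective J Λ U M k).2 b
    rw [theta_nat_apply] at hb
    have hac := (theta_free_bijective J Λ U M n).1 hb
    rw [← hac, ← LinearMap.comp_apply, ← LinearMap.lTensor_comp]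
    have : π ∘ₗ g = 0 := by
      apply LinearMap.ext
      intro x
      exact hex.apply_apply_eq_zero x
    rw [this, LinearMap.lTensor_zero, LinearMap.zero_apply]
  · intro w
    obtain ⟨w', rfl⟩ := hGπ w
    obtain ⟨a, rfl⟩ := (theta_free_bijective J Λ U M n).2 w'
    exact ⟨_, (theta_nat_apply J Λ U M π a).symm⟩

/-- over a coherent ring, sections of the constant sheaf on a flat module are flat -/
theorem flat_sections (hΛ : ∀ I : Ideal Λ, I.FG → Module.FinitePresentation Λ I)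
    [Module.Flat Λ M] : Module.Flat Λ ((T J Λ U).obj (ModuleCat.of Λ M)) := by
  rw [Module.Flat.iff_lTensor_injective]
  intro I hI
  haveI := hΛ I hI
  have h1 : Function.Injective (Glin J Λ U M _ _ (I.subtype)) :=
    Tlin_injective J Λ U _ (Module.Flat.lTensor_preserves_injective_linearMap _
      (Submodule.injective_subtype I))
  have h2 : Function.Injective (⇑(Glin J Λ U M _ _ (I.subtype)) ∘ ⇑(theta J Λ U M I)) :=
    h1.comp (theta_bijective J Λ U M I).1
  have h3 : ⇑(Glin J Λ U M _ _ (I.subtype)) ∘ ⇑(theta J Λ U M I) =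
      ⇑(theta J Λ U M Λ) ∘ ⇑(LinearMap.lTensor ((T J Λ U).obj (ModuleCat.of Λ M)) I.subtype) := by
    funext z
    exact theta_nat_apply J Λ U M I.subtype z
  rw [h3] at h2
  exact Function.Injective.of_comp h2

end Groth.Agent.Lib.Helper53.ConstTensor
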