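import Mathlib

/-!
# Refining covering sieves by members of a covering class of objects (helper53)
-/

set_option autoImplicit false
universe u
open CategoryTheory Limits Opposite

namespace Groth.Agent.Lib.Helper53.CoverB

variable {C : Type u} [SmallCategory C] {J : GrothendieckTopology C}

/-- every covering sieve contains a covering family whose members lie in `B` -/
lemma exists_family_in_sieve (B : Set C)
    (hB : ∀ U : C, ∃ (ι : Type u) (Y : ι → C) (f : ∀ i, Y i ⟶ U),
      Sieve.ofArrows Y f ∈ J U ∧ ∀ i, Y i ∈ B)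
    (V : C) (T : Sieve V) (hT : T ∈ J V) :
    ∃ (ι : Type u) (Y : ι → C) (f : ∀ i, Y i ⟶ V), (∀ i, T.arrows (f i)) ∧
      Sieve.ofArrows Y f ∈ J V ∧ ∀ i, Y i ∈ B := by
  choose ι Y f hcov hYB using hB
  refine ⟨Σ (W : C), {g : W ⟶ V // T g} × ι W, fun i => Y i.1 i.2.2,
    fun i => f i.1 i.2.2 ≫ i.2.1.1, ?_, ?_, ?_⟩
  · intro i
    exact T.downward_closed i.2.1.2 _
  · refine J.transitive hT _ ?_
    intro W g hg
    refine J.superset_covering ?_ (hcov W)
    rintro Z k ⟨Z', a, b, hb, rfl⟩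
    obtain ⟨i⟩ := hb
    exact ⟨_, a, _, Presieve.ofArrows.mk
      (⟨W, ⟨g, hg⟩, i⟩ : Σ (W : C), {g : W ⟶ V // T g} × ι W), by simp⟩
  · intro i
    exact hYB i.1 i.2.2

end Groth.Agent.Lib.Helper53.CoverB
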