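import Mathlib.FieldTheory.IsAlgClosed.Basic
import Mathlib.RingTheory.AlgebraicIndependent.TranscendenceBasis
import Mathlib.RingTheory.Ideal.GoingUp

set_option autoImplicit false
universe u

namespace Groth.Agent.Lib.Helper53

open Cardinal

/-- A finite type domain over a field `K` embeds (over `K`) into any algebraically closed
extension of `K` containing an infinite algebraically independent sequence. -/
theorem exists_injective_algHom_of_finiteType (K : Type u) (D Ω : Type u) [Field K] [CommRing D]
    [IsDomain D] [Algebra K D] [Algebra.FiniteType K D] [Field Ω] [IsAlgClosed Ω] [Algebra K Ω]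
    (t : ℕ → Ω) (ht : AlgebraicIndependent K t) :
    ∃ φ : D →ₐ[K] Ω, Function.Injective φ := by
  classical
  obtain ⟨ι, x, hx⟩ := exists_isTranscendenceBasis' K D
  have hfin : Finite ι := by
    rw [← Cardinal.lt_aleph0_iff_finite, hx.cardinalMk_eq_trdeg]
    exact trdeg_lt_aleph0_of_finiteType
  obtain ⟨σ, hσ⟩ := Countable.exists_injective_nat ι
  have ht' : AlgebraicIndependent K (t ∘ σ) := ht.comp σ hσ
  -- the subalgebra generated by the transcendence basis
  let g : Algebra.adjoin K (Set.range x) →ₐ[K] Ω :=
    (MvPolynomial.aeval (t ∘ σ)).comp hx.1.aevalEquiv.symm.toAlgHom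
  have hg : Function.Injective g := by
    have h1 : Function.Injective (MvPolynomial.aeval (R := K) (t ∘ σ)) := ht'
    exact h1.comp hx.1.aevalEquiv.symm.injective
  letI : Algebra (Algebra.adjoin K (Set.range x)) Ω := g.toRingHom.toAlgebra
  haveI : IsScalarTower K (Algebra.adjoin K (Set.range x)) Ω :=
    IsScalarTower.of_algebraMap_eq fun k ↦ (g.commutes k).symm
  haveI : Module.IsTorsionFree (Algebra.adjoin K (Set.range x)) Ω :=
    Module.isTorsionFree_iff_algebraMap_injective.2 hg
  haveI : Algebra.IsAlgebraic (Algebra.adjoin K (Set.range x)) D := hx.isAlgebraic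
  let ψ : D →ₐ[Algebra.adjoin K (Set.range x)] Ω := IsAlgClosed.lift
  refine ⟨ψ.restrictScalars K, ?_⟩
  rw [injective_iff_map_eq_zero]
  intro d hd
  by_contra hd0
  have hker : d ∈ RingHom.ker ψ.toRingHom := hd
  have := Ideal.comap_ne_bot_of_algebraic_mem (R := Algebra.adjoin K (Set.range x)) hd0 hker
    (Algebra.IsAlgebraic.isAlgebraic d)
  apply this
  rw [eq_bot_iff]
  intro r hr
  rw [Ideal.mem_comap, RingHom.mem_ker] at hr
  have hr' : g r = 0 := by
    have h1 : ψ (algebraMap _ D r) = algebraMap _ Ω r := ψ.commutes r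
    have h2 : algebraMap (Algebra.adjoin K (Set.range x)) Ω r = g r := rfl
    rw [← h2, ← h1]
    exact hr
  rw [Ideal.mem_bot]
  exact hg (hr'.trans (map_zero g).symm)

end Groth.Agent.Lib.Helper53
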