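import Groth.Prelude.Def_SiteCmp
import Groth.Prelude.Def_WeakSerre

/-!
# G1 for helper62's S9074: closure properties of the inverse image under `eps_*`
-/

set_option autoImplicit false

universe u

open CategoryTheory Limits Opposite

namespace Groth.Agent.Lib.Helper53.EpsClosure

variable {D : Type u} [SmallCategory D] {K K' : GrothendieckTopology D} (h : K' ≤ K)
  (A' : ObjectProperty (Sheaf K' AddCommGrpCat.{u}))

/-- `eps_*` is fully faithful (same presheaf, same maps). -/
def epsFF : (SiteCmp.epsSh h AddCommGrpCat.{u}).FullyFaithful where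
  preimage {X Y} φ := ⟨φ.hom⟩
  map_preimage := by intros; rfl
  preimage_map := by intros; rfl

instance : (SiteCmp.epsSh h AddCommGrpCat.{u}).Full := (epsFF h).full
instance : (SiteCmp.epsSh h AddCommGrpCat.{u}).Faithful := (epsFF h).faithful

instance : (SiteCmp.epsSh h AddCommGrpCat.{u}).IsRightAdjoint := by
  haveI := SiteCmp.idContinuous h
  infer_instance

open ZeroObject in
theorem containsZero [A'.ContainsZero] [A'.IsClosedUnderIsomorphisms] :
    (A'.inverseImage (SiteCmp.epsSh h AddCommGrpCat.{u})).ContainsZero := by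
  obtain ⟨Z', hZ', hA⟩ := ObjectProperty.ContainsZero.exists_zero (P := A')
  refine ⟨⟨0, isZero_zero _, ?_⟩⟩
  have h0 : IsZero ((SiteCmp.epsSh h AddCommGrpCat.{u}).obj 0) :=
    (SiteCmp.epsSh h AddCommGrpCat.{u}).map_isZero (isZero_zero _)
  exact A'.prop_of_iso (hZ'.iso h0) hA

theorem isClosedUnderKernels [A'.IsClosedUnderKernels] :
    (A'.inverseImage (SiteCmp.epsSh h AddCommGrpCat.{u})).IsClosedUnderKernels := by
  refine ⟨?_⟩
  rintro _ ⟨f, k, hk, hX, hY⟩
  exact A'.prop_of_isLimit_kernelFork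
    (KernelFork.mapIsLimit k hk (SiteCmp.epsSh h AddCommGrpCat.{u})) hX hY

theorem isClosedUnderCokernels [A'.IsClosedUnderCokernels] [A'.IsClosedUnderIsomorphisms]
    (h3 : ∀ F' : Sheaf K' AddCommGrpCat.{u}, A' F' → Presheaf.IsSheaf K F'.obj) :
    (A'.inverseImage (SiteCmp.epsSh h AddCommGrpCat.{u})).IsClosedUnderCokernels := by
  refine ⟨?_⟩
  rintro _ ⟨f, c, hc, hX, hY⟩
  -- the cokernel downstairs
  have hQ' : A' (cokernel ((SiteCmp.epsSh h AddCommGrpCat.{u}).map f)) :=
    A'.prop_cokernel _ hX hY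
  -- it is a `K`-sheaf
  let Q'' : Sheaf K AddCommGrpCat.{u} :=
    ⟨(cokernel ((SiteCmp.epsSh h AddCommGrpCat.{u}).map f)).obj, h3 _ hQ'⟩
  let e : (SiteCmp.epsSh h AddCommGrpCat.{u}).obj Q'' ≅
      cokernel ((SiteCmp.epsSh h AddCommGrpCat.{u}).map f) :=
    { hom := ⟨𝟙 _⟩
      inv := ⟨𝟙 _⟩
      hom_inv_id := by ext : 1; exact Category.comp_id _
      inv_hom_id := by ext : 1; exact Category.comp_id _ }
  -- the projection upstairs
  let π'' : _ ⟶ Q'' := (epsFF h).preimage
    (cokernel.π ((SiteCmp.epsSh h AddCommGrpCat.{u}).map f) ≫ e.inv)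
  have hπ'' : (SiteCmp.epsSh h AddCommGrpCat.{u}).map π'' =
      cokernel.π ((SiteCmp.epsSh h AddCommGrpCat.{u}).map f) ≫ e.inv :=
    (epsFF h).map_preimage _
  have hw : f ≫ π'' = 0 := by
    apply (SiteCmp.epsSh h AddCommGrpCat.{u}).map_injective
    rw [Functor.map_comp, hπ'', ← Category.assoc, cokernel.condition, zero_comp, Functor.map_zero]
  let c'' : CokernelCofork f := CokernelCofork.ofπ π'' hw
  have hmap : IsColimit (c''.map (SiteCmp.epsSh h AddCommGrpCat.{u})) := by
    refine IsColimit.ofIsoColimit (cokernelIsCokernel ((SiteCmp.epsSh h AddCommGrpCat.{u}).map f))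
      (Cofork.ext e.symm ?_)
    exact hπ''.symm
  have hc'' : IsColimit c'' :=
    isColimitOfReflects (SiteCmp.epsSh h AddCommGrpCat.{u})
      ((CokernelCofork.isColimitMapCoconeEquiv c'' _).symm hmap)
  have i : c.pt ≅ Q'' := hc.coconePointUniqueUpToIso hc''
  exact A'.prop_of_iso (e.symm ≪≫ ((SiteCmp.epsSh h AddCommGrpCat.{u}).mapIso i).symm) hQ'

end Groth.Agent.Lib.Helper53.EpsClosure
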