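import Groth.Agent.Lib.Helper53.PullFree
import Groth.Agent.Lib.Helper53.LocVanish
import Groth.Agent.Lib.Helper53.AdjSingle

/-!
# Direct images along a morphism of ringed sites whose higher direct images vanish on a class of
modules (helper53)
-/

set_option autoImplicit false
universe u
open CategoryTheory Limits Opposite Abelian

namespace Groth.Agent.Lib.Helper53.EpsCmp

open Groth.Agent.Lib.Helper53.ModLoc Groth.Agent.Lib.Helper53.LocData

section LocEpi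

variable {C : Type u} [SmallCategory C] {J : GrothendieckTopology C}
  {𝒜 : Type (u + 1)} [Category.{u} 𝒜] [Abelian 𝒜] (D : LocData C J 𝒜)

/-- a morphism through which sections lift locally is an epimorphism -/
lemma epi_of_local_lift {A B : 𝒜} (φ : A ⟶ B)
    (h : ∀ (U : C) (g : D.T U ⟶ B), ∃ (ι : Type u) (Y : ι → C) (gY : ∀ i, Y i ⟶ U),
      Sieve.ofArrows Y gY ∈ J U ∧ ∀ i, ∃ l : D.T (Y i) ⟶ A, l ≫ φ = D.Tmap (gY i) ≫ g) :
    Epi φ := by
  apply D.epi_of_locSurj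
  refine ⟨fun {U} s => ?_⟩
  obtain ⟨ι, Yc, gc, hcov, hl⟩ := h U ((D.sec U B).symm s)
  refine J.superset_covering ?_ hcov
  change Sieve.generate (Presieve.ofArrows Yc gc) ≤ _
  rw [Sieve.generate_le_iff]
  rintro W b ⟨i⟩
  obtain ⟨l, hl⟩ := hl i
  refine ⟨D.sec (Yc i) A l, ?_⟩
  have h1 := D.sec_right (Yc i) φ l
  have h2 := D.sec_left (gc i) B ((D.sec U B).symm s)
  rw [AddEquiv.apply_symm_apply] at h2
  rw [hl] at h1
  exact h1.symm.trans h2

end LocEpi

variable {C : Type u} [SmallCategory C] {J : GrothendieckTopology C} {O_C : Sheaf J CommRingCat.{u}}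
  {D : Type u} [SmallCategory D] {K : GrothendieckTopology D} {O_D : Sheaf K CommRingCat.{u}}
  (f : ModSite.RMor O_C O_D)

section PushEpi

variable [HasExt.{u} (ModSite.Mod O_C)]

/-- `f_*` preserves the epimorphism of a short exact sequence whose kernel has vanishing `H^1` on a
basis -/
theorem epi_push_map (S : ShortComplex (ModSite.Mod O_C)) (hS : S.ShortExact) (B' : Set D)
    (hB' : ∀ U : D, ∃ (ι : Type u) (Y : ι → D) (g : ∀ i, Y i ⟶ U),
      Sieve.ofArrows Y g ∈ K U ∧ ∀ i, Y i ∈ B')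
    (hv : ∀ V' ∈ B', Subsingleton
      (Ext.{u} (Tm J (ModSite.ringSh O_C) (f.fn.obj V')) S.X₁ 1)) :
    Epi (f.push.map S.g) := by
  apply epi_of_local_lift (modLocData K (ModSite.ringSh O_D))
  intro U g
  obtain ⟨ι, Y, gY, hcov, hYB⟩ := hB' U
  refine ⟨ι, Y, gY, hcov, fun i => ?_⟩
  obtain ⟨e⟩ := PullFree.nonempty_pull_Tm_iso f (Y i)
  let gi : Tm K (ModSite.ringSh O_D) (Y i) ⟶ f.push.obj S.X₃ :=
    TmMap K (ModSite.ringSh O_D) (gY i) ≫ g
  let x : f.pull.obj (Tm K (ModSite.ringSh O_D) (Y i)) ⟶ S.X₃ := (f.adj.homEquiv _ _).symm gi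
  haveI := hv (Y i) (hYB i)
  obtain ⟨y₂, hy₂⟩ := Ext.covariant_sequence_exact₃ _ hS (Ext.mk₀ (e.inv ≫ x))
    (rfl : 0 + 1 = 1) (Subsingleton.elim _ _)
  have hy₂' : y₂ = Ext.mk₀ (Ext.addEquiv₀ y₂) := (Ext.addEquiv₀.symm_apply_apply y₂).symm
  rw [hy₂', Ext.mk₀_comp_mk₀] at hy₂
  have hy : Ext.addEquiv₀ y₂ ≫ S.g = e.inv ≫ x := Ext.addEquiv₀.symm.injective hy₂
  refine ⟨f.adj.homEquiv _ _ (e.hom ≫ Ext.addEquiv₀ y₂), ?_⟩
  show f.adj.homEquiv _ _ (e.hom ≫ Ext.addEquiv₀ y₂) ≫ f.push.map S.g = gi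
  rw [← Adjunction.homEquiv_naturality_right, Category.assoc, hy, e.hom_inv_id_assoc]
  exact (f.adj.homEquiv _ _).apply_symm_apply gi

end PushEpi

section Vanish

universe w w'

open DerivedCategory

variable [HasDerivedCategory.{w} (ModSite.Mod O_C)] [HasDerivedCategory.{w'} (ModSite.Mod O_D)]
  [PreservesFiniteLimits f.pull]
  {R : DerivedCategory (ModSite.Mod O_C) ⥤ DerivedCategory (ModSite.Mod O_D)}
  (adj : f.pull.mapDerivedCategory ⊣ R)

include adj in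
lemma subsingleton_hom_rightAdjoint (V' : D) (X : DerivedCategory (ModSite.Mod O_C)) (k : ℤ)
    (hC : Subsingleton ((singleFunctor (ModSite.Mod O_C) 0).obj
      (Tm J (ModSite.ringSh O_C) (f.fn.obj V')) ⟶ X⟦k⟧)) :
    Subsingleton ((singleFunctor (ModSite.Mod O_D) 0).obj (Tm K (ModSite.ringSh O_D) V') ⟶
      (R.obj X)⟦k⟧) := by
  let _ : R.CommShift ℤ := adj.rightAdjointCommShift ℤ
  obtain ⟨e⟩ := PullFree.nonempty_pull_Tm_iso f V'
  let eT : f.pull.mapDerivedCategory.obj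
      ((singleFunctor (ModSite.Mod O_D) 0).obj (Tm K (ModSite.ringSh O_D) V')) ≅
      (singleFunctor (ModSite.Mod O_C) 0).obj (f.pull.obj (Tm K (ModSite.ringSh O_D) V')) :=
    (f.pull.mapDerivedCategorySingleFunctor 0).app _
  let eS := (singleFunctor (ModSite.Mod O_C) 0).mapIso e
  have h4 : Subsingleton (f.pull.mapDerivedCategory.obj
      ((singleFunctor (ModSite.Mod O_D) 0).obj (Tm K (ModSite.ringSh O_D) V')) ⟶ X⟦k⟧) := by
    refine ⟨fun x y => ?_⟩
    have h : eS.inv ≫ eT.inv ≫ x = eS.inv ≫ eT.inv ≫ y := hC.elim _ _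
    have h' := (cancel_epi eS.inv).1 h
    exact (cancel_epi eT.inv).1 h'
  refine ⟨fun x y => ?_⟩
  let c := (R.commShiftIso k).app X
  have h : (adj.homEquiv _ _).symm (x ≫ c.inv) = (adj.homEquiv _ _).symm (y ≫ c.inv) :=
    h4.elim _ _
  have h' := (adj.homEquiv _ _).symm.injective h
  exact (cancel_mono c.inv).1 h'

include adj in
/-- `H^m(Rf_* X) = 0` as soon as `Hom(T_{u V'}, X[m]) = 0` on a basis -/
theorem isZero_homology_rightAdjoint (X : DerivedCategory (ModSite.Mod O_C)) (m : ℤ) (B' : Set D)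
    (hB' : ∀ U : D, ∃ (ι : Type u) (Y : ι → D) (g : ∀ i, Y i ⟶ U),
      Sieve.ofArrows Y g ∈ K U ∧ ∀ i, Y i ∈ B')
    (hv : ∀ V' ∈ B', Subsingleton ((singleFunctor (ModSite.Mod O_C) 0).obj
      (Tm J (ModSite.ringSh O_C) (f.fn.obj V')) ⟶ X⟦m⟧)) :
    IsZero ((homologyFunctor (ModSite.Mod O_D) m).obj (R.obj X)) :=
  LocVanish.isZero_homology_of_subsingleton_HDU (modLocData K (ModSite.ringSh O_D)) (R.obj X) m B'
    hB' (fun V' hV' => subsingleton_hom_rightAdjoint f adj V' X m (hv V' hV'))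

variable [HasExt.{u} (ModSite.Mod O_C)]

include adj in
/-- the derived unit at `f_* F` is invertible if `F ≅ f^* f_* F` and `H^n(u V', f^* f_* F) = 0` for
`n > 0` on a basis -/
theorem isIso_unit_single_push (F : ModSite.Mod O_C) [IsIso (f.adj.counit.app F)] (B' : Set D)
    (hB' : ∀ U : D, ∃ (ι : Type u) (Y : ι → D) (g : ∀ i, Y i ⟶ U),
      Sieve.ofArrows Y g ∈ K U ∧ ∀ i, Y i ∈ B')
    (hv : ∀ V' ∈ B', ∀ n : ℕ, 0 < n → Subsingleton
      (Ext.{u} (Tm J (ModSite.ringSh O_C) (f.fn.obj V')) (f.pull.obj (f.push.obj F)) n)) :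
    IsIso (adj.unit.app ((singleFunctor (ModSite.Mod O_D) 0).obj (f.push.obj F))) := by
  refine AdjSingle.isIso_unit_single f.adj adj F (fun p hp => ?_)
  obtain ⟨n, rfl⟩ := Int.eq_ofNat_of_zero_le hp.le
  have hn : 0 < n := by exact_mod_cast hp
  refine isZero_homology_rightAdjoint f adj _ (n : ℤ) B' hB' (fun V' hV' => ?_)
  let ξ : f.pull.mapDerivedCategory.obj
      ((singleFunctor (ModSite.Mod O_D) 0).obj (f.push.obj F)) ≅
      (singleFunctor (ModSite.Mod O_C) 0).obj (f.pull.obj (f.push.obj F)) :=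
    (f.pull.mapDerivedCategorySingleFunctor 0).app _
  haveI := hv V' hV' n hn
  have h1 : Subsingleton ((singleFunctor (ModSite.Mod O_C) 0).obj
      (Tm J (ModSite.ringSh O_C) (f.fn.obj V')) ⟶
      ((singleFunctor (ModSite.Mod O_C) 0).obj (f.pull.obj (f.push.obj F)))⟦(n : ℤ)⟧) :=
    (Ext.homEquiv (X := Tm J (ModSite.ringSh O_C) (f.fn.obj V'))
      (Y := f.pull.obj (f.push.obj F)) (n := n)).symm.subsingleton
  refine ⟨fun x y => ?_⟩
  have h : x ≫ ξ.hom⟦(n : ℤ)⟧' = y ≫ ξ.hom⟦(n : ℤ)⟧' := h1.elim _ _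
  exact (cancel_mono _).1 h

end Vanish

end Groth.Agent.Lib.Helper53.EpsCmp
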