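import Groth.Agent.Lib.Helper53.ExtPreR

set_option autoImplicit false

namespace Groth.Agent.Lib.Helper53.ExtZeroR

universe u
open CategoryTheory Limits Opposite
open Groth.Agent.Lib.Helper53.ExtPreR

variable {C : Type u} [SmallCategory C] {J : GrothendieckTopology C} (A : Sheaf J RingCat.{u})
  (U : C)

abbrev SM : Type (u + 1) := SheafOfModules.{u} A

noncomputable def fgt : SM A ⥤ PM A := SheafOfModules.forget A

noncomputable def shf : PM A ⥤ SM A := PresheafOfModules.sheafification (𝟙 A.obj)

noncomputable def adjS : shf A ⊣ fgt A :=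
  PresheafOfModules.sheafificationAdjunction (𝟙 A.obj)

noncomputable abbrev restr : SM A ⥤ SM (A.over U) := SheafOfModules.overFunctor.{u} A U

noncomputable def L : SM (A.over U) ⥤ SM A := fgt (A.over U) ⋙ extPre A U ⋙ shf A

noncomputable def adj' : (extPre A U ⋙ shf A) ⊣ (fgt A ⋙ pushPre A U) :=
  (adjPre A U).comp (adjS A)

noncomputable def comm2 : fgt A ⋙ pushPre A U ≅ restr A U ⋙ fgt (A.over U) :=
  NatIso.ofComponents (fun M => Iso.refl _) (by
    intro M N f
    rfl)

noncomputable def fgtFF : (fgt (A.over U)).FullyFaithful :=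
  SheafOfModules.fullyFaithfulForget (A.over U)

noncomputable def adjL : L A U ⊣ restr A U :=
  (adj' A U).restrictFullyFaithful (fgtFF A U) (Functor.FullyFaithful.id _)
    (Iso.refl _ : fgt (A.over U) ⋙ (extPre A U ⋙ shf A) ≅ L A U ⋙ 𝟭 _)
    (Functor.leftUnitor _ ≪≫ comm2 A U)

lemma L_map_mono {G G' : SM (A.over U)} (f : G ⟶ G') [Mono f] : Mono ((L A U).map f) := by
  have h2 : PreservesFiniteLimits (fgt (A.over U)) :=
    inferInstanceAs (PreservesFiniteLimits (SheafOfModules.forget (A.over U)))
  have h3 : PreservesFiniteLimits (shf A) :=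
    inferInstanceAs (PreservesFiniteLimits
      (PresheafOfModules.sheafification (𝟙 A.obj)))
  have m1 : Mono ((fgt (A.over U)).map f) := inferInstance
  have m2 : Mono ((extPre A U).map ((fgt (A.over U)).map f)) :=
    PresheafOfModules.mono_of_injective (fun X =>
      extMap_app_injective _ (fun Y => PresheafOfModules.injective_of_mono _ Y) X)
  exact inferInstanceAs (Mono ((shf A).map ((extPre A U).map ((fgt (A.over U)).map f))))

lemma L_map_eq_zero {G G' : SM (A.over U)} (f : G ⟶ G') (h : (L A U).map f = 0) : f = 0 := by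
  apply SheafOfModules.hom_ext
  apply PresheafOfModules.hom_ext
  intro X
  ext x
  let G₀ := (fgt (A.over U)).obj G
  let G₀' := (fgt (A.over U)).obj G'
  let ψ : extObj G₀ ⟶ extObj G₀' := (extPre A U).map ((fgt (A.over U)).map f)
  have hψ : (shf A).map ψ = 0 := h
  have hu : ψ ≫ (adjS A).unit.app (extObj G₀') = 0 := by
    have := (adjS A).unit.naturality ψ
    simp only [Functor.id_map, Functor.comp_map] at this
    rw [this, hψ]
    have : (fgt A).map (0 : (shf A).obj (extObj G₀) ⟶ (shf A).obj (extObj G₀')) = 0 := rfl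
    rw [this, Limits.comp_zero]
  let V := X.unop.left
  let φ : V ⟶ U := X.unop.hom
  let y : cmp G₀' φ := appLin ((fgt (A.over U)).map f) φ x
  have h1 : ψ.app (op V) (ι G₀ φ x) = ι G₀' φ y := extMap_app_ι _ φ x
  have h2 : ((adjS A).unit.app (extObj G₀')).app (op V) (ι G₀' φ y) = 0 := by
    rw [← h1]
    exact CategoryTheory.congr_fun (congrArg (fun t => t.app (op V)) hu) (ι G₀ φ x)
  have hinj : Presheaf.IsLocallyInjective J
      ((PresheafOfModules.toPresheaf _).map ((adjS A).unit.app (extObj G₀'))) :=
    inferInstanceAs (Presheaf.IsLocallyInjective J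
      (CategoryTheory.toSheafify J (extObj G₀').presheaf))
  have hS := Presheaf.equalizerSieve_mem J
    ((PresheafOfModules.toPresheaf _).map ((adjS A).unit.app (extObj G₀')))
    (X := op V) (ι G₀' φ y) 0 (h2.trans (map_zero _).symm)
  have hcov := J.overEquiv_symm_mem_over X.unop _ hS
  refine G'.isSheaf.isSeparated _ _ hcov _ _ ?_
  intro Z a ha
  rw [Sieve.overEquiv_symm_iff] at ha
  have h3 : (extObj G₀').map a.left.op (ι G₀' φ y) = 0 := ha.trans (map_zero _)
  have h3' : ι G₀' (a.left ≫ φ) (cmpMap G₀' a.left φ y) = 0 :=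
    (extObj_map_ι G₀' a.left φ y).symm.trans h3
  have h4 := ι_congr G₀' (Over.w a).symm a (Over.homMk a.left) rfl y
  have h5 : ι G₀' Z.hom (G₀'.map a.op y) = 0 := h4.trans h3'
  have h6 : G₀'.map a.op y = 0 := ι_injective G₀' Z.hom (h5.trans (map_zero _).symm)
  exact h6.trans (map_zero _).symm

set_option backward.isDefEq.respectTransparency.types false in
theorem isRightAdjoint_restr : (restr A U).IsRightAdjoint :=
  (adjL A U).isRightAdjoint

theorem main (L' : SM (A.over U) ⥤ SM A) (adj : L' ⊣ restr A U) :
    PreservesFiniteLimits L' ∧ PreservesFiniteColimits L' ∧ L'.Faithful := by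
  let e : L' ≅ L A U := adj.leftAdjointUniq (adjL A U)
  have hc : PreservesFiniteColimits L' := by
    have : PreservesColimitsOfSize.{u, u} L' := adj.leftAdjoint_preservesColimits
    exact PreservesColimitsOfSize.preservesFiniteColimits _
  have hla : L'.IsLeftAdjoint := adj.isLeftAdjoint
  have hz : L'.PreservesZeroMorphisms := inferInstance
  have hb : PreservesBinaryBiproducts L' :=
    preservesBinaryBiproducts_of_preservesBinaryCoproducts L'
  have hadd : L'.Additive := Functor.additive_of_preservesBinaryBiproducts L'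
  have hmonoL : (L A U).PreservesMonomorphisms := ⟨fun f _ => L_map_mono A U f⟩
  have hmono : L'.PreservesMonomorphisms :=
    (Functor.PreservesMonomorphisms.iso_iff e).mpr hmonoL
  refine ⟨?_, hc, ?_⟩
  · rw [Functor.preservesFiniteLimits_iff_forall_exact_map_and_mono]
    intro S hS
    have := hS.mono_f
    exact ⟨((Functor.preservesFiniteColimits_iff_forall_exact_map_and_epi L').mp
      hc S hS).1, inferInstance⟩
  · constructor
    intro G G' f g hfg
    have h0 : L'.map (f - g) = 0 := by
      rw [Functor.map_sub, hfg, sub_self]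
    have h1 : (L A U).map (f - g) = 0 := by
      have := e.hom.naturality (f - g)
      rw [h0, Limits.zero_comp] at this
      rw [← cancel_epi (e.hom.app G), ← this, Limits.comp_zero]
    exact sub_eq_zero.mp (L_map_eq_zero A U _ h1)

end Groth.Agent.Lib.Helper53.ExtZeroR
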