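import Mathlib.RingTheory.GradedAlgebra.Homogeneous.Ideal
import Mathlib.RingTheory.GradedAlgebra.FiniteType
import Mathlib.RingTheory.GradedAlgebra.Noetherian
import Mathlib.RingTheory.FiniteType
import Mathlib.Algebra.DirectSum.Internal
import Mathlib.Algebra.Algebra.Operations

set_option autoImplicit false
universe u

namespace Groth.Agent.Lib.Helper53

open DirectSum

variable {R A : Type u} [CommRing R] [CommRing A] [Algebra R A]
  (𝒜 : ℕ → Submodule R A) [GradedAlgebra 𝒜]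

/-- A homogeneous element of degree `m` lying in the ideal spanned by a set `E` of homogeneous
elements is a sum of products `c * e` with `e ∈ E` and `c` homogeneous of complementary degree. -/
theorem mem_closure_of_mem_span (E : Set A) (deg : A → ℕ) (hdeg : ∀ e ∈ E, e ∈ 𝒜 (deg e))
    {m : ℕ} {a : A} (ha : a ∈ 𝒜 m) (haE : a ∈ Ideal.span E) :
    a ∈ AddSubmonoid.closure
      {x : A | ∃ e ∈ E, ∃ c ∈ 𝒜 (m - deg e), deg e ≤ m ∧ x = c * e} := by
  classical
  rw [← decompose_of_mem_same 𝒜 ha]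
  obtain ⟨f, t, htE, -, rfl⟩ := Submodule.mem_span_iff_exists_finset_subset.1 haE
  rw [decompose_sum, DFinsupp.finsetSum_apply, AddSubmonoidClass.coe_finsetSum]
  refine sum_mem fun e he ↦ ?_
  have heE : e ∈ E := htE he
  rw [smul_eq_mul]
  by_cases hle : deg e ≤ m
  · rw [coe_decompose_mul_of_right_mem_of_le 𝒜 (hdeg e heE) hle]
    exact AddSubmonoid.subset_closure ⟨e, heE, _, SetLike.coe_mem _, hle, rfl⟩
  · rw [coe_decompose_mul_of_right_mem_of_not_le 𝒜 (hdeg e heE) hle]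
    exact zero_mem _

theorem span_le_irrelevant (E : Set A) (hE : ∀ e ∈ E, ∃ d : ℕ, 0 < d ∧ e ∈ 𝒜 d) :
    Ideal.span E ≤ (HomogeneousIdeal.irrelevant 𝒜).toIdeal :=
  Ideal.span_le.2 fun e he ↦ by
    obtain ⟨d, hd, hed⟩ := hE e he
    exact HomogeneousIdeal.mem_irrelevant_of_mem 𝒜 hd hed

theorem irrelevant_le_span_of_adjoin_eq_top (E : Set A)
    (hE : ∀ e ∈ E, ∃ d : ℕ, 0 < d ∧ e ∈ 𝒜 d) (h : Algebra.adjoin (𝒜 0) E = ⊤) :
    (HomogeneousIdeal.irrelevant 𝒜).toIdeal ≤ Ideal.span E := by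
  intro a ha
  have key : ∀ x ∈ Algebra.adjoin (𝒜 0) E, ∃ c ∈ 𝒜 0, x - c ∈ Ideal.span E := by
    intro x hx
    induction hx using Algebra.adjoin_induction with
    | mem x hx => exact ⟨0, zero_mem _, by simpa using Ideal.subset_span hx⟩
    | algebraMap r => exact ⟨r, r.2, by simp⟩
    | add x y _ _ hx hy =>
      obtain ⟨c, hc, hxc⟩ := hx
      obtain ⟨d, hd, hyd⟩ := hy
      refine ⟨c + d, add_mem hc hd, ?_⟩
      have : x + y - (c + d) = (x - c) + (y - d) := by ring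
      rw [this]
      exact add_mem hxc hyd
    | mul x y _ _ hx hy =>
      obtain ⟨c, hc, hxc⟩ := hx
      obtain ⟨d, hd, hyd⟩ := hy
      refine ⟨c * d, ?_, ?_⟩
      · simpa using SetLike.mul_mem_graded hc hd
      · have : x * y - c * d = (x - c) * y + c * (y - d) := by ring
        rw [this]
        exact add_mem (Ideal.mul_mem_right _ _ hxc) (Ideal.mul_mem_left _ _ hyd)
  obtain ⟨c, hc, hac⟩ := key a (h ▸ Algebra.mem_top)
  have hc' : c ∈ (HomogeneousIdeal.irrelevant 𝒜).toIdeal := by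
    have := sub_mem ha (span_le_irrelevant 𝒜 E hE hac)
    simpa using this
  have hc0 : c = 0 := by
    have h1 : (decompose 𝒜 c 0 : A) = 0 := hc'
    rwa [decompose_of_mem_same 𝒜 hc] at h1
  simpa [hc0] using hac

theorem adjoin_eq_top_of_irrelevant_le_span (E : Set A)
    (hE : ∀ e ∈ E, ∃ d : ℕ, 0 < d ∧ e ∈ 𝒜 d)
    (h : (HomogeneousIdeal.irrelevant 𝒜).toIdeal ≤ Ideal.span E) :
    Algebra.adjoin (𝒜 0) E = ⊤ := by
  classical
  choose! deg hdeg0 hdeg using hE
  have key : ∀ n : ℕ, ∀ a ∈ 𝒜 n, a ∈ Algebra.adjoin (𝒜 0) E := by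
    intro n
    induction n using Nat.strong_induction_on with
    | _ n ih =>
      intro a ha
      rcases Nat.eq_zero_or_pos n with rfl | hn
      · exact (Algebra.adjoin (𝒜 0) E).algebraMap_mem ⟨a, ha⟩
      · have haE : a ∈ Ideal.span E := h (HomogeneousIdeal.mem_irrelevant_of_mem 𝒜 hn ha)
        have := mem_closure_of_mem_span 𝒜 E deg hdeg ha haE
        refine AddSubmonoid.closure_induction ?_ ?_ ?_ this
        · rintro x ⟨e, heE, c, hc, hle, rfl⟩
          refine mul_mem (ih _ ?_ c hc) (Algebra.subset_adjoin heE)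
          have := hdeg0 e heE
          omega
        · exact zero_mem _
        · intro x y _ _ hx hy
          exact add_mem hx hy
  rw [eq_top_iff]
  intro a _
  rw [← DirectSum.sum_support_decompose 𝒜 a]
  exact sum_mem fun i _ ↦ key i _ (SetLike.coe_mem _)

theorem finiteType_of_irrelevant_fg (h : (HomogeneousIdeal.irrelevant 𝒜).toIdeal.FG) :
    Algebra.FiniteType (𝒜 0) A := by
  classical
  obtain ⟨T, hT⟩ := h
  let T' : Finset A := T.biUnion fun t ↦
    (decompose 𝒜 t).support.image fun i ↦ (decompose 𝒜 t i : A)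
  have hT' : ∀ e ∈ (T' : Set A), ∃ d : ℕ, 0 < d ∧ e ∈ 𝒜 d := by
    intro e he
    simp only [T', Finset.coe_biUnion, Finset.coe_image, Set.mem_iUnion, Set.mem_image,
      Finset.mem_coe, DFinsupp.mem_support_toFun, exists_prop] at he
    obtain ⟨t, ht, i, hi, rfl⟩ := he
    refine ⟨i, Nat.pos_of_ne_zero ?_, SetLike.coe_mem _⟩
    rintro rfl
    have ht' : t ∈ (HomogeneousIdeal.irrelevant 𝒜).toIdeal := hT ▸ Ideal.subset_span ht
    have h0 : (decompose 𝒜 t 0 : A) = 0 := ht'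
    exact hi (Subtype.ext h0)
  have hle : (HomogeneousIdeal.irrelevant 𝒜).toIdeal ≤ Ideal.span (T' : Set A) := by
    rw [← hT, Ideal.span_le]
    intro t ht
    rw [SetLike.mem_coe, ← DirectSum.sum_support_decompose 𝒜 t]
    refine sum_mem fun i hi ↦ Ideal.subset_span ?_
    simp only [T', Finset.coe_biUnion, Finset.coe_image, Set.mem_iUnion, Set.mem_image,
      Finset.mem_coe, exists_prop]
    exact ⟨t, ht, i, hi, rfl⟩
  exact ⟨⟨T', adjoin_eq_top_of_irrelevant_le_span 𝒜 _ hT' hle⟩⟩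

theorem irrelevant_fg_of_finiteType [Algebra.FiniteType (𝒜 0) A] :
    (HomogeneousIdeal.irrelevant 𝒜).toIdeal.FG := by
  obtain ⟨s, hs, hs'⟩ := GradedAlgebra.exists_finset_adjoin_eq_top_and_homogeneous_ne_zero 𝒜
  have hE : ∀ e ∈ (s : Set A), ∃ d : ℕ, 0 < d ∧ e ∈ 𝒜 d := fun e he ↦ by
    obtain ⟨n, hn, hen⟩ := hs' e he
    exact ⟨n, Nat.pos_of_ne_zero hn, hen⟩
  exact ⟨s, (le_antisymm (irrelevant_le_span_of_adjoin_eq_top 𝒜 _ hE hs)
    (span_le_irrelevant 𝒜 _ hE)).symm⟩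

end Groth.Agent.Lib.Helper53
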