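import Groth.Agent.Lib.Helper53.Graded

set_option autoImplicit false
universe u

namespace Groth.Agent.Lib.Helper53

open DirectSum

variable {R A : Type u} [CommRing R] [CommRing A] [Algebra R A]
  (𝒜 : ℕ → Submodule R A) [GradedAlgebra 𝒜]

theorem exists_forall_le_subset_irrelevant_pow [Algebra.FiniteType (𝒜 0) A]
    (n : ℕ) (hn : 0 < n) :
    ∃ m₀ : ℕ, ∀ m : ℕ, m₀ ≤ m →
      (𝒜 m : Set A) ⊆ ((HomogeneousIdeal.irrelevant 𝒜).toIdeal ^ n : Ideal A) := by
  classical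
  obtain ⟨s, hs, hs'⟩ := GradedAlgebra.exists_finset_adjoin_eq_top_and_homogeneous_ne_zero 𝒜
  have hE : ∀ e ∈ (s : Set A), ∃ d : ℕ, 0 < d ∧ e ∈ 𝒜 d := fun e he ↦ by
    obtain ⟨n, hn, hen⟩ := hs' e he
    exact ⟨n, Nat.pos_of_ne_zero hn, hen⟩
  have hspan : (HomogeneousIdeal.irrelevant 𝒜).toIdeal ≤ Ideal.span (s : Set A) :=
    irrelevant_le_span_of_adjoin_eq_top 𝒜 _ hE hs
  choose! deg hdeg0 hdeg using hE
  induction n, hn using Nat.le_induction with
  | base =>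
    refine ⟨1, fun m hm a ha ↦ ?_⟩
    rw [pow_one]
    exact HomogeneousIdeal.mem_irrelevant_of_mem 𝒜 (by omega) ha
  | succ n hn ih =>
    obtain ⟨m₀, hm₀⟩ := ih
    refine ⟨m₀ + s.sup deg + 1, fun m hm a ha ↦ ?_⟩
    have haI : a ∈ (HomogeneousIdeal.irrelevant 𝒜).toIdeal :=
      HomogeneousIdeal.mem_irrelevant_of_mem 𝒜 (by omega) ha
    have := mem_closure_of_mem_span 𝒜 (s : Set A) deg hdeg ha (hspan haI)
    refine AddSubmonoid.closure_induction ?_ ?_ ?_ this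
    · rintro x ⟨e, heE, c, hc, hle, rfl⟩
      rw [SetLike.mem_coe, pow_succ]
      refine Ideal.mul_mem_mul (hm₀ _ ?_ hc) ?_
      · have : deg e ≤ s.sup deg := Finset.le_sup (f := deg) heE
        omega
      · obtain hd := hdeg0 e heE
        exact HomogeneousIdeal.mem_irrelevant_of_mem 𝒜 hd (hdeg e heE)
    · exact zero_mem _
    · intro x y _ _ hx hy
      exact add_mem hx hy

end Groth.Agent.Lib.Helper53
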