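import Groth.Agent.Lib.Helper53.Graded2

set_option autoImplicit false
universe u

namespace Groth.Agent.Lib.Helper53

open DirectSum

variable {R A : Type u} [CommRing R] [CommRing A] [Algebra R A]
  (𝒜 : ℕ → Submodule R A) [GradedAlgebra 𝒜]

/-- Every homogeneous element of degree `n` is a sum of degree-zero multiples of monomials of
weight `n` in the generators. -/
theorem mem_closure_monomials (s : Finset A) (deg : A → ℕ)
    (hdeg0 : ∀ e ∈ s, 0 < deg e) (hdeg : ∀ e ∈ s, e ∈ 𝒜 (deg e))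
    (hspan : (HomogeneousIdeal.irrelevant 𝒜).toIdeal ≤ Ideal.span (s : Set A)) :
    ∀ n : ℕ, ∀ a ∈ 𝒜 n, a ∈ AddSubmonoid.closure
      {y : A | ∃ c ∈ 𝒜 0, ∃ α : A → ℕ, ∑ e ∈ s, α e * deg e = n ∧ y = c * ∏ e ∈ s, e ^ α e} := by
  classical
  intro n
  induction n using Nat.strong_induction_on with
  | _ n ih =>
    intro a ha
    rcases Nat.eq_zero_or_pos n with rfl | hn
    · refine AddSubmonoid.subset_closure ⟨a, ha, fun _ ↦ 0, by simp, by simp⟩
    · have haE : a ∈ Ideal.span (s : Set A) :=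
        hspan (HomogeneousIdeal.mem_irrelevant_of_mem 𝒜 hn ha)
      have := mem_closure_of_mem_span 𝒜 (s : Set A) deg hdeg ha haE
      refine AddSubmonoid.closure_induction ?_ ?_ ?_ this
      · rintro x ⟨e, heE, c, hc, hle, rfl⟩
        have hlt : n - deg e < n := by
          have := hdeg0 e heE
          omega
        have hc' := ih _ hlt c hc
        refine AddSubmonoid.closure_induction ?_ ?_ ?_ hc'
        · rintro y ⟨c', hc', α, hα, rfl⟩
          refine AddSubmonoid.subset_closure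
            ⟨c', hc', fun e' ↦ α e' + if e = e' then 1 else 0, ?_, ?_⟩
          · simp only [add_mul, Finset.sum_add_distrib, hα, ite_mul, one_mul, zero_mul,
              Finset.sum_ite_eq, Finset.mem_coe.1 heE, if_true]
            omega
          · simp only [pow_add, Finset.prod_mul_distrib, Finset.prod_pow_boole,
              Finset.mem_coe.1 heE, if_true]
            ring
        · simp
        · intro x y _ _ hx hy
          rw [add_mul]
          exact add_mem hx hy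
      · exact zero_mem _
      · intro x y _ _ hx hy
        exact add_mem hx hy

theorem monomial_mem (s : Finset A) (deg : A → ℕ) (hdeg : ∀ e ∈ s, e ∈ 𝒜 (deg e))
    (α : A → ℕ) : ∏ e ∈ s, e ^ α e ∈ 𝒜 (∑ e ∈ s, α e * deg e) := by
  have := SetLike.prod_pow_mem_graded 𝒜 deg (fun e : A ↦ e) α (F := s) hdeg
  simpa [smul_eq_mul] using this

theorem mem_mul_of_card_mul_lt (s : Finset A) (deg : A → ℕ)
    (hdeg0 : ∀ e ∈ s, 0 < deg e) (hdeg : ∀ e ∈ s, e ∈ 𝒜 (deg e))
    (hspan : (HomogeneousIdeal.irrelevant 𝒜).toIdeal ≤ Ideal.span (s : Set A))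
    (h : ℕ) (hh : ∀ e ∈ s, deg e ∣ h) (n : ℕ) (hn : s.card * h < n) :
    𝒜 n ≤ 𝒜 h * 𝒜 (n - h) := by
  classical
  intro a ha
  have := mem_closure_monomials 𝒜 s deg hdeg0 hdeg hspan n a ha
  refine AddSubmonoid.closure_induction ?_ ?_ ?_ this
  · rintro y ⟨c, hc, α, hα, rfl⟩
    obtain ⟨e, hes, hlt⟩ : ∃ e ∈ s, h < α e * deg e := by
      by_contra hcon
      push Not at hcon
      have := Finset.sum_le_card_nsmul s (fun e ↦ α e * deg e) h hcon
      rw [smul_eq_mul] at this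
      omega
    obtain ⟨N, hN⟩ := hh e hes
    have hd := hdeg0 e hes
    have hNα : N ≤ α e := by
      by_contra hcon
      push Not at hcon
      have : α e * deg e ≤ N * deg e := Nat.mul_le_mul_right _ hcon.le
      rw [hN, mul_comm (deg e) N] at hlt
      omega
    have hprod : ∏ e' ∈ s, e' ^ α e' = e ^ N * (e ^ (α e - N) * ∏ e' ∈ s.erase e, e' ^ α e') := by
      rw [← Finset.mul_prod_erase s (fun e' ↦ e' ^ α e') hes, ← mul_assoc, ← pow_add,
        Nat.add_sub_cancel' hNα]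
    have hsum : (α e - N) * deg e + ∑ e' ∈ s.erase e, α e' * deg e' = n - h := by
      have h1 := Finset.add_sum_erase s (fun e' ↦ α e' * deg e') hes
      have h2 : (α e - N) * deg e = α e * deg e - N * deg e := Nat.sub_mul _ _ _
      have hN' : N * deg e = h := by rw [hN, mul_comm]
      rw [h2, hN']
      omega
    have hrest : c * (e ^ (α e - N) * ∏ e' ∈ s.erase e, e' ^ α e') ∈ 𝒜 (n - h) := by
      have h1 : e ^ (α e - N) ∈ 𝒜 ((α e - N) * deg e) := by
        simpa [smul_eq_mul] using SetLike.pow_mem_graded (α e - N) (hdeg e hes)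
      have h2 : ∏ e' ∈ s.erase e, e' ^ α e' ∈ 𝒜 (∑ e' ∈ s.erase e, α e' * deg e') :=
        monomial_mem 𝒜 (s.erase e) deg (fun e' he' ↦ hdeg e' (Finset.mem_of_mem_erase he')) α
      have h3 := SetLike.mul_mem_graded hc (SetLike.mul_mem_graded h1 h2)
      rwa [zero_add, hsum] at h3
    have heN : e ^ N ∈ 𝒜 h := by
      have := SetLike.pow_mem_graded N (hdeg e hes)
      rwa [smul_eq_mul, mul_comm, ← hN] at this
    rw [hprod]
    have : c * (e ^ N * (e ^ (α e - N) * ∏ e' ∈ s.erase e, e' ^ α e')) =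
        e ^ N * (c * (e ^ (α e - N) * ∏ e' ∈ s.erase e, e' ^ α e')) := by ring
    rw [this]
    exact Submodule.mul_mem_mul heN hrest
  · exact zero_mem _
  · intro x y _ _ hx hy
    exact add_mem hx hy

theorem mul_le_add (i j : ℕ) : 𝒜 i * 𝒜 j ≤ 𝒜 (i + j) :=
  Submodule.mul_le.2 fun _ hu _ hv ↦ SetLike.mul_mem_graded hu hv

theorem exists_forall_add_eq_mul [Algebra.FiniteType (𝒜 0) A] :
    ∃ H n₀ : ℕ, 0 < H ∧ ∀ n : ℕ, n₀ ≤ n → 𝒜 (n + H) = 𝒜 H * 𝒜 n := by
  classical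
  obtain ⟨s, hs, hs'⟩ := GradedAlgebra.exists_finset_adjoin_eq_top_and_homogeneous_ne_zero 𝒜
  have hE : ∀ e ∈ (s : Set A), ∃ d : ℕ, 0 < d ∧ e ∈ 𝒜 d := fun e he ↦ by
    obtain ⟨n, hn, hen⟩ := hs' e he
    exact ⟨n, Nat.pos_of_ne_zero hn, hen⟩
  have hspan : (HomogeneousIdeal.irrelevant 𝒜).toIdeal ≤ Ideal.span (s : Set A) :=
    irrelevant_le_span_of_adjoin_eq_top 𝒜 _ hE hs
  choose! deg hdeg0 hdeg using hE
  refine ⟨∏ e ∈ s, deg e, s.card * ∏ e ∈ s, deg e + 1,
    Finset.prod_pos fun e he ↦ hdeg0 e he, fun n hn ↦ le_antisymm ?_ ?_⟩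
  · have := mem_mul_of_card_mul_lt 𝒜 s deg (fun e he ↦ hdeg0 e he) (fun e he ↦ hdeg e he) hspan
      (∏ e ∈ s, deg e) (fun e he ↦ Finset.dvd_prod_of_mem deg he) (n + ∏ e ∈ s, deg e) (by omega)
    rwa [Nat.add_sub_cancel] at this
  · rw [add_comm n]
    exact mul_le_add 𝒜 _ _

theorem exists_forall_mul_eq_pow [Algebra.FiniteType (𝒜 0) A] :
    ∃ h : ℕ, 0 < h ∧ ∀ m : ℕ, 0 < m → 𝒜 (m * h) = (𝒜 h : Submodule R A) ^ m := by
  obtain ⟨H, n₀, hH, hstab⟩ := exists_forall_add_eq_mul 𝒜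
  have key : ∀ k n : ℕ, n₀ ≤ n → 𝒜 (n + k * H) ≤ 𝒜 (k * H) * 𝒜 n := by
    intro k
    induction k with
    | zero =>
      intro n _ a ha
      rw [zero_mul, add_zero] at ha
      rw [zero_mul, ← one_mul a]
      exact Submodule.mul_mem_mul (SetLike.one_mem_graded 𝒜) ha
    | succ k ih =>
      intro n hn
      have h1 : n + (k + 1) * H = (n + k * H) + H := by ring
      rw [h1, hstab (n + k * H) (by omega)]
      calc 𝒜 H * 𝒜 (n + k * H) ≤ 𝒜 H * (𝒜 (k * H) * 𝒜 n) := mul_le_mul' le_rfl (ih n hn)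
        _ = (𝒜 H * 𝒜 (k * H)) * 𝒜 n := (mul_assoc _ _ _).symm
        _ ≤ 𝒜 (H + k * H) * 𝒜 n := mul_le_mul' (mul_le_add 𝒜 _ _) le_rfl
        _ = 𝒜 ((k + 1) * H) * 𝒜 n := by rw [add_mul, one_mul, add_comm]
  have hn₀ : n₀ ≤ (n₀ + 1) * H := by nlinarith
  refine ⟨(n₀ + 1) * H, by positivity, fun m hm ↦ ?_⟩
  induction m, hm using Nat.le_induction with
  | base => simp
  | succ m hm ih =>
    have hmh : n₀ ≤ m * ((n₀ + 1) * H) := by nlinarith
    have h1 : (m + 1) * ((n₀ + 1) * H) = m * ((n₀ + 1) * H) + (n₀ + 1) * H := by ring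
    rw [h1, pow_succ', ← ih]
    refine le_antisymm (key (n₀ + 1) _ hmh) ?_
    exact (mul_le_add 𝒜 _ _).trans_eq (congrArg 𝒜 (Nat.add_comm _ _))

end Groth.Agent.Lib.Helper53
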