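import Groth.Agent.Lib.Helper53.Graded3
import Mathlib.Algebra.Module.GradedModule

set_option autoImplicit false
universe u

namespace Groth.Agent.Lib.Helper53

open DirectSum

variable {R A : Type u} [CommRing R] [CommRing A] [Algebra R A]
  (𝒜 : ℕ → Submodule R A) [GradedAlgebra 𝒜]
  {M : Type u} [AddCommGroup M] [Module R M] [Module A M] [IsScalarTower R A M]
  (ℳ : ℕ → Submodule R M) [DirectSum.Decomposition ℳ] [SetLike.GradedSMul 𝒜 ℳ]

theorem coe_decompose_smul_of_mem (a : A) {m : M} {k : ℕ} (hm : m ∈ ℳ k) (n : ℕ) :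
    (decompose ℳ (a • m) n : M) =
      if k ≤ n then (decompose 𝒜 a (n - k) : A) • m else 0 := by
  classical
  have hterm : ∀ i, (decompose ℳ ((decompose 𝒜 a i : A) • m) n : M) =
      if i + k = n then (decompose 𝒜 a i : A) • m else 0 := by
    intro i
    have hmem : (decompose 𝒜 a i : A) • m ∈ ℳ (i + k) := by
      have := SetLike.GradedSMul.smul_mem (A := 𝒜) (B := ℳ) (i := i) (j := k)
        (SetLike.coe_mem (decompose 𝒜 a i)) hm
      rwa [vadd_eq_add] at this
    split_ifs with h
    · subst h; exact decompose_of_mem_same ℳ hmem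
    · exact decompose_of_mem_ne ℳ hmem h
  conv_lhs =>
    rw [← DirectSum.sum_support_decompose 𝒜 a, Finset.sum_smul, decompose_sum,
      DFinsupp.finsetSum_apply, AddSubmonoidClass.coe_finsetSum]
  simp_rw [hterm]
  split_ifs with hk
  · rw [Finset.sum_eq_single (n - k)]
    · simp [Nat.sub_add_cancel hk]
    · intro i _ hi
      rw [if_neg]
      omega
    · intro hns
      rw [DFinsupp.notMem_support_iff] at hns
      simp [hns]
  · apply Finset.sum_eq_zero
    intro i _
    rw [if_neg]
    omega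

/-- Module analogue of `mem_closure_of_mem_span`. -/
theorem mem_closure_of_mem_span_module (T : Set M) (dg : M → ℕ) (hdg : ∀ m ∈ T, m ∈ ℳ (dg m))
    {n : ℕ} {x : M} (hx : x ∈ ℳ n) (hxT : x ∈ Submodule.span A T) :
    x ∈ AddSubmonoid.closure
      {y : M | ∃ m ∈ T, ∃ a ∈ 𝒜 (n - dg m), dg m ≤ n ∧ y = a • m} := by
  classical
  rw [← decompose_of_mem_same ℳ hx]
  obtain ⟨f, t, htT, -, rfl⟩ := Submodule.mem_span_iff_exists_finset_subset.1 hxT
  rw [decompose_sum, DFinsupp.finsetSum_apply, AddSubmonoidClass.coe_finsetSum]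
  refine sum_mem fun m hm ↦ ?_
  have hmT : m ∈ T := htT hm
  rw [coe_decompose_smul_of_mem 𝒜 ℳ (f m) (hdg m hmT) n]
  split_ifs with hle
  · exact AddSubmonoid.subset_closure ⟨m, hmT, _, SetLike.coe_mem _, hle, rfl⟩
  · exact zero_mem _

theorem exists_forall_eq_smul [Algebra.FiniteType (𝒜 0) A] [Module.Finite A M] :
    ∃ (n₁ h : ℕ), 0 < h ∧ ∀ n : ℕ, n₁ ≤ n →
      ℳ (n + h) = (𝒜 h : Submodule R A) • (ℳ n : Submodule R M) := by
  classical
  obtain ⟨H, n₀, hH, hstab⟩ := exists_forall_add_eq_mul 𝒜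
  obtain ⟨T₀, hT₀⟩ := (Module.Finite.fg_top : (⊤ : Submodule A M).FG)
  let T : Finset M := T₀.biUnion fun t ↦
    (decompose ℳ t).support.image fun i ↦ (decompose ℳ t i : M)
  have hT : ∀ m ∈ (T : Set M), ∃ d : ℕ, m ∈ ℳ d := by
    intro m hm
    simp only [T, Finset.coe_biUnion, Finset.coe_image, Set.mem_iUnion, Set.mem_image,
      Finset.mem_coe, exists_prop] at hm
    obtain ⟨t, _, i, _, rfl⟩ := hm
    exact ⟨i, SetLike.coe_mem _⟩
  have hspan : Submodule.span A (T : Set M) = ⊤ := by
    rw [eq_top_iff, ← hT₀, Submodule.span_le]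
    intro t ht
    rw [SetLike.mem_coe, ← DirectSum.sum_support_decompose ℳ t]
    refine sum_mem fun i hi ↦ Submodule.subset_span ?_
    simp only [T, Finset.coe_biUnion, Finset.coe_image, Set.mem_iUnion, Set.mem_image,
      Finset.mem_coe, exists_prop]
    exact ⟨t, ht, i, hi, rfl⟩
  choose! dg hdg using hT
  refine ⟨n₀ + T.sup dg, H, hH, fun n hn ↦ le_antisymm ?_ ?_⟩
  · intro x hx
    have := mem_closure_of_mem_span_module 𝒜 ℳ (T : Set M) dg hdg hx
      (hspan ▸ Submodule.mem_top)
    refine AddSubmonoid.closure_induction ?_ ?_ ?_ this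
    · rintro y ⟨m, hmT, a, ha, hle, rfl⟩
      have hdm : dg m ≤ T.sup dg := Finset.le_sup (f := dg) hmT
      have h1 : n + H - dg m = (n - dg m) + H := by omega
      rw [h1, hstab (n - dg m) (by omega)] at ha
      refine Submodule.mul_induction_on ha ?_ ?_
      · intro u hu v hv
        rw [mul_smul]
        refine Submodule.smul_mem_smul hu ?_
        have := SetLike.GradedSMul.smul_mem (A := 𝒜) (B := ℳ) (i := n - dg m) (j := dg m)
          hv (hdg m hmT)
        rwa [vadd_eq_add, Nat.sub_add_cancel (by omega)] at this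
      · intro u v hu hv
        rw [add_smul]
        exact add_mem hu hv
    · exact zero_mem _
    · intro x y _ _ hx hy
      exact add_mem hx hy
  · rw [Submodule.smul_le]
    intro a ha m hm
    have := SetLike.GradedSMul.smul_mem (A := 𝒜) (B := ℳ) (i := H) (j := n) ha hm
    rwa [vadd_eq_add, add_comm] at this

end Groth.Agent.Lib.Helper53
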