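import Groth.Prelude.Def_Grpd
import Groth.Agent.Lib.Helper41.QCClosure
import Groth.Agent.Lib.Helper53.QcGen
import Mathlib.AlgebraicGeometry.IdealSheaf.Subscheme
import Mathlib.AlgebraicGeometry.IdealSheaf.Functorial
import Mathlib.AlgebraicGeometry.Morphisms.ClosedImmersion

/-!
# Saturations for groupoid schemes

Point-level consequences of the groupoid axioms: the saturation `t (s⁻¹ A)` of a set of objects is
invariant, and its closure is invariant when `s`, `t` are flat and quasi-compact and the set is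
closed.
-/

namespace Groth.Agent.Lib.Helper53

open AlgebraicGeometry CategoryTheory CategoryTheory.Limits Grpd

universe u

variable {S : Scheme.{u}} (G : Grpd.GroupoidScheme S)

/-- the saturation of a set of objects -/
def sat (A : Set G.U) : Set G.U := ⇑G.t '' (⇑G.s ⁻¹' A)

lemma exists_comp_point (r r' : G.R) (h : G.s r = G.t r') :
    ∃ r'' : G.R, G.s r'' = G.s r' ∧ G.t r'' = G.t r := by
  obtain ⟨z, hz1, hz2⟩ := Scheme.Pullback.exists_preimage_pullback (f := G.s) (g := G.t) r r' h
  have hid : pullback.lift (pullback.fst G.s G.t) (pullback.snd G.s G.t) pullback.condition =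
      𝟙 (pullback G.s G.t) := by
    apply pullback.hom_ext <;> simp
  have h1 := G.comp_s (pullback.fst G.s G.t) (pullback.snd G.s G.t) pullback.condition
  have h2 := G.comp_t (pullback.fst G.s G.t) (pullback.snd G.s G.t) pullback.condition
  rw [hid, Category.id_comp] at h1 h2
  refine ⟨G.c z, ?_, ?_⟩
  · rw [← Scheme.Hom.comp_apply, h1, Scheme.Hom.comp_apply, hz2]
  · rw [← Scheme.Hom.comp_apply, h2, Scheme.Hom.comp_apply, hz1]

lemma s_i_apply (r : G.R) : G.s (G.i r) = G.t r := by
  rw [← Scheme.Hom.comp_apply, G.i_s]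

lemma t_i_apply (r : G.R) : G.t (G.i r) = G.s r := by
  rw [← Scheme.Hom.comp_apply, G.i_t]

lemma s_e_apply (x : G.U) : G.s (G.e x) = x := by
  rw [← Scheme.Hom.comp_apply, G.e_s]; rfl

lemma t_e_apply (x : G.U) : G.t (G.e x) = x := by
  rw [← Scheme.Hom.comp_apply, G.e_t]; rfl

lemma subset_sat (A : Set G.U) : A ⊆ sat G A := fun x hx =>
  ⟨G.e x, by rw [Set.mem_preimage, s_e_apply]; exact hx, t_e_apply G x⟩

lemma t_mem_sat_of_s_mem_sat {A : Set G.U} (r : G.R) (h : G.s r ∈ sat G A) : G.t r ∈ sat G A := by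
  obtain ⟨r', hr', hrr'⟩ := h
  obtain ⟨r'', h1, h2⟩ := exists_comp_point G r r' hrr'.symm
  exact ⟨r'', by rw [Set.mem_preimage, h1]; exact hr', h2⟩

lemma s_mem_sat_of_t_mem_sat {A : Set G.U} (r : G.R) (h : G.t r ∈ sat G A) : G.s r ∈ sat G A := by
  have := t_mem_sat_of_s_mem_sat G (A := A) (G.i r) (by rw [s_i_apply]; exact h)
  rwa [t_i_apply] at this

lemma s_mem_sat_iff {A : Set G.U} (r : G.R) : G.s r ∈ sat G A ↔ G.t r ∈ sat G A :=
  ⟨t_mem_sat_of_s_mem_sat G r, s_mem_sat_of_t_mem_sat G r⟩

/-- points of the closure of the saturation of a closed set are specializations of points of the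
saturation, when `s` and `t` are quasi-compact -/
lemma exists_specializes_of_mem_closure_sat [QuasiCompact G.t] {Z : Set G.U}
    (hZ : IsClosed Z) {y : G.U} (hy : y ∈ closure (sat G Z)) : ∃ τ ∈ sat G Z, τ ⤳ y := by
  let I := Scheme.IdealSheafData.vanishingIdeal (X := G.U) ⟨Z, hZ⟩
  have hr : Set.range (pullback.fst G.s I.subschemeι ≫ G.t) = sat G Z := by
    rw [Scheme.Hom.comp_base, TopCat.coe_comp, Set.range_comp, Scheme.Pullback.range_fst,
      Scheme.IdealSheafData.range_subschemeι, Scheme.IdealSheafData.coe_support_vanishingIdeal]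
    rfl
  rw [← hr] at hy
  obtain ⟨x, hx⟩ := Groth.Agent.Lib.Helper41.exists_specializes_of_mem_closure_range
    (pullback.fst G.s I.subschemeι ≫ G.t) y hy
  exact ⟨_, hr ▸ Set.mem_range_self x, hx⟩

/-- the closure of the saturation of a closed set is invariant -/
lemma s_mem_closure_sat_iff [QuasiCompact G.s] [QuasiCompact G.t] [Flat G.s] [Flat G.t]
    {Z : Set G.U} (hZ : IsClosed Z) (r : G.R) :
    G.s r ∈ closure (sat G Z) ↔ G.t r ∈ closure (sat G Z) := by
  constructor
  · intro h
    obtain ⟨τ, hτ, hsp⟩ := exists_specializes_of_mem_closure_sat G hZ h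
    obtain ⟨r', hr', rfl⟩ := Flat.generalizingMap G.s hsp
    have h1 : G.t r' ∈ sat G Z := t_mem_sat_of_s_mem_sat G r' hτ
    exact (hr'.map G.t.continuous).mem_closed isClosed_closure (subset_closure h1)
  · intro h
    obtain ⟨τ, hτ, hsp⟩ := exists_specializes_of_mem_closure_sat G hZ h
    obtain ⟨r', hr', rfl⟩ := Flat.generalizingMap G.t hsp
    have h1 : G.s r' ∈ sat G Z := s_mem_sat_of_t_mem_sat G r' hτ
    exact (hr'.map G.s.continuous).mem_closed isClosed_closure (subset_closure h1)

end Groth.Agent.Lib.Helper53
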