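import Groth.Agent.S7142
import Groth.Agent.S1105
import Groth.Agent.S0997
import Groth.Agent.S9498
import Groth.Agent.Lib.Helper61.K0TrK1
import Groth.Agent.Lib.Helper31.K0TrK2
import Groth.Agent.Lib.Helper2.DCohPerf
import Groth.Agent.Lib.Helper84.K0Perf

/-!
# `K₀(A) ≅ K₀(D_perf(Spec A))` (helper53, for S1029)
-/

set_option autoImplicit false
universe u
open CategoryTheory CategoryTheory.Limits AlgebraicGeometry
attribute [local instance] HasDerivedCategory.standard
open KZero
open ZeroObject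

namespace Groth.Agent.Lib.Helper53.K0Spec

lemma nonempty_tildeD_single_iso (R : CommRingCat.{u}) [PreservesFiniteLimits (tilde.functor R)]
    (M : ModuleCat.{u} R) :
    Nonempty ((DCoh.tildeD R).obj ((DerivedCategory.singleFunctor (ModuleCat.{u} R) 0).obj M) ≅
      (DerivedCategory.singleFunctor _ 0).obj ((tilde.functor R).obj M)) :=
  ⟨((tilde.functor R).mapDerivedCategorySingleFunctor 0).app M⟩

theorem main (A : Type u) [CommRing A] :
    ∃ φ : KZero.K0sub (fun M : ModuleCat.{u} A => Module.Finite A M ∧ Module.Projective A M) ≃+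
        KZero.K0tr (fun K : DCoh.D (Spec (CommRingCat.of A)) => DCoh.IsPerfect K),
      ∀ (M : ModuleCat.{u} A), Module.Finite A M → Module.Projective A M →
        φ (KZero.clSub (fun M : ModuleCat.{u} A => Module.Finite A M ∧ Module.Projective A M) M) =
          KZero.clTr (fun K : DCoh.D (Spec (CommRingCat.of A)) => DCoh.IsPerfect K) (DCoh.inD (Spec (CommRingCat.of A)) (tilde M)) := by
  haveI : PreservesFiniteLimits (tilde.functor (CommRingCat.of A)) :=
    (Groth.Agent.S9498.key (CommRingCat.of A)).1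
  haveI : PreservesFiniteColimits (tilde.functor (CommRingCat.of A)) :=
    (Groth.Agent.S9498.key (CommRingCat.of A)).2
  obtain ⟨hfull, hfaith, hess⟩ := Groth.Agent.S0997.result (CommRingCat.of A)
  obtain ⟨φ, hφ, -⟩ := Groth.Agent.S7142.result A
  have hiso : ∀ {K' L' : DCoh.D (Spec (CommRingCat.of A))}, (K' ≅ L') →
      DCoh.IsPerfect K' → DCoh.IsPerfect L' :=
    fun e h => Groth.Agent.Lib.Helper2.DCohPerf.isPerfect_of_iso e h
  have hP : ∀ K : Dual.D A, DRing.IsPerfect A K ↔
      DCoh.IsPerfect ((DCoh.tildeD (CommRingCat.of A)).obj K) :=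
    fun K => (Groth.Agent.S1105.result A K).symm
  have h0 : DCoh.IsPerfect (0 : DCoh.D (Spec (CommRingCat.of A))) := by
    have h1 : DRing.IsPerfect A (0 : Dual.D A) :=
      Groth.Agent.Lib.Helper84.DRingPerf.isPerfect_of_isZero _ (isZero_zero _)
    have h2 := (hP 0).1 h1
    have hz : IsZero ((DCoh.tildeD (CommRingCat.of A)).obj (0 : Dual.D A)) :=
      (DCoh.tildeD (CommRingCat.of A)).map_isZero (isZero_zero _)
    exact hiso (hz.iso (isZero_zero _)) h2
  obtain ⟨ψ, hψ⟩ := Groth.Agent.Lib.Helper61.K0TrK1.exists_k0tr_equiv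
    (DCoh.tildeD (CommRingCat.of A))
    (fun K : Dual.D A => DRing.IsPerfect A K)
    (fun K : DCoh.D (Spec (CommRingCat.of A)) => DCoh.IsPerfect K) hP hiso
    (fun K' hK' => (hess K').1 (Groth.Agent.Lib.Helper31.K0TrK2.isQCohD_of_isPerfect K' hK')) h0
  refine ⟨φ.trans ψ, fun M hfin hproj => ?_⟩
  have hperf : DRing.IsPerfect A (Dual.inD A M) :=
    Groth.Agent.Lib.Helper84.K0Perf.perf_single (ModuleCat.of A M) ⟨hfin, hproj⟩ 0
  have e1 := hφ M hfin hproj
  have e2 := hψ (Dual.inD A M) hperf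
  rw [AddEquiv.trans_apply]
  refine (congrArg ψ e1).trans (e2.trans ?_)
  obtain ⟨e⟩ := nonempty_tildeD_single_iso (CommRingCat.of A) (ModuleCat.of A M)
  exact Groth.Agent.Lib.Helper62.K0D.clTr_iso _ h0 e ((hP _).1 hperf) (hiso e ((hP _).1 hperf))

end Groth.Agent.Lib.Helper53.K0Spec
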