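import Mathlib

universe v u

open CategoryTheory Opposite Limits Functor

namespace Groth.Agent.Lib.Helper53.LanMono

variable {C D : Type*} [Category C] [Category D] (L : C ⥤ D) [L.Full] [L.Faithful]
  {H : Type*} [Category H] [Abelian H]
  [∀ F : C ⥤ H, HasPointwiseLeftKanExtension L F]

/-- if every object of `D` either is in the essential image of the fully faithful functor `L` or
receives no morphism from the image of `L`, then left Kan extension along `L` (extension by zero)
preserves monomorphisms -/
theorem lan_map_mono
    (hL : ∀ Y : D, (∃ X : C, Nonempty (L.obj X ≅ Y)) ∨ IsEmpty (CostructuredArrow L Y))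
    {F F' : C ⥤ H} (φ : F ⟶ F') [Mono φ] : Mono ((L.lan (H := H)).map φ) := by
  have hpt : ∀ (G : C ⥤ H),
      (LeftExtension.mk _ (L.lanUnit.app G)).IsPointwiseLeftKanExtension := fun G =>
    isPointwiseLeftKanExtensionOfIsLeftKanExtension (F := G) _ (L.lanUnit.app G)
  have hiso : ∀ (G : C ⥤ H) (X : C), IsIso ((L.lanUnit.app G).app X) := fun G X =>
    (hpt G (L.obj X)).isIso_hom_app
  have hφ : ∀ X : C, Mono (φ.app X) := fun X => inferInstance
  have hnat : ∀ X : C, (L.lanUnit.app F).app X ≫ ((L.lan (H := H)).map φ).app (L.obj X) =
      φ.app X ≫ (L.lanUnit.app F').app X := fun X =>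
    (congr_app (L.lanUnit.naturality φ) X).symm
  have key : ∀ Y : D, Mono (((L.lan (H := H)).map φ).app Y) := by
    intro Y
    rcases hL Y with ⟨X, ⟨e⟩⟩ | hY
    · have h1 : Mono (((L.lan (H := H)).map φ).app (L.obj X)) := by
        have := hiso F X
        have := hiso F' X
        have := hφ X
        have : ((L.lan (H := H)).map φ).app (L.obj X) =
            inv ((L.lanUnit.app F).app X) ≫ φ.app X ≫ (L.lanUnit.app F').app X := by
          rw [IsIso.eq_inv_comp]
          exact hnat X
        rw [this]
        infer_instance
      have h2 : ((L.lan (H := H)).map φ).app Y =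
          (L.lan.obj F).map e.inv ≫ ((L.lan (H := H)).map φ).app (L.obj X) ≫
            (L.lan.obj F').map e.hom := by
        have h3 := ((L.lan (H := H)).map φ).naturality e.inv
        rw [← Category.assoc, h3, Category.assoc, ← Functor.map_comp, e.inv_hom_id,
          CategoryTheory.Functor.map_id, Category.comp_id]
      rw [h2]
      infer_instance
    · have hz : IsZero ((L.lan.obj F).obj Y) := by
        rw [IsZero.iff_id_eq_zero]
        apply (hpt F Y).hom_ext'
        intro X f
        exact (hY.false (CostructuredArrow.mk f)).elim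
      exact ⟨fun a b _ => hz.eq_of_tgt a b⟩
  exact NatTrans.mono_of_mono_app _

end Groth.Agent.Lib.Helper53.LanMono
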