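import Mathlib

universe w v u

open CategoryTheory Opposite Limits Functor

namespace Groth.Agent.Lib.Helper53.LanMono

section Cofan

variable {𝒜 : Type*} [Category 𝒜] {ι : Type*} (t : ι → 𝒜)
  [∀ a : 𝒜, Unique (Σ i, a ⟶ t i)]
  {H : Type*} [Category H] {G : 𝒜 ⥤ H}

/-- auxiliary cocone -/
def auxCocone (s : Cofan (fun i => G.obj (t i))) : Cocone G where
  pt := s.pt
  ι :=
    { app := fun a => G.map (default : Σ i, a ⟶ t i).2 ≫ s.inj (default : Σ i, a ⟶ t i).1
      naturality := fun a b g => by
        have h : (⟨(default : Σ i, b ⟶ t i).1, g ≫ (default : Σ i, b ⟶ t i).2⟩ : Σ i, a ⟶ t i) =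
            default := Unique.eq_default _
        simp only [Functor.const_obj_obj, Functor.const_obj_map, Category.comp_id]
        rw [← h, Functor.map_comp, Category.assoc] }

/-- if a category is a disjoint union of categories with terminal objects `t i`, a colimit over
it is the coproduct of the values at the `t i` -/
def isColimitCofan {c : Cocone G} (hc : IsColimit c) :
    IsColimit (Cofan.mk c.pt (fun i => c.ι.app (t i))) :=
  Cofan.IsColimit.mk _ (fun s => hc.desc (auxCocone t s))
    (fun s i => by
      have h : (⟨i, 𝟙 (t i)⟩ : Σ j, t i ⟶ t j) = default := Unique.eq_default _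
      refine (hc.fac (auxCocone t s) (t i)).trans ?_
      change G.map (default : Σ j, t i ⟶ t j).2 ≫ s.inj (default : Σ j, t i ⟶ t j).1 = s.inj i
      rw [← h]
      simp)
    (fun s m hm => by
      refine hc.hom_ext (fun a => ?_)
      refine Eq.trans ?_ (hc.fac (auxCocone t s) a).symm
      change c.ι.app a ≫ m =
        G.map (default : Σ i, a ⟶ t i).2 ≫ s.inj (default : Σ i, a ⟶ t i).1
      have := hm (default : Σ i, a ⟶ t i).1
      change c.ι.app (t (default : Σ i, a ⟶ t i).1) ≫ m = _ at this
      rw [← this, ← Category.assoc, c.w])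

/-- a map between colimits over such a category induced by a natural transformation which is
a monomorphism at the `t i` is a monomorphism, if coproducts are exact -/
lemma mono_of_isColimit [HasColimitsOfShape (Discrete ι) H]
    [HasFiniteLimits H] [HasExactColimitsOfShape (Discrete ι) H]
    {G' : 𝒜 ⥤ H} (φ : G ⟶ G') (hφ : ∀ i, Mono (φ.app (t i)))
    {c : Cocone G} (hc : IsColimit c) {c' : Cocone G'} (hc' : IsColimit c')
    (m : c.pt ⟶ c'.pt) (hm : ∀ a, c.ι.app a ≫ m = φ.app a ≫ c'.ι.app a) : Mono m := by
  let D : Discrete ι ⥤ H := Discrete.functor (fun i => G.obj (t i))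
  let D' : Discrete ι ⥤ H := Discrete.functor (fun i => G'.obj (t i))
  let ψ : D ⟶ D' := Discrete.natTrans (fun i => φ.app (t i.as))
  have h1 : Mono ψ := by
    have : ∀ j, Mono (ψ.app j) := fun j => hφ j.as
    exact NatTrans.mono_of_mono_app ψ
  have h2 : Mono ((colim : (Discrete ι ⥤ H) ⥤ H).map ψ) := inferInstance
  let e := (isColimitCofan t hc).coconePointUniqueUpToIso (colimit.isColimit D)
  let e' := (isColimitCofan t hc').coconePointUniqueUpToIso (colimit.isColimit D')
  have h3 : m = e.hom ≫ (colim : (Discrete ι ⥤ H) ⥤ H).map ψ ≫ e'.inv := by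
    refine (isColimitCofan t hc).hom_ext (fun j => ?_)
    have h4 := (isColimitCofan t hc).comp_coconePointUniqueUpToIso_hom (colimit.isColimit D) j
    have h5 := (isColimitCofan t hc').comp_coconePointUniqueUpToIso_inv (colimit.isColimit D') j
    rw [← Category.assoc, h4]
    change c.ι.app (t j.as) ≫ m = colimit.ι D j ≫ colimMap ψ ≫ e'.inv
    rw [ι_colimMap_assoc]
    have h6 : colimit.ι D' j ≫ e'.inv = c'.ι.app (t j.as) := h5
    rw [h6, hm]
    rfl
  rw [h3]
  infer_instance

end Cofan

section Lan

variable {C D : Type*} [Category C] [Category D] (L : C ⥤ D)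
  {H : Type*} [Category H] [Abelian H]
  [∀ F : C ⥤ H, HasPointwiseLeftKanExtension L F]
  [∀ ι : Type w, HasColimitsOfShape (Discrete ι) H]
  [∀ ι : Type w, HasExactColimitsOfShape (Discrete ι) H]

/-- if every category of costructured arrows of `L` is a disjoint union of categories with
terminal objects, then left Kan extension along `L` preserves monomorphisms (when coproducts
are exact in the target) -/
theorem lan_map_mono_of_terminals
    (hL : ∀ Y : D, ∃ (ι : Type w) (t : ι → CostructuredArrow L Y),
      Nonempty (∀ a : CostructuredArrow L Y, Unique (Σ i, a ⟶ t i)))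
    {F F' : C ⥤ H} (φ : F ⟶ F') [Mono φ] : Mono ((L.lan (H := H)).map φ) := by
  have hpt : ∀ (G : C ⥤ H),
      (LeftExtension.mk _ (L.lanUnit.app G)).IsPointwiseLeftKanExtension := fun G =>
    isPointwiseLeftKanExtensionOfIsLeftKanExtension (F := G) _ (L.lanUnit.app G)
  have hφ : ∀ X : C, Mono (φ.app X) := fun X => inferInstance
  have hnat : ∀ X : C, (L.lanUnit.app F).app X ≫ ((L.lan (H := H)).map φ).app (L.obj X) =
      φ.app X ≫ (L.lanUnit.app F').app X := fun X =>
    (congr_app (L.lanUnit.naturality φ) X).symm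
  have key : ∀ Y : D, Mono (((L.lan (H := H)).map φ).app Y) := by
    intro Y
    obtain ⟨ι, t, ⟨hU⟩⟩ := hL Y
    refine mono_of_isColimit t (whiskerLeft (CostructuredArrow.proj L Y) φ)
      (fun i => hφ _) (hpt F Y) (hpt F' Y) _ (fun a => ?_)
    change ((L.lanUnit.app F).app a.left ≫ (L.lan.obj F).map a.hom) ≫
        ((L.lan (H := H)).map φ).app Y =
      φ.app a.left ≫ (L.lanUnit.app F').app a.left ≫ (L.lan.obj F').map a.hom
    have h7 := ((L.lan (H := H)).map φ).naturality a.hom
    rw [Category.assoc, h7, ← Category.assoc, hnat, Category.assoc]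
  exact NatTrans.mono_of_mono_app _

end Lan

end Groth.Agent.Lib.Helper53.LanMono
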