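import Groth.Agent.Lib.Helper53.ExtRes
import Groth.Agent.Lib.Helper53.HomCx

/-!
# Degenerate Grothendieck spectral sequence: acyclic derived functors

If `Φ` is left exact, preserves injectives, `Hom(P, -) ≃ Hom(P', Φ -)` naturally and all
`R^q Φ (Y)` are `P'`-acyclic, then `Ext^q(P, Y) ≃ Hom(P', R^q Φ (Y))`.
-/

universe w w' v u v' u'

open CategoryTheory Abelian Limits

namespace Groth.Agent.Lib.Helper53.LerayDeg

section

variable {C : Type u} [Category.{v} C] [Preadditive C]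

/-- postcomposition with an isomorphism, as an additive equivalence -/
def homAddEquivOfIso (P : C) {A B : C} (e : A ≅ B) : (P ⟶ A) ≃+ (P ⟶ B) where
  toFun g := g ≫ e.hom
  invFun g := g ≫ e.inv
  left_inv g := by simp
  right_inv g := by simp
  map_add' a b := by simp

end

section

variable {C : Type u} [Category.{v} C] [Abelian C]
  {D : Type u'} [Category.{v'} D] [Abelian D]
  (K : CochainComplex C ℕ) (P : C)
  (K' : CochainComplex D ℕ) (P' : D)
  (e : ∀ n, (P ⟶ K.X n) ≃+ (P' ⟶ K'.X n))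
  (he : ∀ n (g : P ⟶ K.X n), e (n + 1) (g ≫ K.d n (n + 1)) = e n g ≫ K'.d n (n + 1))

include he in
lemma symm_comp_d (n : ℕ) (g' : P' ⟶ K'.X n) :
    (e (n + 1)).symm (g' ≫ K'.d n (n + 1)) = (e n).symm g' ≫ K.d n (n + 1) := by
  apply (e (n + 1)).injective
  rw [he, AddEquiv.apply_symm_apply, AddEquiv.apply_symm_apply]

/-- the induced equivalence on cocycles -/
noncomputable def ZEquiv (n : ℕ) : HomCx.Z K P n ≃+ HomCx.Z K' P' n where
  toFun z := ⟨e n z.1, by rw [HomCx.mem_Z, ← he, (HomCx.mem_Z K P z.1).1 z.2, map_zero]⟩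
  invFun z := ⟨(e n).symm z.1, by
    rw [HomCx.mem_Z, ← symm_comp_d K P K' P' e he, (HomCx.mem_Z K' P' z.1).1 z.2, map_zero]⟩
  left_inv z := by ext; simp
  right_inv z := by ext; simp
  map_add' a b := by ext; simp

end

section

variable {C : Type u} [Category.{v} C] [Abelian C] [HasInjectiveResolutions C] [HasExt.{w} C]
  {D : Type u'} [Category.{v'} D] [Abelian D] [HasExt.{w'} D]
  (Φ : C ⥤ D) [Φ.Additive] [PreservesFiniteLimits Φ]

/-- the complex `Φ(I^•)` for the chosen injective resolution `I^•` of `Y` -/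
noncomputable abbrev mapCx (Y : C) : CochainComplex D ℕ :=
  (Φ.mapHomologicalComplex _).obj (injectiveResolution Y).cocomplex

variable {Φ} in
/-- the class in `Hom(P', R^{q+1}Φ(Y))` of a cocycle `P ⟶ I^{q+1}` -/
noncomputable def homClass {P : C} {P' : D} (θ : ∀ G : C, (P ⟶ G) ≃+ (P' ⟶ Φ.obj G))
    (hθ : ∀ {G G' : C} (φ : G ⟶ G') (g : P ⟶ G), θ G' (g ≫ φ) = θ G g ≫ Φ.map φ)
    {Y : C} (q : ℕ) (z : P ⟶ (injectiveResolution Y).cocomplex.X (q + 1))
    (hz : z ≫ (injectiveResolution Y).cocomplex.d (q + 1) (q + 1 + 1) = 0) :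
    P' ⟶ (Φ.rightDerived (q + 1)).obj Y :=
  HomCx.clsHom (mapCx Φ Y) P' (q + 1) (θ _ z)
      (by
        have := hθ ((injectiveResolution Y).cocomplex.d (q + 1) (q + 1 + 1)) z
        rw [hz, map_zero] at this
        exact this.symm) ≫
    ((injectiveResolution Y).isoRightDerivedObj Φ (q + 1)).inv

/-- **Degenerate Grothendieck spectral sequence, acyclic derived functors**, with an explicit
description of the isomorphism on cocycles. -/
theorem exists_ext_succ_equiv_hom_rightDerived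
    (hinj : ∀ I : C, Injective I → Injective (Φ.obj I))
    (P : C) (P' : D) (θ : ∀ G : C, (P ⟶ G) ≃+ (P' ⟶ Φ.obj G))
    (hθ : ∀ {G G' : C} (φ : G ⟶ G') (g : P ⟶ G), θ G' (g ≫ φ) = θ G g ≫ Φ.map φ)
    (Y : C)
    (hacyc : ∀ (q p : ℕ) (x : Ext.{w'} P' ((Φ.rightDerived q).obj Y) (p + 1)), x = 0) (q : ℕ) :
    ∃ e : Ext.{w} P Y (q + 1) ≃+ (P' ⟶ (Φ.rightDerived (q + 1)).obj Y),
      ∀ (z : P ⟶ (injectiveResolution Y).cocomplex.X (q + 1))
        (hz : z ≫ (injectiveResolution Y).cocomplex.d (q + 1) (q + 1 + 1) = 0),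
        e ((injectiveResolution Y).extMk z (q + 1 + 1) rfl hz) = homClass θ hθ q z hz := by
  let R := injectiveResolution Y
  let K : CochainComplex D ℕ := (Φ.mapHomologicalComplex _).obj R.cocomplex
  have hX : ∀ (n p : ℕ) (x : Ext.{w'} P' (K.X n) (p + 1)), x = 0 := by
    intro n p x
    haveI : Injective (K.X n) := hinj _ (R.injective n)
    exact Ext.eq_zero_of_injective x
  have hH : ∀ (n p : ℕ) (x : Ext.{w'} P' (K.homology n) (p + 1)), x = 0 := by
    intro n p x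
    let ε : (Φ.rightDerived n).obj Y ≅ K.homology n := R.isoRightDerivedObj Φ n
    have h1 : x = (x.comp (Ext.mk₀ ε.inv) (add_zero _)).comp (Ext.mk₀ ε.hom) (add_zero _) := by
      rw [Ext.comp_assoc_of_third_deg_zero, Ext.mk₀_comp_mk₀, ε.inv_hom_id, Ext.comp_mk₀_id]
    rw [h1, hacyc n p (x.comp (Ext.mk₀ ε.inv) (add_zero _)), Ext.zero_comp]
  let π := ExtRes.cls R P (q + 1)
  let ψ := HomCx.ψ K P' q
  let eZ : ExtRes.Z R P (q + 1) ≃+ HomCx.Z K P' (q + 1) :=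
    ZEquiv R.cocomplex P K P' (fun n => θ (R.cocomplex.X n))
      (fun n g => hθ (R.cocomplex.d n (n + 1)) g) (q + 1)
  have hker : AddSubgroup.map (eZ : _ →+ _) π.ker = ψ.ker := by
    ext z'
    simp only [AddSubgroup.mem_map, AddMonoidHom.mem_ker]
    constructor
    · rintro ⟨z, hz, rfl⟩
      obtain ⟨g, hg⟩ := (ExtRes.cls_eq_zero_iff R P q z).1 hz
      refine (HomCx.ψ_eq_zero_iff K P' hX hH q _).2 ⟨θ _ g, ?_⟩
      have := hθ (R.cocomplex.d q (q + 1)) g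
      rw [hg] at this
      exact this.symm
    · intro hz'
      obtain ⟨g', hg'⟩ := (HomCx.ψ_eq_zero_iff K P' hX hH q z').1 hz'
      refine ⟨eZ.symm z', (ExtRes.cls_eq_zero_iff R P q _).2 ⟨(θ _).symm g', ?_⟩,
        eZ.apply_symm_apply z'⟩
      apply (θ _).injective
      rw [hθ, AddEquiv.apply_symm_apply]
      refine hg'.trans ?_
      exact ((θ _).apply_symm_apply z'.1).symm
  let e₁ := QuotientAddGroup.quotientKerEquivOfSurjective π (ExtRes.cls_surjective R P (q + 1))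
  let e₂ := QuotientAddGroup.congr π.ker ψ.ker eZ hker
  let e₃ := QuotientAddGroup.quotientKerEquivOfSurjective ψ (HomCx.ψ_surjective K P' hX hH q)
  let e₄ := homAddEquivOfIso P' (R.isoRightDerivedObj Φ (q + 1)).symm
  have key : ∀ z' : ExtRes.Z R P (q + 1), (((e₁.symm.trans e₂).trans e₃).trans e₄) (π z') =
      ψ (eZ z') ≫ (R.isoRightDerivedObj Φ (q + 1)).inv := by
    intro z'
    have h1 : e₁.symm (π z') = (z' : ExtRes.Z R P (q + 1) ⧸ π.ker) := by
      rw [AddEquiv.symm_apply_eq]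
      rfl
    simp only [AddEquiv.trans_apply, h1]
    rfl
  exact ⟨((e₁.symm.trans e₂).trans e₃).trans e₄, fun z hz => key ⟨z, hz⟩⟩

/-- naturality in `P` of the isomorphisms of `exists_ext_succ_equiv_hom_rightDerived` -/
theorem compat_naturality {P P₁ : C} {P' P₁' : D}
    (θ : ∀ G : C, (P ⟶ G) ≃+ (P' ⟶ Φ.obj G))
    (hθ : ∀ {G G' : C} (φ : G ⟶ G') (g : P ⟶ G), θ G' (g ≫ φ) = θ G g ≫ Φ.map φ)
    (θ₁ : ∀ G : C, (P₁ ⟶ G) ≃+ (P₁' ⟶ Φ.obj G))
    (hθ₁ : ∀ {G G' : C} (φ : G ⟶ G') (g : P₁ ⟶ G), θ₁ G' (g ≫ φ) = θ₁ G g ≫ Φ.map φ)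
    (a : P₁ ⟶ P) (a' : P₁' ⟶ P') (haa' : ∀ (G : C) (g : P ⟶ G), θ₁ G (a ≫ g) = a' ≫ θ G g)
    {Y : C} (q : ℕ)
    (e : Ext.{w} P Y (q + 1) ≃+ (P' ⟶ (Φ.rightDerived (q + 1)).obj Y))
    (he : ∀ (z : P ⟶ (injectiveResolution Y).cocomplex.X (q + 1))
        (hz : z ≫ (injectiveResolution Y).cocomplex.d (q + 1) (q + 1 + 1) = 0),
        e ((injectiveResolution Y).extMk z (q + 1 + 1) rfl hz) = homClass θ hθ q z hz)
    (e₁ : Ext.{w} P₁ Y (q + 1) ≃+ (P₁' ⟶ (Φ.rightDerived (q + 1)).obj Y))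
    (he₁ : ∀ (z : P₁ ⟶ (injectiveResolution Y).cocomplex.X (q + 1))
        (hz : z ≫ (injectiveResolution Y).cocomplex.d (q + 1) (q + 1 + 1) = 0),
        e₁ ((injectiveResolution Y).extMk z (q + 1 + 1) rfl hz) = homClass θ₁ hθ₁ q z hz)
    (x : Ext.{w} P Y (q + 1)) :
    e₁ ((Ext.mk₀ a).comp x (zero_add _)) = a' ≫ e x := by
  obtain ⟨z, hz, rfl⟩ := (injectiveResolution Y).extMk_surjective x (q + 1 + 1) rfl
  rw [(injectiveResolution Y).mk₀_comp_extMk, he₁, he]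
  unfold homClass
  exact ((Category.assoc _ _ _).symm.trans (congrArg
    (· ≫ ((injectiveResolution Y).isoRightDerivedObj Φ (q + 1)).inv)
    ((HomCx.comp_clsHom (mapCx Φ Y) a' (q + 1) _ _).trans
      (HomCx.clsHom_congr (mapCx Φ Y) (q + 1) (haa' _ z).symm _)))).symm

/-- **Degenerate Grothendieck spectral sequence, acyclic derived functors**. -/
theorem nonempty_ext_equiv_hom_rightDerived
    (hinj : ∀ I : C, Injective I → Injective (Φ.obj I))
    (P : C) (P' : D) (θ : ∀ G : C, (P ⟶ G) ≃+ (P' ⟶ Φ.obj G))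
    (hθ : ∀ {G G' : C} (φ : G ⟶ G') (g : P ⟶ G), θ G' (g ≫ φ) = θ G g ≫ Φ.map φ)
    (Y : C)
    (hacyc : ∀ (q p : ℕ) (x : Ext.{w'} P' ((Φ.rightDerived q).obj Y) (p + 1)), x = 0) (q : ℕ) :
    Nonempty (Ext.{w} P Y q ≃+ (P' ⟶ (Φ.rightDerived q).obj Y)) := by
  cases q with
  | zero =>
    exact ⟨Ext.addEquiv₀.trans ((θ Y).trans
      (homAddEquivOfIso P' (Φ.rightDerivedZeroIsoSelf.app Y).symm))⟩
  | succ q =>
    obtain ⟨e, -⟩ := exists_ext_succ_equiv_hom_rightDerived Φ hinj P P' θ hθ Y hacyc q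
    exact ⟨e⟩

end

end Groth.Agent.Lib.Helper53.LerayDeg
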