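import Groth.Agent.Lib.Helper53.LocRlim
import Groth.Agent.Lib.Helper53.CdBound
import Groth.Agent.Lib.Helper62.WSerreEquiv
import Groth.Prelude.Def_WeakSerre

/-!
# Cohomology of a derived limit of a tower with eventually constant cohomology (helper53)

Abstract version (over `LocData`) of: `K_n ∈ D^+_A`, `H^j(K_n)` eventually constant, finite
cohomological dimension of `A`-objects on a cofinal system of coverings ⟹ `H^j(Rlim K_n) = H^j`.
-/

set_option autoImplicit false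
universe w u
open CategoryTheory Limits Pretriangulated Opposite

namespace Groth.Agent.Lib.Helper53.LocConst

open DerivedCategory Groth.Agent.Lib.Helper53.DerLoc Groth.Agent.Lib.Helper53.RlimMilnor
  Groth.Agent.Lib.Helper53.TruncTower Groth.Agent.Lib.Helper53.LocData
  Groth.Agent.Lib.Helper53.LocRlim Groth.Agent.Lib.Helper53.CdBound
  Groth.Agent.Lib.Helper53.AcycBij

/-- extending an element to a compatible family in an inverse system with eventually surjective
transition maps -/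
theorem exists_compatible : ∀ (n₀ : ℕ) (X : ℕ → Type w) (f : ∀ n, X (n + 1) → X n),
    (∀ n, n₀ ≤ n → Function.Surjective (f n)) → ∀ x₀ : X n₀,
    ∃ c : ∀ n, X n, (∀ n, f n (c (n + 1)) = c n) ∧ c n₀ = x₀
  | 0, X, f, h, x₀ => by
    let c : ∀ n, X n := fun n => Nat.rec (motive := fun n => X n) x₀
      (fun n cn => Classical.choose (h n (Nat.zero_le n) cn)) n
    exact ⟨c, fun n => Classical.choose_spec (h n (Nat.zero_le n) (c n)), rfl⟩
  | n₀ + 1, X, f, h, x₀ => by
    obtain ⟨c', hc', hc'0⟩ := exists_compatible n₀ (fun n => X (n + 1)) (fun n => f (n + 1))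
      (fun n hn => h (n + 1) (by omega)) x₀
    let c : ∀ n, X n := fun n => Nat.casesOn (motive := fun n => X n) n (f 0 (c' 0)) (fun n => c' n)
    refine ⟨c, fun n => ?_, hc'0⟩
    cases n with
    | zero => rfl
    | succ n => exact hc' n

section Fibre

variable {𝒜 : Type (u + 1)} [Category.{u} 𝒜] [Abelian 𝒜] [HasDerivedCategory.{w} 𝒜]

lemma isZero_homology_fibre (Tr : Triangle (DerivedCategory 𝒜)) (hTr : Tr ∈ distTriang _) (q : ℤ)
    (h1 : Epi ((homologyFunctor 𝒜 (q - 1)).map Tr.mor₂))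
    (h2 : Mono ((homologyFunctor 𝒜 q).map Tr.mor₂)) :
    IsZero ((homologyFunctor 𝒜 q).obj Tr.obj₁) := by
  have hδ : HomologySequence.δ Tr (q - 1) q (by omega) = 0 :=
    (HomologySequence.epi_homologyMap_mor₂_iff _ hTr (q - 1) q (by omega)).1 h1
  have hf0 : (homologyFunctor 𝒜 q).map Tr.mor₁ = 0 :=
    (HomologySequence.mono_homologyMap_mor₂_iff _ hTr q).1 h2
  have ex := HomologySequence.exact₁ _ hTr (q - 1) q (by omega)
  exact ex.isZero_of_both_zeros hδ hf0

lemma cohIn_fibre (A : ObjectProperty 𝒜) [WSerre.IsWeakSerre A]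
    (Tr : Triangle (DerivedCategory 𝒜)) (hTr : Tr ∈ distTriang _)
    (h₂ : WSerre.cohIn A Tr.obj₂) (h₃ : WSerre.cohIn A Tr.obj₃) : WSerre.cohIn A Tr.obj₁ := by
  intro i
  exact Groth.Agent.Lib.Helper62.WSE.prop_of_exact₅ A _ _ _ _ _ _ _
    (HomologySequence.exact₃ Tr hTr (i - 1) i (by omega))
    (HomologySequence.exact₁ Tr hTr (i - 1) i (by omega))
    (HomologySequence.exact₂ Tr hTr i) (h₂ (i - 1)) (h₃ (i - 1)) (h₂ i) (h₃ i)

lemma isGE_fibre (Tr : Triangle (DerivedCategory 𝒜)) (hTr : Tr ∈ distTriang _) (a a' : ℤ)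
    [Tr.obj₂.IsGE a'] [Tr.obj₃.IsGE a] : Tr.obj₁.IsGE (min a' (a + 1)) := by
  rw [isGE_iff]
  intro i hi
  have ex := HomologySequence.exact₁ _ hTr (i - 1) i (by omega)
  exact ex.isZero_of_both_zeros
    ((isZero_of_isGE Tr.obj₃ a (i - 1) (by omega)).eq_of_src _ _)
    ((isZero_of_isGE Tr.obj₂ a' i (by omega)).eq_of_tgt _ _)

end Fibre

variable {C : Type u} [SmallCategory C] {J : GrothendieckTopology C}
  {𝒜 : Type (u + 1)} [Category.{u} 𝒜] [Abelian 𝒜] [HasDerivedCategory.{w} 𝒜] [HasExt.{u} 𝒜]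
  (D : LocData C J 𝒜) (A : ObjectProperty 𝒜) [WSerre.IsWeakSerre A]

/-- objects of `A` have cohomological dimension `≤ d` on `U` -/
def CdA (d : ℕ) (U : C) : Prop :=
  ∀ F : 𝒜, A F → ∀ k : ℕ, d < k → Subsingleton (Abelian.Ext.{u} (D.T U) F k)

theorem transition_bijective (d : ℕ) (U : C) (hU : CdA D A d U)
    {K' K : DerivedCategory 𝒜} (t : K' ⟶ K) (hK' : WSerre.cohInPlus A K')
    (hK : WSerre.cohInPlus A K) (m : ℤ)
    (hiso : ∀ q : ℤ, m - d - 1 ≤ q → q ≤ m + 1 → IsIso ((homologyFunctor 𝒜 q).map t)) :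
    Function.Bijective (fun φ : HDU D K' m U => φ ≫ t⟦m⟧') := by
  obtain ⟨F, f, δ, hTr⟩ := distinguished_cocone_triangle₁ t
  obtain ⟨hA', a', ha'⟩ := hK'
  obtain ⟨hA₀, a, ha⟩ := hK
  let Tr := Triangle.mk f t δ
  haveI : Tr.obj₂.IsGE a' := ha'
  haveI : Tr.obj₃.IsGE a := ha
  haveI hFge : F.IsGE (min a' (a + 1)) := isGE_fibre Tr hTr a a'
  have hcoh : WSerre.cohIn A F := cohIn_fibre A Tr hTr hA' hA₀
  have hCd : Cd d (D.T U) F := by
    intro i k
    apply subsingleton_hom_single_shift_zero.{u}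
    intro k' hk'
    exact hU _ (hcoh i) k' (by omega)
  have hz : ∀ q : ℤ, m - d ≤ q → q ≤ m + 1 → IsZero ((homologyFunctor 𝒜 q).obj F) := by
    intro q h1 h2
    haveI := hiso (q - 1) (by omega) (by omega)
    haveI := hiso q (by omega) (by omega)
    exact isZero_homology_fibre Tr hTr q
      (show Epi ((homologyFunctor 𝒜 (q - 1)).map t) from inferInstance)
      (show Mono ((homologyFunctor 𝒜 q).map t) from inferInstance)
  have hs0 : Subsingleton ((singleFunctor 𝒜 0).obj (D.T U) ⟶ F⟦m⟧) :=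
    subsingleton_hom_of_vanishing_range d (D.T U) F (min a' (a + 1)) hCd m (fun q h1 h2 => hz q h1 (by omega))
  have hs1 : Subsingleton ((singleFunctor 𝒜 0).obj (D.T U) ⟶ F⟦m + 1⟧) :=
    subsingleton_hom_of_vanishing_range d (D.T U) F (min a' (a + 1)) hCd (m + 1)
      (fun q h1 h2 => hz q (by omega) h2)
  exact ⟨injective_of_subsingleton Tr hTr _ m hs0,
    surjective_of_subsingleton Tr hTr _ m (m + 1) rfl hs1⟩

variable (K : ℕ → DerivedCategory 𝒜) (t : ∀ n, K (n + 1) ⟶ K n)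
  (hK : ∀ n, WSerre.cohInPlus A (K n))

include hK in
theorem cond_of_const (d : ℕ) (U : C) (hU : CdA D A d U) (m : ℤ) (n₀ : ℕ)
    (hiso : ∀ n, n₀ ≤ n → ∀ q : ℤ, m - d - 2 ≤ q → q ≤ m + 1 →
      IsIso ((homologyFunctor 𝒜 q).map (t n))) :
    Cond D K t m n₀ U := by
  have key : ∀ n, n₀ ≤ n →
      Function.Injective (fun φ : HDU D (K (n + 1)) m U => φ ≫ (t n)⟦m⟧') := fun n hn =>
    (transition_bijective D A d U hU (t n) (hK (n + 1)) (hK n) m
      (fun q h1 h2 => hiso n hn q (by omega) h2)).1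
  constructor
  · exact limOne_of_eventually_surjective n₀ _ _ (fun n hn =>
      (transition_bijective D A d U hU (t n) (hK (n + 1)) (hK n) (m - 1)
        (fun q h1 h2 => hiso n hn q (by omega) (by omega))).2)
  · intro k
    induction k with
    | zero =>
      intro x y hxy
      have h1 : ∀ z : HDU D (K (n₀ + 0)) m U,
          Preadditive.rightComp _ ((shiftFunctor _ m).map (CohCx.transition K t n₀ 0)) z = z := by
        intro z
        show z ≫ (𝟙 _)⟦m⟧' = z
        rw [CategoryTheory.Functor.map_id, Category.comp_id]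
      rw [h1, h1] at hxy
      exact hxy
    | succ k ih =>
      intro x y hxy
      apply key (n₀ + k) (Nat.le_add_right _ _)
      apply ih
      show (x ≫ (t (n₀ + k))⟦m⟧') ≫ (CohCx.transition K t n₀ k)⟦m⟧' =
        (y ≫ (t (n₀ + k))⟦m⟧') ≫ (CohCx.transition K t n₀ k)⟦m⟧'
      rw [Category.assoc, Category.assoc, ← Functor.map_comp]
      exact hxy

variable [HasProduct K] (L : DerivedCategory 𝒜) (a : ∀ n, L ⟶ K n)
  (hL : CohCx.IsRlimVia K t L a)

include hK hL in
/-- local lifting of sections of `H^j(K_{n'})` to `H^j(L)` -/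
theorem local_lift (V : C) (d : ℕ)
    (hdV : ∀ T ∈ J V, ∃ (ι : Type u) (Y : ι → C) (g : ∀ i, Y i ⟶ V),
      (∀ i, T.arrows (g i)) ∧ Sieve.ofArrows Y g ∈ J V ∧ ∀ i, CdA D A d (Y i))
    (j : ℤ) (n' : ℕ)
    (hiso : ∀ n, n' ≤ n → ∀ q : ℤ, j - d - 1 ≤ q → q ≤ j + 1 →
      IsIso ((homologyFunctor 𝒜 q).map (t n)))
    (s' : HS D (K n') j V) :
    ∃ S : Sieve V, S ∈ J V ∧ ∀ ⦃W : C⦄ (f : W ⟶ V), S f →
      ∃ ρ : HS D L j W, HSmap D (a n') j W ρ = HSres D (K n') j f s' := by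
  obtain ⟨S₁, hS₁⟩ := loc_surj D (K n') j V s'
  choose φ hφ using hS₁
  obtain ⟨ι, Y, g, hT, hcov, hcd⟩ := hdV (S₁ : Sieve V) S₁.condition
  have key : ∀ i : ι, ∃ ρ : HS D L j (Y i),
      HSmap D (a n') j (Y i) ρ = HSres D (K n') j (g i) s' := by
    intro i
    let a₁ : S₁.Arrow := ⟨Y i, g i, hT i⟩
    obtain ⟨β, hβ, hβ0⟩ := exists_compatible n' (fun n => HDU D (K n) j (Y i))
      (fun n ψ => ψ ≫ (t n)⟦j⟧')
      (fun n hn => (transition_bijective D A d (Y i) (hcd i) (t n) (hK (n + 1)) (hK n) j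
        (fun q h1 h2 => hiso n hn q h1 h2)).2) (φ a₁)
    obtain ⟨γ, hγ⟩ := milnor_surj K t L a hL _ j β hβ
    refine ⟨kU D L j (Y i) γ, ?_⟩
    rw [← kU_comp_right, hγ, hβ0]
    exact hφ a₁
  refine ⟨Sieve.ofArrows Y g, hcov, ?_⟩
  rintro W f ⟨Z, h, k, hk, rfl⟩
  obtain ⟨i⟩ := hk
  obtain ⟨ρ₀, hρ₀⟩ := key i
  refine ⟨HSres D L j h ρ₀, ?_⟩
  have hn := ConcreteCategory.congr_hom
    ((D.Γ.map ((homologyFunctor 𝒜 j).map (a n'))).hom.naturality h.op) ρ₀
  simp only [ConcreteCategory.comp_apply] at hn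
  refine hn.trans ?_
  have h1' : (D.Γ.map ((homologyFunctor 𝒜 j).map (a n'))).hom.app (op _) ρ₀ =
      HSres D (K n') j (g i) s' := hρ₀
  rw [h1']
  show (D.Γ.obj ((homologyFunctor 𝒜 j).obj (K n'))).obj.map h.op
      ((D.Γ.obj ((homologyFunctor 𝒜 j).obj (K n'))).obj.map (g i).op s') =
    (D.Γ.obj ((homologyFunctor 𝒜 j).obj (K n'))).obj.map (h ≫ g i).op s'
  rw [op_comp, Functor.map_comp]
  rfl

omit [HasExt.{u} 𝒜] [HasProduct K] in
lemma isIso_homology_transition (j : ℤ) (n₀ : ℕ)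
    (h : ∀ n, n₀ ≤ n → IsIso ((homologyFunctor 𝒜 j).map (t n))) (n : ℕ) (hn : n₀ ≤ n) :
    ∀ k : ℕ, IsIso ((homologyFunctor 𝒜 j).map (CohCx.transition K t n k))
  | 0 => by
    show IsIso ((homologyFunctor 𝒜 j).map (𝟙 (K n)))
    rw [CategoryTheory.Functor.map_id]
    infer_instance
  | k + 1 => by
    show IsIso ((homologyFunctor 𝒜 j).map (t (n + k) ≫ CohCx.transition K t n k))
    rw [Functor.map_comp]
    haveI := h (n + k) (by omega)
    haveI := isIso_homology_transition j n₀ h n hn k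
    infer_instance

include hK hL in
theorem isIso_homology_of_eventually_constant (B : Set C)
    (hB : ∀ U : C, ∃ (ι : Type u) (Y : ι → C) (g : ∀ i, Y i ⟶ U),
      Sieve.ofArrows Y g ∈ J U ∧ ∀ i, Y i ∈ B)
    (hA : ∀ V ∈ B, ∃ d : ℕ, ∀ T ∈ J V, ∃ (ι : Type u) (Y : ι → C) (g : ∀ i, Y i ⟶ V),
      (∀ i, T.arrows (g i)) ∧ Sieve.ofArrows Y g ∈ J V ∧ ∀ i, CdA D A d (Y i))
    (hconst : ∀ j : ℤ, ∃ n₀ : ℕ, ∀ n, n₀ ≤ n → IsIso ((homologyFunctor 𝒜 j).map (t n)))
    (j : ℤ) :
    ∃ n₀ : ℕ, ∀ n, n₀ ≤ n → IsIso ((homologyFunctor 𝒜 j).map (a n)) := by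
  choose n₀ hn₀ using hconst
  refine ⟨n₀ j, fun n hn => ?_⟩
  -- uniform bound on a finite range of degrees
  have hN : ∀ d : ℕ, ∃ N : ℕ, ∀ n', N ≤ n' → ∀ q : ℤ, j - d - 2 ≤ q → q ≤ j + 1 →
      IsIso ((homologyFunctor 𝒜 q).map (t n')) := by
    intro d
    refine ⟨(Finset.Icc (j - d - 2) (j + 1)).sup n₀, fun n' hn' q h1 h2 => ?_⟩
    have hq : q ∈ Finset.Icc (j - d - 2) (j + 1) := Finset.mem_Icc.2 ⟨h1, h2⟩
    exact hn₀ q n' ((Finset.le_sup hq).trans hn')
  let α := (homologyFunctor 𝒜 j).map (a n)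
  -- factorization through later stages
  have hfac : ∀ k : ℕ, α = (homologyFunctor 𝒜 j).map (a (n + k)) ≫
      (homologyFunctor 𝒜 j).map (CohCx.transition K t n k) := by
    intro k
    rw [← Functor.map_comp, LocRlim.a_transition K t L a hL]
  have hΓfac : ∀ (k : ℕ) (W : C) (x : HS D L j W), HSmap D (a n) j W x =
      HSmap D (CohCx.transition K t n k) j W (HSmap D (a (n + k)) j W x) := by
    intro k W x
    have h1 : D.Γ.map α = D.Γ.map ((homologyFunctor 𝒜 j).map (a (n + k))) ≫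
        D.Γ.map ((homologyFunctor 𝒜 j).map (CohCx.transition K t n k)) := by
      rw [← Functor.map_comp, ← hfac k]
    exact congrArg (fun z => z.hom.app (op W) x) h1
  have htrinj : ∀ (k : ℕ) (W : C),
      Function.Injective (HSmap D (CohCx.transition K t n k) j W) := by
    intro k W x y hxy
    haveI := isIso_homology_transition K t j (n₀ j) (hn₀ j) n hn k
    let τ := (homologyFunctor 𝒜 j).map (CohCx.transition K t n k)
    have h1 : ∀ z, (D.Γ.map (inv τ)).hom.app (op W) ((D.Γ.map τ).hom.app (op W) z) = z := by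
      intro z
      have : (D.Γ.map τ ≫ D.Γ.map (inv τ)).hom.app (op W) z = z := by
        rw [← Functor.map_comp, IsIso.hom_inv_id, CategoryTheory.Functor.map_id]
        rfl
      exact this
    have hxy' : (D.Γ.map τ).hom.app (op W) x = (D.Γ.map τ).hom.app (op W) y := hxy
    rw [← h1 x, ← h1 y, hxy']
  haveI hmono : Mono α := by
    apply D.mono_of_locInj
    refine HomShf.isLocallyInjective_of_basis (D.Γ.map α).hom B hB ?_
    intro V hV x y hxy
    obtain ⟨d, hd⟩ := hA V hV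
    obtain ⟨N, hNd⟩ := hN d
    have hinj : Function.Injective (HSmap D (a (n + N)) j V) := by
      refine injective_of_cond D K t L a hL V j (n + N) ?_
      intro T hT
      obtain ⟨ι, Y, g, hT', hcov, hcd⟩ := hd T hT
      exact ⟨ι, Y, g, hT', hcov, fun i => cond_of_const D A K t hK d (Y i) (hcd i) j (n + N)
        (fun n' hn' q h1 h2 => hNd n' (by omega) q h1 h2)⟩
    apply hinj
    apply htrinj N V
    have hxy' : HSmap D (a n) j V x = HSmap D (a n) j V y := hxy
    rw [← hΓfac N V x, ← hΓfac N V y]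
    exact hxy'
  haveI hepi : Epi α := by
    apply D.epi_of_locSurj
    refine ⟨fun {X} s => ?_⟩
    obtain ⟨ι, Yc, fc, hcov, hYB⟩ := hB X
    -- local lifts over each member of the cover
    have hloc : ∀ i : ι, ∃ S : Sieve (Yc i), S ∈ J (Yc i) ∧ ∀ ⦃W : C⦄ (f : W ⟶ Yc i), S f →
        ∃ ρ : HS D L j W, HSmap D (a n) j W ρ =
          (D.Γ.obj ((homologyFunctor 𝒜 j).obj (K n))).obj.map (f ≫ fc i).op s := by
      intro i
      obtain ⟨d, hd⟩ := hA (Yc i) (hYB i)
      obtain ⟨N, hNd⟩ := hN d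
      haveI := isIso_homology_transition K t j (n₀ j) (hn₀ j) n hn N
      let τ := (homologyFunctor 𝒜 j).map (CohCx.transition K t n N)
      let sV : HS D (K n) j (Yc i) :=
        (D.Γ.obj ((homologyFunctor 𝒜 j).obj (K n))).obj.map (fc i).op s
      let s' : HS D (K (n + N)) j (Yc i) := (D.Γ.map (inv τ)).hom.app (op (Yc i)) sV
      have hs' : HSmap D (CohCx.transition K t n N) j (Yc i) s' = sV := by
        have : (D.Γ.map (inv τ) ≫ D.Γ.map τ).hom.app (op (Yc i)) sV = sV := by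
          rw [← Functor.map_comp, IsIso.inv_hom_id, CategoryTheory.Functor.map_id]
          rfl
        exact this
      obtain ⟨S, hS, hlift⟩ := local_lift D A K t hK L a hL (Yc i) d hd j (n + N)
        (fun n' hn' q h1 h2 => hNd n' (by omega) q (by omega) h2) s'
      refine ⟨S, hS, fun W f hf => ?_⟩
      obtain ⟨ρ, hρ⟩ := hlift f hf
      refine ⟨ρ, ?_⟩
      rw [hΓfac N W ρ, hρ]
      have hn' : (D.Γ.map τ).hom.app (op W)
          ((D.Γ.obj ((homologyFunctor 𝒜 j).obj (K (n + N)))).obj.map f.op s') =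
          (D.Γ.obj ((homologyFunctor 𝒜 j).obj (K n))).obj.map f.op
            ((D.Γ.map τ).hom.app (op (Yc i)) s') := by
        have := ConcreteCategory.congr_hom ((D.Γ.map τ).hom.naturality f.op) s'
        simp only [ConcreteCategory.comp_apply] at this
        exact this
      have hs'' : (D.Γ.map τ).hom.app (op (Yc i)) s' = sV := hs'
      rw [hs''] at hn'
      refine hn'.trans ?_
      show (D.Γ.obj ((homologyFunctor 𝒜 j).obj (K n))).obj.map f.op
          ((D.Γ.obj ((homologyFunctor 𝒜 j).obj (K n))).obj.map (fc i).op s) = _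
      rw [op_comp, Functor.map_comp]
      rfl
    choose S hS hlift using hloc
    refine J.transitive hcov _ ?_
    rintro Z f ⟨Z', h, k, hk, rfl⟩
    obtain ⟨i⟩ := hk
    refine J.superset_covering ?_ (J.pullback_stable h (hS i))
    intro W f' hf'
    obtain ⟨ρ, hρ⟩ := hlift i (f' ≫ h) hf'
    refine ⟨ρ, ?_⟩
    rw [Category.assoc] at hρ
    exact hρ
  exact isIso_of_mono_of_epi α

end Groth.Agent.Lib.Helper53.LocConst
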