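import Groth.Agent.Lib.Helper53.ConstSh
import Mathlib

/-!
# Gluing morphisms of abelian sheaves along a "local" family of objects; central multiplication
by a locally constant integer (helper53)

`U : ι → C` is a family of objects such that every object is covered by objects mapping to some
`U i`.  Morphisms of sheaves agreeing on objects over the `U i` are equal (`hom_ext_loc`), and a
family of morphisms `e i : F ⟶ G` which agree on objects lying over two members glue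
(`exists_glue`).
-/

set_option autoImplicit false
universe u w
open CategoryTheory Limits Opposite Abelian

namespace Groth.Agent.Lib.Helper53.LocMul

variable {C : Type u} [SmallCategory C] {J : GrothendieckTopology C}
  {ι : Type u} (U : ι → C)

/-- objects admitting a morphism to some `U i` -/
def Loc (V : C) : Prop := ∃ i, Nonempty (V ⟶ U i)

/-- sieve of arrows with local domain -/
def locSieve (V : C) : Sieve V where
  arrows W _ := Loc U W
  downward_closed := by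
    rintro Y Z f ⟨i, ⟨a⟩⟩ g
    exact ⟨i, ⟨g ≫ a⟩⟩

/-- a chosen index for a local object -/
noncomputable def idx {W : C} (h : Loc U W) : ι := h.choose

lemma idx_spec {W : C} (h : Loc U W) : Nonempty (W ⟶ U (idx U h)) := h.choose_spec

section
variable (hcov : ∀ V : C, ∃ R ∈ J V, ∀ ⦃W : C⦄ (g : W ⟶ V), R g → ∃ i, Nonempty (W ⟶ U i))
include hcov

lemma locSieve_mem (V : C) : locSieve U V ∈ J V := by
  obtain ⟨R, hR, h⟩ := hcov V
  exact J.superset_covering (fun W g hg => h g hg) hR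

lemma hom_ext_loc {F G : Sheaf J AddCommGrpCat.{u}} (f g : F ⟶ G)
    (h : ∀ (i : ι) (V : C) (_ : V ⟶ U i), f.hom.app (op V) = g.hom.app (op V)) : f = g := by
  apply Sheaf.hom_ext
  apply NatTrans.ext
  funext V
  apply G.property.hom_ext ⟨locSieve U V.unop, locSieve_mem U hcov V.unop⟩
  rintro ⟨W, a, ⟨i, ⟨b⟩⟩⟩
  dsimp
  rw [← f.hom.naturality, ← g.hom.naturality, h i W b]

theorem exists_glue {F G : Sheaf J AddCommGrpCat.{u}} (e : ι → (F ⟶ G))
    (he : ∀ (W : C) (i j : ι), (W ⟶ U i) → (W ⟶ U j) →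
      (e i).hom.app (op W) = (e j).hom.app (op W)) :
    ∃ e' : F ⟶ G, ∀ (i : ι) (V : C) (_ : V ⟶ U i),
      e'.hom.app (op V) = (e i).hom.app (op V) := by
  let S : ∀ V : C, J.Cover V := fun V => ⟨locSieve U V, locSieve_mem U hcov V⟩
  have key : ∀ (V : C) ⦃I₁ I₂ : (S V).Arrow⦄ (r : I₁.Relation I₂),
      ((e (idx U I₁.hf)).hom.app (op V) ≫ G.obj.map I₁.f.op) ≫ G.obj.map r.g₁.op =
        ((e (idx U I₂.hf)).hom.app (op V) ≫ G.obj.map I₂.f.op) ≫ G.obj.map r.g₂.op := by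
    intro V I₁ I₂ r
    obtain ⟨a₁⟩ := idx_spec U I₁.hf
    obtain ⟨a₂⟩ := idx_spec U I₂.hf
    rw [Category.assoc, Category.assoc, ← G.obj.map_comp, ← G.obj.map_comp, ← op_comp, ← op_comp,
      ← (e _).hom.naturality, ← (e _).hom.naturality, r.w,
      he r.Z _ _ (r.g₁ ≫ a₁) (r.g₂ ≫ a₂)]
  let m : ∀ V : C, F.obj.obj (op V) ⟶ G.obj.obj (op V) := fun V =>
    G.property.amalgamate (S V)
      (fun I => (e (idx U I.hf)).hom.app (op V) ≫ G.obj.map I.f.op) (key V)
  have hm : ∀ (V : C) (I : (S V).Arrow), m V ≫ G.obj.map I.f.op =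
      (e (idx U I.hf)).hom.app (op V) ≫ G.obj.map I.f.op :=
    fun V I => G.property.amalgamate_map _ _ _ I
  have hloc : ∀ (i : ι) (V : C) (_ : V ⟶ U i), m V = (e i).hom.app (op V) := by
    intro i V a
    apply G.property.hom_ext (S V)
    intro I
    rw [hm]
    obtain ⟨b⟩ := idx_spec U I.hf
    rw [← (e _).hom.naturality, ← (e i).hom.naturality, he I.Y _ _ b (I.f ≫ a)]
  refine ⟨ObjectProperty.homMk { app := fun V => m V.unop, naturality := ?_ }, ?_⟩
  · intro V V' h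
    apply G.property.hom_ext (S V'.unop)
    intro I
    obtain ⟨b⟩ := idx_spec U I.hf
    have h1 := hm V'.unop I
    have h2 := hm V.unop ⟨I.Y, I.f ≫ h.unop, I.hf⟩
    dsimp only at h2
    rw [Category.assoc, Category.assoc, h1, ← G.obj.map_comp]
    have h3 : h ≫ I.f.op = (I.f ≫ h.unop).op := by
      rw [op_comp, Quiver.Hom.op_unop]
    rw [h3, h2, ← (e _).hom.naturality, ← (e _).hom.naturality, ← Category.assoc,
      ← F.obj.map_comp, h3]
  · intro i V a
    exact hloc i V a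

end

section Central
variable {𝒜 : Type*} [Category 𝒜] [Abelian 𝒜] [HasExt.{w} 𝒜] [EnoughInjectives 𝒜]

lemma central_ext_one (μ : ∀ F : 𝒜, F ⟶ F) (hμ : ∀ {F G : 𝒜} (f : F ⟶ G), μ F ≫ f = f ≫ μ G)
    {X Y : 𝒜} (x : Ext.{w} X Y 1) :
    (Ext.mk₀ (μ X)).comp x (zero_add 1) = x.comp (Ext.mk₀ (μ Y)) (add_zero 1) := by
  let ι := Injective.ι Y
  let S : ShortComplex 𝒜 := ShortComplex.mk ι (cokernel.π ι) (cokernel.condition ι)
  have hS : S.ShortExact :=
    ShortComplex.ShortExact.mk' (ShortComplex.exact_cokernel ι) inferInstance inferInstance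
  have hx : x.comp (Ext.mk₀ S.f) (add_zero 1) = 0 := Ext.eq_zero_of_injective _
  obtain ⟨x₃, rfl⟩ := Ext.covariant_sequence_exact₁ X hS x hx (zero_add 1)
  obtain ⟨s, rfl⟩ := (Ext.mk₀_bijective _ _).2 x₃
  let f : S ⟶ S :=
    { τ₁ := μ _, τ₂ := μ _, τ₃ := μ _, comm₁₂ := hμ _, comm₂₃ := hμ _ }
  have hnat := ShortComplex.ShortExact.extClass_naturality hS hS f
  calc (Ext.mk₀ (μ X)).comp ((Ext.mk₀ s).comp hS.extClass (zero_add 1)) (zero_add 1)
      = (Ext.mk₀ (μ X ≫ s)).comp hS.extClass (zero_add 1) := by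
        rw [Ext.mk₀_comp_mk₀_assoc]
    _ = (Ext.mk₀ (s ≫ μ _)).comp hS.extClass (zero_add 1) := by rw [hμ]
    _ = (Ext.mk₀ s).comp ((Ext.mk₀ f.τ₃).comp hS.extClass (zero_add 1)) (zero_add 1) := by
        rw [Ext.mk₀_comp_mk₀_assoc]
    _ = (Ext.mk₀ s).comp (hS.extClass.comp (Ext.mk₀ f.τ₁) (add_zero 1)) (zero_add 1) := by
        rw [hnat]
    _ = ((Ext.mk₀ s).comp hS.extClass (zero_add 1)).comp (Ext.mk₀ (μ Y)) (add_zero 1) := by
        rw [Ext.comp_assoc_of_third_deg_zero]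

end Central


section Main
variable (J)

lemma bot_mem_of_zsmul_eq_zero (W : C) (m : ℤ) (hm : m ≠ 0)
    (h : m • 𝟙 (((constantSheaf J AddCommGrpCat.{u}).obj
      (AddCommGrpCat.of (ULift.{u} ℤ))).obj.obj (op W)) = 0) : ⊥ ∈ J W := by
  let P : Cᵒᵖ ⥤ AddCommGrpCat.{u} := (Functor.const Cᵒᵖ).obj (AddCommGrpCat.of (ULift.{u} ℤ))
  let t := toSheafify J P
  let one : P.obj (op W) := (ULift.up 1 : ULift.{u} ℤ)
  have h1 : t.app (op W) (m • one) = t.app (op W) 0 := by
    rw [map_zsmul, map_zero]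
    exact congrArg (fun f => f (t.app (op W) one)) h
  have hmem := Presheaf.equalizerSieve_mem J t (m • one) 0 h1
  refine J.superset_covering ?_ hmem
  intro Y f hf
  exfalso
  apply hm
  have h2 : (m • one : ULift.{u} ℤ) = 0 := hf
  have h3 := congrArg ULift.down h2
  have h4 : m • (1 : ℤ) = 0 := h3
  simpa using h4


section Div
variable (A : Type u) [AddCommGroup A]

abbrev DD : Type u := LocalizedModule (nonZeroDivisors ℤ) A

noncomputable def toDD : A →+ DD A := (LocalizedModule.mkLinearMap (nonZeroDivisors ℤ) A).toAddMonoidHom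

lemma toDD_injective (hA : ∀ (m : ℤ) (a : A), m ≠ 0 → m • a = 0 → a = 0) :
    Function.Injective (toDD A) := by
  intro a b hab
  have h1 : LocalizedModule.mk a (1 : nonZeroDivisors ℤ) =
      LocalizedModule.mk b (1 : nonZeroDivisors ℤ) := hab
  rw [LocalizedModule.mk_eq] at h1
  obtain ⟨c, hc⟩ := h1
  rw [one_smul, one_smul] at hc
  have h2 : (c : ℤ) • (a - b) = 0 := by
    rw [smul_sub, sub_eq_zero]
    exact hc
  exact sub_eq_zero.1 (hA c (a - b) (nonZeroDivisors.ne_zero c.2) h2)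

/-- division by `m` on `DD A` (zero if `m = 0`) -/
noncomputable def inv' (m : ℤ) : AddCommGrpCat.of (DD A) ⟶ AddCommGrpCat.of (DD A) :=
  if h : m = 0 then 0 else
    AddCommGrpCat.ofHom (LocalizedModule.divBy (⟨m, mem_nonZeroDivisors_of_ne_zero h⟩ :
      nonZeroDivisors ℤ)).toAddMonoidHom

lemma zsmul_inv' (m : ℤ) (hm : m ≠ 0) : m • inv' A m = 𝟙 _ := by
  refine AddCommGrpCat.hom_ext (AddMonoidHom.ext fun d => ?_)
  unfold inv'
  rw [dif_neg hm]
  have := LocalizedModule.mul_by_divBy (⟨m, mem_nonZeroDivisors_of_ne_zero hm⟩ :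
      nonZeroDivisors ℤ) d
  rw [Module.algebraMap_end_apply] at this
  refine Eq.trans ?_ this
  show m • ((LocalizedModule.divBy _) d) = _
  exact (int_smul_eq_zsmul (M := DD A) (OreLocalization.instModuleOfIsScalarTower) m _).symm

end Div


theorem main {A : Type u} [AddCommGroup A] (hA : ∀ (m : ℤ) (a : A), m ≠ 0 → m • a = 0 → a = 0)
    (φ : (constantSheaf J AddCommGrpCat.{u}).obj (AddCommGrpCat.of (ULift.{u} ℤ)) ⟶
      (constantSheaf J AddCommGrpCat.{u}).obj (AddCommGrpCat.of (ULift.{u} ℤ)))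
    {ι : Type u} (U : ι → C) (n : ι → ℤ) (hn : ∀ i, n i ≠ 0)
    (hφ : ∀ (i : ι) (V : C) (_ : V ⟶ U i), φ.hom.app (op V) = n i • 𝟙 _)
    (hcov : ∀ V : C, ∃ R ∈ J V, ∀ ⦃W : C⦄ (g : W ⟶ V), R g → ∃ i, Nonempty (W ⟶ U i))
    (x : Sheaf.H ((constantSheaf J AddCommGrpCat.{u}).obj (AddCommGrpCat.of A)) 1)
    (hx : (Abelian.Ext.mk₀ φ).comp x (zero_add 1) = 0) :
    x = 0 := by
  -- consistency
  have hK : ∀ (W : C) (i j : ι), (W ⟶ U i) → (W ⟶ U j) → n i = n j ∨ ⊥ ∈ J W := by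
    intro W i j a b
    by_cases h : n i = n j
    · exact Or.inl h
    · refine Or.inr (bot_mem_of_zsmul_eq_zero J W (n i - n j) (sub_ne_zero.2 h) ?_)
      rw [sub_smul, sub_eq_zero, ← hφ i W a, ← hφ j W b]
  have hbot : ∀ (W : C) (F G : Sheaf J AddCommGrpCat.{u}), ⊥ ∈ J W →
      ∀ (f g : F.obj.obj (op W) ⟶ G.obj.obj (op W)), f = g := by
    intro W F G h f g
    exact G.property.hom_ext ⟨⊥, h⟩ _ _ (fun I => I.hf.elim)
  -- central multiplication
  have hμex : ∀ F : Sheaf J AddCommGrpCat.{u}, ∃ e' : F ⟶ F, ∀ (i : ι) (V : C) (_ : V ⟶ U i),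
      e'.hom.app (op V) = (n i • 𝟙 F).hom.app (op V) := by
    intro F
    refine exists_glue U hcov (fun i => n i • 𝟙 F) ?_
    intro W i j a b
    rcases hK W i j a b with h | h
    · rw [h]
    · exact hbot W F F h _ _
  choose μ hμ using hμex
  have hμnat : ∀ {F G : Sheaf J AddCommGrpCat.{u}} (f : F ⟶ G), μ F ≫ f = f ≫ μ G := by
    intro F G f
    refine hom_ext_loc U hcov _ _ (fun i V a => ?_)
    have h1 : (μ F ≫ f).hom.app (op V) = (μ F).hom.app (op V) ≫ f.hom.app (op V) := rfl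
    have h2 : (f ≫ μ G).hom.app (op V) = f.hom.app (op V) ≫ (μ G).hom.app (op V) := rfl
    rw [h1, h2, hμ F i V a, hμ G i V a]
    have h3 : (n i • 𝟙 F) ≫ f = f ≫ (n i • 𝟙 G) := by
      rw [Preadditive.zsmul_comp, Preadditive.comp_zsmul, Category.id_comp, Category.comp_id]
    exact congrArg (fun k => k.hom.app (op V)) h3
  have hφμ : φ = μ _ := by
    refine hom_ext_loc U hcov _ _ (fun i V a => ?_)
    rw [hφ i V a, hμ _ i V a]
    rfl
  -- the divisible hull
  let cs := constantSheaf J AddCommGrpCat.{u}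
  let fD : AddCommGrpCat.of A ⟶ AddCommGrpCat.of (DD A) := AddCommGrpCat.ofHom (toDD A)
  let Dc := cs.obj (AddCommGrpCat.of (DD A))
  obtain ⟨ν, hν⟩ := exists_glue U hcov (fun i => cs.map (inv' A (n i))) (by
    intro W i j a b
    rcases hK W i j a b with h | h
    · rw [h]
    · exact hbot W Dc Dc h _ _)
  have hμν : μ Dc ≫ ν = 𝟙 Dc := by
    refine hom_ext_loc U hcov _ _ (fun i V a => ?_)
    have h1 : (μ Dc ≫ ν).hom.app (op V) = (μ Dc).hom.app (op V) ≫ ν.hom.app (op V) := rfl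
    rw [h1, hμ Dc i V a, hν i V a]
    have h3 : (n i • 𝟙 Dc) ≫ cs.map (inv' A (n i)) = 𝟙 Dc := by
      rw [Preadditive.zsmul_comp, Category.id_comp, ← Functor.map_zsmul, zsmul_inv' A (n i) (hn i),
        CategoryTheory.Functor.map_id]
    exact congrArg (fun k => k.hom.app (op V)) h3
  apply ConstSh.main J (toDD A) (toDD_injective A hA)
  rw [map_zero, Sheaf.H.map_apply]
  set y := x.comp (Ext.mk₀ (cs.map (AddCommGrpCat.ofHom (toDD A)))) (add_zero 1) with hy
  have h1 : (Ext.mk₀ (μ _)).comp y (zero_add 1) = 0 := by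
    rw [hy, ← hφμ, ← Ext.comp_assoc_of_third_deg_zero, hx, Ext.zero_comp]
  rw [central_ext_one μ hμnat] at h1
  have h2 : (y.comp (Ext.mk₀ (μ Dc)) (add_zero 1)).comp (Ext.mk₀ ν) (add_zero 1) = y := by
    rw [Ext.comp_assoc_of_third_deg_zero, Ext.mk₀_comp_mk₀, hμν, Ext.comp_mk₀_id]
  rw [← h2, h1, Ext.zero_comp]


end Main

end Groth.Agent.Lib.Helper53.LocMul
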