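import Groth.Agent.Lib.Helper53.LocData

/-!
# Derived limits in `D(𝒜)` for `𝒜` with abstract local data: ports of `RlimInj`, `S0880`,
`TruncTowerSite`, `S0881` (helper53)
-/

set_option autoImplicit false
universe w u
open CategoryTheory Limits Pretriangulated Opposite

namespace Groth.Agent.Lib.Helper53.LocRlim

open DerivedCategory Groth.Agent.Lib.Helper53.DerLoc Groth.Agent.Lib.Helper53.RlimMilnor
  Groth.Agent.Lib.Helper53.TruncTower Groth.Agent.Lib.Helper53.LocData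

variable {C : Type u} [SmallCategory C] {J : GrothendieckTopology C}
  {𝒜 : Type (u + 1)} [Category.{u} 𝒜] [Abelian 𝒜] [HasDerivedCategory.{w} 𝒜]
  (D : LocData C J 𝒜)

section Inj

variable (K : ℕ → DerivedCategory 𝒜) (t : ∀ n, K (n + 1) ⟶ K n) [HasProduct K]
  (L : DerivedCategory 𝒜) (a : ∀ n, L ⟶ K n) (hL : CohCx.IsRlimVia K t L a)

include hL in
lemma a_transition (n k : ℕ) : a (n + k) ≫ CohCx.transition K t n k = a n := by
  induction k with
  | zero => exact Category.comp_id _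
  | succ k ih =>
    show a (n + k + 1) ≫ t (n + k) ≫ CohCx.transition K t n k = a n
    rw [← Category.assoc, a_compat K t L a hL (n + k), ih]

/-- the condition on an object `U` -/
def Cond (m : ℤ) (n₀ : ℕ) (U : C) : Prop :=
  CohCx.LimOneIsZero (fun n => HDU D (K n) (m - 1) U)
      (fun n => Preadditive.rightComp _ ((shiftFunctor _ (m - 1)).map (t n))) ∧
    ∀ k : ℕ, Function.Injective
      (Preadditive.rightComp _ ((shiftFunctor _ m).map (CohCx.transition K t n₀ k)) :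
        HDU D (K (n₀ + k)) m U → HDU D (K n₀) m U)

include hL in
lemma eq_zero_of_cond (m : ℤ) (n₀ : ℕ) (U : C) (hU : Cond D K t m n₀ U) (γ : HDU D L m U)
    (hγ : γ ≫ (a n₀)⟦m⟧' = 0) : γ = 0 := by
  have hall : ∀ n, γ ≫ (a n)⟦m⟧' = 0 := by
    intro n
    by_cases hn : n₀ ≤ n
    · obtain ⟨k, rfl⟩ := Nat.exists_eq_add_of_le hn
      apply hU.2 k
      show (γ ≫ (a (n₀ + k))⟦m⟧') ≫ (CohCx.transition K t n₀ k)⟦m⟧' =
        0 ≫ (CohCx.transition K t n₀ k)⟦m⟧'
      rw [Category.assoc, ← Functor.map_comp, a_transition K t L a hL, hγ, zero_comp]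
    · obtain ⟨k, rfl⟩ := Nat.exists_eq_add_of_le (Nat.le_of_not_le hn)
      have h1 := a_transition K t L a hL n k
      rw [← h1, Functor.map_comp, ← Category.assoc, hγ, zero_comp]
  exact milnor_inj K t L a hL _ (m - 1) m (by omega) γ hall hU.1

include hL in
theorem core (V : C) (m : ℤ) (n₀ : ℕ) (σ : HS D L m V)
    (hσ : HSmap D (a n₀) m V σ = 0) :
    ∃ S₀ : Sieve V, S₀ ∈ J V ∧ ∀ ⦃U : C⦄ (f : U ⟶ V), S₀ f → Cond D K t m n₀ U →
      HSres D L m f σ = 0 := by
  obtain ⟨S₁, hS₁⟩ := loc_surj D L m V σ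
  choose φ hφ using hS₁
  have h2 : ∀ a₁ : S₁.Arrow, kU D (K n₀) m a₁.Y (φ a₁ ≫ (a n₀)⟦m⟧') = 0 := by
    intro a₁
    rw [kU_comp_right, hφ]
    have hn := ConcreteCategory.congr_hom
      ((D.Γ.map ((homologyFunctor 𝒜 m).map (a n₀))).hom.naturality a₁.f.op) σ
    simp only [ConcreteCategory.comp_apply] at hn
    refine hn.trans ?_
    have hσ' : (D.Γ.map ((homologyFunctor 𝒜 m).map (a n₀))).hom.app (op V) σ = 0 := hσ
    rw [hσ', map_zero]
  have h3 : ∀ a₁ : S₁.Arrow, ∃ S : J.Cover a₁.Y, ∀ a₂ : S.Arrow,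
      (singleFunctor _ 0).map (D.Tmap a₂.f) ≫ (φ a₁ ≫ (a n₀)⟦m⟧') = 0 :=
    fun a₁ => loc_inj D (K n₀) m a₁.Y (φ a₁ ≫ (a n₀)⟦m⟧') (h2 a₁)
  let S₂ : ∀ a₁ : S₁.Arrow, J.Cover a₁.Y := fun a₁ => Classical.choose (h3 a₁)
  have hS₂ : ∀ (a₁ : S₁.Arrow) (a₂ : (S₂ a₁).Arrow),
      (singleFunctor _ 0).map (D.Tmap a₂.f) ≫ (φ a₁ ≫ (a n₀)⟦m⟧') = 0 :=
    fun a₁ => Classical.choose_spec (h3 a₁)
  refine ⟨Sieve.bind (S₁ : Sieve V).arrows (fun Y f hf => (S₂ ⟨Y, f, hf⟩ : Sieve Y)), ?_, ?_⟩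
  · exact J.bind_covering S₁.condition (fun Y f hf => (S₂ ⟨Y, f, hf⟩).condition)
  · rintro U f ⟨Y, g, f₁, hf₁, hg, rfl⟩ hU
    let a₁ : S₁.Arrow := ⟨Y, f₁, hf₁⟩
    let a₂ : (S₂ a₁).Arrow := ⟨U, g, hg⟩
    let γ : HDU D L m U := (singleFunctor _ 0).map (D.Tmap g) ≫ φ a₁
    have hγ0 : γ ≫ (a n₀)⟦m⟧' = 0 := by
      have := hS₂ a₁ a₂
      show ((singleFunctor _ 0).map (D.Tmap g) ≫ φ a₁) ≫ (a n₀)⟦m⟧' = 0
      rw [Category.assoc]
      exact this
    have hγ : γ = 0 := eq_zero_of_cond D K t L a hL m n₀ U hU γ hγ0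
    have h3 : kU D L m U γ = HSres D L m g (HSres D L m f₁ σ) := by
      show kU D L m U ((singleFunctor _ 0).map (D.Tmap g) ≫ φ a₁) = _
      rw [kU_res, hφ a₁]
    rw [hγ, kU_zero] at h3
    show (D.Γ.obj ((homologyFunctor 𝒜 m).obj L)).obj.map (g ≫ f₁).op σ = 0
    rw [op_comp, Functor.map_comp]
    exact h3.symm

include hL in
/-- port of S0880 -/
theorem injective_of_cond (V : C) (m : ℤ) (nV : ℕ)
    (h : ∀ T ∈ J V, ∃ (ι : Type u) (Y : ι → C) (f : ∀ i, Y i ⟶ V), (∀ i, T.arrows (f i)) ∧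
      Sieve.ofArrows Y f ∈ J V ∧ ∀ i, Cond D K t m nV (Y i)) :
    Function.Injective (HSmap D (a nV) m V) := by
  intro x y hxy
  have key : x - y = 0 := by
    obtain ⟨S₀, hS₀, hcore⟩ := core D K t L a hL V m nV (x - y) (by
      rw [map_sub, hxy, sub_self])
    obtain ⟨ι, Y, f, hT, hcov, hc⟩ := h S₀ hS₀
    apply RlimInj.section_ext _ _ hcov
    rintro U g ⟨W, g', f', ⟨i⟩, rfl⟩
    rw [map_zero, op_comp, Functor.map_comp]
    have h1 := hcore (f i) (hT i) (hc i)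
    show (D.Γ.obj ((homologyFunctor 𝒜 m).obj L)).obj.map g'.op
      ((D.Γ.obj ((homologyFunctor 𝒜 m).obj L)).obj.map (f i).op (x - y)) = 0
    have h1' : (D.Γ.obj ((homologyFunctor 𝒜 m).obj L)).obj.map (f i).op (x - y) = 0 := h1
    rw [h1', map_zero]
  exact sub_eq_zero.1 key

end Inj

section Trunc

variable [HasExt.{u} 𝒜] (E : DerivedCategory 𝒜)

/-- vanishing of `Hom(T_U[0], F[q])` for the fibre of a transition map of the truncation tower -/
lemma subsingleton_fibre (U : C) (p : ℤ → ℤ)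
    (hU : ∀ (m : ℤ) (k : ℕ), p m < k →
      Subsingleton (Abelian.Ext.{u} (D.T U) ((homologyFunctor 𝒜 (m - k)).obj E) k))
    (q : ℤ) (n : ℕ) (hn : p q - q ≤ n)
    (F : DerivedCategory 𝒜) (f : F ⟶ CohCx.truncTower E (n + 1))
    (δ : CohCx.truncTower E n ⟶ F⟦(1 : ℤ)⟧)
    (hTr : Triangle.mk f (CohCx.truncTowerMap E n) δ ∈ distTriang _) :
    Subsingleton (HDU D F q U) := by
  obtain ⟨e⟩ := exists_iso_fibre E n F f δ hTr
  let d : ℤ := -((n : ℤ) + 1)
  haveI : Subsingleton ((singleFunctor _ 0).obj (D.T U) ⟶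
      ((singleFunctor _ d).obj ((homologyFunctor _ d).obj E))⟦q⟧) := by
    apply subsingleton_hom_single_shift.{u}
    intro k hk
    have h1 := hU q k (by omega)
    have h2 : q - (k : ℤ) = d := by omega
    rw [h2] at h1
    exact h1
  refine ⟨fun x y => ?_⟩
  have : x ≫ (e.hom)⟦q⟧' = y ≫ (e.hom)⟦q⟧' := Subsingleton.elim _ _
  exact (cancel_mono ((e.hom)⟦q⟧')).1 this

lemma cond_of_vanishing (U : C) (p : ℤ → ℤ)
    (hU : ∀ (m : ℤ) (k : ℕ), p m < k →
      Subsingleton (Abelian.Ext.{u} (D.T U) ((homologyFunctor 𝒜 (m - k)).obj E) k))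
    (q : ℤ) (n₀ : ℕ) (hn₀ : p q - q ≤ n₀) :
    Cond D (CohCx.truncTower E) (CohCx.truncTowerMap E) q n₀ U := by
  have key : ∀ n, n₀ ≤ n →
      Function.Injective (fun φ : HDU D (CohCx.truncTower E (n + 1)) q U =>
        φ ≫ (CohCx.truncTowerMap E n)⟦q⟧') ∧
      Function.Surjective (fun φ : HDU D (CohCx.truncTower E (n + 1)) (q - 1) U =>
        φ ≫ (CohCx.truncTowerMap E n)⟦q - 1⟧') := by
    intro n hn
    obtain ⟨F, f, δ, hTr⟩ := distinguished_cocone_triangle₁ (CohCx.truncTowerMap E n)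
    have hsub := subsingleton_fibre D E U p hU q n (by omega) F f δ hTr
    exact ⟨injective_of_subsingleton _ hTr _ q hsub,
      surjective_of_subsingleton _ hTr _ (q - 1) q (by omega) hsub⟩
  constructor
  · exact limOne_of_eventually_surjective n₀ _ _ (fun n hn => (key n hn).2)
  · intro k
    induction k with
    | zero =>
      intro x y hxy
      have h1 : ∀ z : HDU D (CohCx.truncTower E (n₀ + 0)) q U,
          Preadditive.rightComp _ ((shiftFunctor _ q).map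
            (CohCx.transition (CohCx.truncTower E) (CohCx.truncTowerMap E) n₀ 0)) z = z := by
        intro z
        show z ≫ (𝟙 _)⟦q⟧' = z
        rw [CategoryTheory.Functor.map_id, Category.comp_id]
      rw [h1, h1] at hxy
      exact hxy
    | succ k ih =>
      intro x y hxy
      apply (key (n₀ + k) (Nat.le_add_right _ _)).1
      apply ih
      show (x ≫ (CohCx.truncTowerMap E (n₀ + k))⟦q⟧') ≫
          (CohCx.transition (CohCx.truncTower E) (CohCx.truncTowerMap E) n₀ k)⟦q⟧' =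
        (y ≫ (CohCx.truncTowerMap E (n₀ + k))⟦q⟧') ≫
          (CohCx.transition (CohCx.truncTower E) (CohCx.truncTowerMap E) n₀ k)⟦q⟧'
      rw [Category.assoc, Category.assoc, ← Functor.map_comp]
      exact hxy

variable [HasProduct (CohCx.truncTower E)]

/-- the comparison map `E ⟶ L` to a derived limit of the truncation tower is an isomorphism, given
local injectivity data -/
theorem isRlimVia_of_injective (B : Set C)
    (hB : ∀ U : C, ∃ (ι : Type u) (Y : ι → C) (f : ∀ i, Y i ⟶ U),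
      Sieve.ofArrows Y f ∈ J U ∧ ∀ i, Y i ∈ B)
    (hinj : ∀ (L : DerivedCategory 𝒜)
      (a : ∀ n, L ⟶ CohCx.truncTower E n)
      (_ : CohCx.IsRlimVia (CohCx.truncTower E) (CohCx.truncTowerMap E) L a) (q : ℤ),
      ∀ V ∈ B, ∃ n₀ : ℕ, -(n₀ : ℤ) ≤ q ∧ Function.Injective (HSmap D (a n₀) q V)) :
    CohCx.IsRlimVia (CohCx.truncTower E) (CohCx.truncTowerMap E) E (CohCx.toTruncTower E) := by
  let K := CohCx.truncTower E
  let tt := CohCx.truncTowerMap E
  let aE := CohCx.toTruncTower E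
  obtain ⟨L, u, c, hTr⟩ := distinguished_cocone_triangle₁ (dmap K tt)
  let aL : ∀ n, L ⟶ K n := fun n => u ≫ Pi.π K n
  have hu : u = Pi.lift aL := by
    apply Limits.Pi.hom_ext
    intro n
    rw [Pi.lift_π]
  have hL : CohCx.IsRlimVia K tt L aL := ⟨c, by rw [← hu]; exact hTr⟩
  have h0 : Pi.lift aE ≫ dmap K tt = 0 := by
    apply Limits.Pi.hom_ext
    intro n
    rw [Category.assoc, Pi.lift_π, Preadditive.comp_sub, Pi.lift_π, Pi.lift_π_assoc, zero_comp]
    exact sub_eq_zero.2 (toTruncTower_comp E n).symm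
  obtain ⟨lam₀, hlam₀⟩ := Triangle.coyoneda_exact₂ _ hTr (Pi.lift aE) h0
  let lam : E ⟶ L := lam₀
  have hlam : Pi.lift aE = lam ≫ u := hlam₀
  have hlam' : ∀ n, lam ≫ aL n = aE n := by
    intro n
    have h1 : Pi.lift aE = lam ≫ u := hlam
    show lam ≫ u ≫ Pi.π K n = aE n
    rw [← Category.assoc, ← h1, Pi.lift_π]
  have hiso : IsIso lam := by
    rw [isIso_iff]
    intro q
    let α := (homologyFunctor 𝒜 q).map lam
    have hcomp : ∀ n, α ≫ (homologyFunctor _ q).map (aL n) = (homologyFunctor _ q).map (aE n) := by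
      intro n
      rw [← Functor.map_comp, hlam']
    haveI hmono : Mono α := by
      haveI : IsIso ((homologyFunctor _ q).map (aE (Int.toNat (-q)))) :=
        isIso_homology_toTruncTower E _ q (by omega)
      haveI : Mono (α ≫ (homologyFunctor _ q).map (aL (Int.toNat (-q)))) := by
        rw [hcomp]; infer_instance
      exact mono_of_mono α ((homologyFunctor _ q).map (aL (Int.toNat (-q))))
    haveI hepi : Epi α := by
      apply D.epi_of_locSurj
      refine HomShf.isLocallySurjective_of_basis (D.Γ.map α).hom B hB ?_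
      intro V hV σ
      obtain ⟨n₀, hn₀, hinj'⟩ := hinj L aL hL q V hV
      haveI hι : IsIso ((homologyFunctor _ q).map (aE n₀)) :=
        isIso_homology_toTruncTower E n₀ q hn₀
      let β := (homologyFunctor 𝒜 q).map (aL n₀)
      let ι := (homologyFunctor 𝒜 q).map (aE n₀)
      let ρ := (D.Γ.map (inv ι)).hom.app (op V) ((D.Γ.map β).hom.app (op V) σ)
      refine ⟨ρ, ?_⟩
      apply hinj'
      have h1 : (D.Γ.map β).hom.app (op V) ((D.Γ.map α).hom.app (op V) ρ) =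
          (D.Γ.map ι).hom.app (op V) ρ := by
        have h := hcomp n₀
        have h' : D.Γ.map α ≫ D.Γ.map β = D.Γ.map ι := by
          rw [← Functor.map_comp]
          exact congrArg D.Γ.map h
        have := congrArg (fun z => z.hom.app (op V) ρ) h'
        exact this
      refine h1.trans ?_
      have h2 : (D.Γ.map (inv ι) ≫ D.Γ.map ι).hom.app (op V) ((D.Γ.map β).hom.app (op V) σ) =
          (D.Γ.map β).hom.app (op V) σ := by
        rw [← Functor.map_comp, IsIso.inv_hom_id, CategoryTheory.Functor.map_id]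
        rfl
      exact h2
    exact isIso_of_mono_of_epi α
  haveI := hiso
  refine ⟨c ≫ (inv lam)⟦(1 : ℤ)⟧', ?_⟩
  refine isomorphic_distinguished _ hTr _ ?_
  let elam : E ≅ L := asIso lam
  refine Triangle.isoMk _ _ elam (Iso.refl _) (Iso.refl _) ?_ ?_ ?_
  · show Pi.lift aE ≫ 𝟙 _ = lam ≫ u
    rw [Category.comp_id]
    exact hlam
  · show dmap K tt ≫ 𝟙 _ = 𝟙 _ ≫ dmap K tt
    rw [Category.comp_id, Category.id_comp]
  · show (c ≫ (inv lam)⟦(1 : ℤ)⟧') ≫ lam⟦(1 : ℤ)⟧' = 𝟙 _ ≫ c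
    rw [Category.assoc, ← Functor.map_comp, IsIso.inv_hom_id, CategoryTheory.Functor.map_id,
      Category.comp_id, Category.id_comp]

/-- port of S0881 -/
theorem isRlimVia_truncTower (B : Set C)
    (hB : ∀ U : C, ∃ (ι : Type u) (Y : ι → C) (f : ∀ i, Y i ⟶ U),
      Sieve.ofArrows Y f ∈ J U ∧ ∀ i, Y i ∈ B)
    (h : ∀ V ∈ B, ∃ p : ℤ → ℤ, ∀ T ∈ J V, ∃ (ι : Type u) (Y : ι → C) (f : ∀ i, Y i ⟶ V),
      (∀ i, T.arrows (f i)) ∧ Sieve.ofArrows Y f ∈ J V ∧
      ∀ (i : ι) (m : ℤ) (k : ℕ), p m < k →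
        Subsingleton (Abelian.Ext.{u} (D.T (Y i)) ((homologyFunctor 𝒜 (m - k)).obj E) k)) :
    CohCx.IsRlimVia (CohCx.truncTower E) (CohCx.truncTowerMap E) E (CohCx.toTruncTower E) := by
  refine isRlimVia_of_injective D E B hB ?_
  intro L a hL q V hV
  obtain ⟨p, hp⟩ := h V hV
  refine ⟨Int.toNat (max (-q) (p q - q)), by omega, ?_⟩
  refine injective_of_cond D _ _ L a hL V q _ ?_
  intro T hT
  obtain ⟨ι, Y, f, hT', hcov, hvan⟩ := hp T hT
  exact ⟨ι, Y, f, hT', hcov, fun i => cond_of_vanishing D E (Y i) p (hvan i) q _ (by omega)⟩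

end Trunc

end Groth.Agent.Lib.Helper53.LocRlim
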