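import Groth.Agent.Lib.Helper53.ExtRes

/-!
# The image of an injective resolution under an exact functor preserving injectives
-/

universe w w' v u v' u'

open CategoryTheory Abelian Limits

namespace Groth.Agent.Lib.Helper53.ExtRes

section

variable {C : Type u} [Category.{v} C] [Abelian C]
  {D : Type u'} [Category.{v'} D] [Abelian D]
  (Φ : C ⥤ D) [Φ.Additive] [PreservesFiniteLimits Φ]

set_option backward.isDefEq.respectTransparency false in
/-- the image of an injective resolution under a left exact functor `Φ`
preserving the injectivity of the terms is an injective resolution as soon as it is exact in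
positive degrees -/
noncomputable def mapRes' {Y : C} (R : InjectiveResolution Y)
    (hinj : ∀ n, Injective (Φ.obj (R.cocomplex.X n)))
    (hex : ∀ n, IsZero (((Φ.mapHomologicalComplex _).obj R.cocomplex).homology (n + 1))) :
    InjectiveResolution (Φ.obj Y) where
  cocomplex := (Φ.mapHomologicalComplex _).obj R.cocomplex
  injective n := hinj n
  ι := (CochainComplex.fromSingle₀Equiv _ _).symm ⟨Φ.map (aug R), map_aug_d Φ R⟩
  quasiIso := ⟨fun n => by
    cases n with
    | zero =>
      rw [CochainComplex.quasiIsoAt₀_iff, ShortComplex.quasiIso_iff_of_zeros]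
      · refine (ShortComplex.exact_and_mono_f_iff_of_iso ?_).2
          ((ShortComplex.exact_and_mono_f_iff_f_is_kernel
          (ShortComplex.mk (Φ.map (aug R)) (Φ.map (R.cocomplex.d 0 1)) (map_aug_d Φ R))).2
          ⟨KernelFork.mapIsLimit _ R.isLimitKernelFork Φ⟩)
        exact ShortComplex.isoMk (Iso.refl _) (Iso.refl _) (Iso.refl _) (by simp) (by simp)
      · rfl
      · rfl
      · show Φ.map (R.cocomplex.d 0 0) = 0
        rw [R.cocomplex.shape 0 0 (by simp), Φ.map_zero]
    | succ n =>
      rw [quasiIsoAt_iff_exactAt]
      · rw [HomologicalComplex.exactAt_iff_isZero_homology]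
        exact hex n
      · apply CochainComplex.exactAt_succ_single_obj⟩

variable [PreservesFiniteColimits Φ]

/-- the image of an injective resolution under an exact functor preserving injectives -/
noncomputable def mapResExact {Y : C} (R : InjectiveResolution Y)
    (hinj : ∀ n, Injective (Φ.obj (R.cocomplex.X n))) : InjectiveResolution (Φ.obj Y) :=
  mapRes' Φ R hinj (fun n => by
    have h1 : IsZero (R.cocomplex.homology (n + 1)) := by
      rw [← HomologicalComplex.exactAt_iff_isZero_homology]
      exact R.cocomplex_exactAt_succ n
    exact IsZero.of_iso (Φ.map_isZero h1) ((R.cocomplex.sc (n + 1)).mapHomologyIso Φ))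

lemma mapResExact_cocomplex {Y : C} (R : InjectiveResolution Y)
    (hinj : ∀ n, Injective (Φ.obj (R.cocomplex.X n))) :
    (mapResExact Φ R hinj).cocomplex = (Φ.mapHomologicalComplex _).obj R.cocomplex := rfl

end

end Groth.Agent.Lib.Helper53.ExtRes
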