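import Groth.Agent.Lib.Helper53.ProdExtTower

/-!
# The Milnor short exact sequence for `Ext(T, lim F)` (helper53)

Packaging of `ProdExt.exists_connecting` / `ProdExt.exists_lift_of_compatible` as a short exact
sequence `0 → R¹lim Ext^p(T, F_n) → Ext^{p+1}(T, L) → lim Ext^{p+1}(T, F_n) → 0` for any object `L`
isomorphic to `lim F` compatibly with given projections.
-/

set_option autoImplicit false
universe w v u
open CategoryTheory Limits Abelian Opposite

namespace Groth.Agent.Lib.Helper53.ProdExt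

variable {𝒜 : Type u} [Category.{v} 𝒜] [Abelian 𝒜] [HasExt.{w} 𝒜] (F : ℕᵒᵖ ⥤ 𝒜) [HasLimit F]
  [HasProduct (tobj F)] (T : 𝒜)
  (hSE : (towerSC F).ShortExact) (hc : ∀ i, Function.Bijective (cmp T (tobj F) i))
  (L : 𝒜) (π : ∀ n, L ⟶ tobj F n) (e : L ≅ limit F) (he : ∀ n, e.hom ≫ limit.π F (op n) = π n)

include hSE hc he in
theorem milnor_ses (p : ℕ) :
    ∃ (α : Formal2.limOne (fun n => Ext.{w} T (tobj F n) p) (extT F T p) →+ Ext.{w} T L (p + 1))
      (β : Ext.{w} T L (p + 1) →+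
        Formal2.limZero (fun n => Ext.{w} T (tobj F n) (p + 1)) (extT F T (p + 1))),
      Function.Injective α ∧ Function.Surjective β ∧ α.range = β.ker ∧
      ∀ (x : Ext.{w} T L (p + 1)) (n : ℕ),
        (β x : ∀ n, Ext.{w} T (tobj F n) (p + 1)) n =
          x.comp (Ext.mk₀ (π n)) (add_zero (p + 1)) := by
  obtain ⟨Φ, hker, hrange⟩ := exists_connecting F T hSE hc (p + 1) p rfl
  -- transport along `e`
  let ψ : Ext.{w} T L (p + 1) →+ Ext.{w} T (limit F) (p + 1) :=
    (Ext.mk₀ e.hom).postcomp T (add_zero (p + 1))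
  let ψi : Ext.{w} T (limit F) (p + 1) →+ Ext.{w} T L (p + 1) :=
    (Ext.mk₀ e.inv).postcomp T (add_zero (p + 1))
  have hψ : ∀ x, ψ x = x.comp (Ext.mk₀ e.hom) (add_zero (p + 1)) := fun _ => rfl
  have hψi : ∀ y, ψi y = y.comp (Ext.mk₀ e.inv) (add_zero (p + 1)) := fun _ => rfl
  have h1 : ∀ x, ψi (ψ x) = x := by
    intro x
    rw [hψ, hψi, Ext.comp_assoc_of_third_deg_zero, Ext.mk₀_comp_mk₀, e.hom_inv_id,
      Ext.comp_mk₀_id]
  have h2 : ∀ y, ψ (ψi y) = y := by
    intro y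
    rw [hψ, hψi, Ext.comp_assoc_of_third_deg_zero, Ext.mk₀_comp_mk₀, e.inv_hom_id,
      Ext.comp_mk₀_id]
  have hπ : ∀ (x : Ext.{w} T L (p + 1)) (n : ℕ),
      (ψ x).comp (Ext.mk₀ (limit.π F (op n))) (add_zero (p + 1)) =
        x.comp (Ext.mk₀ (π n)) (add_zero (p + 1)) := by
    intro x n
    rw [hψ, Ext.comp_assoc_of_third_deg_zero, Ext.mk₀_comp_mk₀, he]
  have hcompat : ∀ (x : Ext.{w} T L (p + 1)),
      (fun n => x.comp (Ext.mk₀ (π n)) (add_zero (p + 1))) ∈
        Formal2.limZero (fun n => Ext.{w} T (tobj F n) (p + 1)) (extT F T (p + 1)) := by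
    intro x
    rw [AddMonoidHom.mem_ker]
    funext n
    show x.comp (Ext.mk₀ (π n)) (add_zero (p + 1)) -
      extT F T (p + 1) n (x.comp (Ext.mk₀ (π (n + 1))) (add_zero (p + 1))) = 0
    rw [extT_apply, Ext.comp_assoc_of_third_deg_zero, Ext.mk₀_comp_mk₀, ← he (n + 1),
      Category.assoc, limit.w, he, sub_self]
  let β : Ext.{w} T L (p + 1) →+
      Formal2.limZero (fun n => Ext.{w} T (tobj F n) (p + 1)) (extT F T (p + 1)) :=
    { toFun := fun x => ⟨fun n => x.comp (Ext.mk₀ (π n)) (add_zero (p + 1)), hcompat x⟩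
      map_zero' := by
        apply Subtype.ext
        funext n
        exact Ext.zero_comp T (p + 1) (Ext.mk₀ (π n)) (p + 1) (add_zero (p + 1))
      map_add' := by
        intro x y
        apply Subtype.ext
        funext n
        exact Ext.add_comp x y (Ext.mk₀ (π n)) (add_zero (p + 1)) }
  have hβ : ∀ (x : Ext.{w} T L (p + 1)) (n : ℕ),
      (β x : ∀ n, Ext.{w} T (tobj F n) (p + 1)) n =
        x.comp (Ext.mk₀ (π n)) (add_zero (p + 1)) := fun _ _ => rfl
  have hle : (Formal2.towerDiff _ (extT F T p)).range ≤ (ψi.comp Φ).ker := by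
    intro y hy
    rw [← hker] at hy
    rw [AddMonoidHom.mem_ker, AddMonoidHom.comp_apply, (AddMonoidHom.mem_ker).1 hy, map_zero]
  let α : Formal2.limOne (fun n => Ext.{w} T (tobj F n) p) (extT F T p) →+ Ext.{w} T L (p + 1) :=
    QuotientAddGroup.lift _ (ψi.comp Φ) hle
  have hα : ∀ y, α (QuotientAddGroup.mk y) = ψi (Φ y) := fun _ => rfl
  refine ⟨α, β, ?_, ?_, ?_, hβ⟩
  · rw [injective_iff_map_eq_zero]
    intro z hz
    obtain ⟨y, rfl⟩ := QuotientAddGroup.mk_surjective z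
    rw [hα] at hz
    have h3 : Φ y = 0 := by
      have := congrArg ψ hz
      rw [h2, map_zero] at this
      exact this
    have h4 : y ∈ Φ.ker := h3
    rw [hker] at h4
    exact (QuotientAddGroup.eq_zero_iff y).2 h4
  · rintro ⟨ξ, hξ⟩
    have hξ' : ∀ n, (ξ (n + 1)).comp (Ext.mk₀ (tmap F n)) (add_zero (p + 1)) = ξ n := by
      intro n
      have h3 := congrFun ((AddMonoidHom.mem_ker).1 hξ) n
      have h4 : ξ n - extT F T (p + 1) n (ξ (n + 1)) = 0 := h3
      rw [extT_apply, sub_eq_zero] at h4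
      exact h4.symm
    obtain ⟨η, hη⟩ := exists_lift_of_compatible F T hSE hc (p + 1) ξ hξ'
    refine ⟨ψi η, ?_⟩
    apply Subtype.ext
    funext n
    rw [hβ, ← hπ, h2]
    exact hη n
  · ext x
    rw [AddMonoidHom.mem_range, AddMonoidHom.mem_ker]
    constructor
    · rintro ⟨z, rfl⟩
      obtain ⟨y, rfl⟩ := QuotientAddGroup.mk_surjective z
      rw [hα]
      apply Subtype.ext
      funext n
      rw [hβ, ← hπ, h2]
      exact ((hrange (Φ y)).1 ⟨y, rfl⟩) n
    · intro hx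
      have h3 : ψ x ∈ Φ.range := by
        rw [hrange]
        intro n
        rw [hπ, ← hβ, hx]
        rfl
      obtain ⟨y, hy⟩ := h3
      refine ⟨QuotientAddGroup.mk y, ?_⟩
      rw [hα, hy, h1]

end Groth.Agent.Lib.Helper53.ProdExt
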