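import Groth.Agent.Lib.Helper53.ModTot
import Mathlib

/-!
# Free sheaves of modules preserve monos; sections of injective modules restrict surjectively along monos (helper53)
-/

set_option autoImplicit false
universe u
open CategoryTheory Limits Opposite
open Groth.Agent.Lib.Helper53

namespace Groth.Agent.Lib.Helper53.ModFree

variable {C : Type u} [SmallCategory C] (J : GrothendieckTopology C) (R : Sheaf J RingCat.{u})

lemma mono_free_map {F G : Cᵒᵖ ⥤ Type u} (φ : F ⟶ G) [Mono φ] :
    Mono ((PresheafOfModules.free R.obj).map φ) := by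
  apply PresheafOfModules.mono_of_injective
  intro X
  have h1 : Function.Injective (φ.app X) := by
    have : Mono (φ.app X) := inferInstance
    exact (mono_iff_injective (φ.app X)).1 this
  exact Finsupp.mapDomain_injective h1

instance mono_freeP_map {F G : Cᵒᵖ ⥤ Type u} (φ : F ⟶ G) [Mono φ] :
    Mono ((ModTot.freeP J R).map φ) := by
  have := mono_free_map J R φ
  exact inferInstanceAs (Mono ((PresheafOfModules.sheafification (𝟙 R.obj)).map
    ((PresheafOfModules.free R.obj).map φ)))

end Groth.Agent.Lib.Helper53.ModFree

namespace Groth.Agent.Lib.Helper53.ModFree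
open Groth.Agent.Lib.Helper53.ModTot

theorem surjective_map_of_mono {C : Type u} [SmallCategory C]
    {J : GrothendieckTopology C} (O : Sheaf J RingCat.{u}) (I : SheafOfModules.{u} O) [Injective I]
    {U U' : C} (a : U' ⟶ U) [Mono a] : Function.Surjective (I.val.map a.op) := by
  intro s
  let e := adjP J O
  let y' : yoneda.obj U' ⟶ (undP J O).obj I := yonedaEquiv.symm s
  let x' := (e.homEquiv _ _).symm y'
  have : Mono (yoneda.map a) := inferInstance
  let x := Injective.factorThru x' ((freeP J O).map (yoneda.map a))
  have hx : (freeP J O).map (yoneda.map a) ≫ x = x' := Injective.comp_factorThru _ _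
  refine ⟨yonedaEquiv (e.homEquiv _ _ x), ?_⟩
  have h1 : yoneda.map a ≫ e.homEquiv _ _ x = y' := by
    rw [← e.homEquiv_naturality_left, hx]
    exact Equiv.apply_symm_apply _ _
  have h2 : yonedaEquiv (yoneda.map a ≫ e.homEquiv _ _ x) = s := by
    rw [h1]; exact Equiv.apply_symm_apply _ _
  rw [← h2]
  exact yonedaEquiv_naturality (F := (undP J O).obj I) (e.homEquiv _ _ x) a

end Groth.Agent.Lib.Helper53.ModFree
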