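import Mathlib

/-!
# Functors preserving pullbacks preserve finite wide pullbacks (helper53)
-/

set_option autoImplicit false
universe w v₁ v₂ u₁ u₂
open CategoryTheory Limits Opposite

namespace Groth.Agent.Lib.Helper53.WidePres

variable {𝒞 : Type u₁} [Category.{v₁} 𝒞] {𝒟 : Type u₂} [Category.{v₂} 𝒟] (F : 𝒞 ⥤ 𝒟)

/-- `Over.post F` preserves finite products when `F` preserves pullbacks. -/
lemma preservesFiniteProducts_post [HasFiniteWidePullbacks 𝒞]
    [PreservesLimitsOfShape WalkingCospan F] (B : 𝒞) :
    PreservesFiniteProducts (Over.post F (X := B)) := by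
  have : PreservesLimitsOfShape (WidePullbackShape WalkingPair) F :=
    inferInstanceAs (PreservesLimitsOfShape WalkingCospan F)
  have : PreservesLimitsOfShape (Discrete WalkingPair) (Over.post F (X := B)) := inferInstance
  have : PreservesLimit (Functor.empty.{0} (Over B)) (Over.post F (X := B)) := by
    apply preservesLimit_of_preserves_limit_cone (Over.mkIdTerminal (X := B))
    apply (isLimitMapConeEmptyConeEquiv _ _).symm _
    exact IsTerminal.ofIso Over.mkIdTerminal (Over.isoMk (Iso.refl _)
      (by simp [Over.post]))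
  have := preservesLimitsOfShape_pempty_of_preservesTerminal (Over.post F (X := B))
  exact PreservesFiniteProducts.of_preserves_binary_and_terminal _

end Groth.Agent.Lib.Helper53.WidePres

namespace Groth.Agent.Lib.Helper53.WidePres
open CategoryTheory.Over.ConstructProducts

variable {𝒞 : Type u₁} [Category.{v₁} 𝒞] {𝒟 : Type u₂} [Category.{v₂} 𝒟] (F : 𝒞 ⥤ 𝒟)

set_option backward.isDefEq.respectTransparency.types false in
/-- a functor preserves a wide pullback if the induced functor on over categories preserves the
corresponding product -/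
lemma preservesLimit_wideCospan {J : Type w} (B : 𝒞) (objs : J → 𝒞) (arrows : ∀ j, objs j ⟶ B)
    [PreservesLimit (Discrete.functor (fun j => Over.mk (arrows j))) (Over.post F (X := B))] :
    PreservesLimit (WidePullbackShape.wideCospan B objs arrows) F := by
  constructor
  intro c hc
  let Y : Discrete J ⥤ Over B := Discrete.functor (fun j => Over.mk (arrows j))
  let c' : Cone (widePullbackDiagramOfDiagramOver B Y) := c
  have hc' : IsLimit c' := hc
  have hc1 : IsLimit ((conesEquivFunctor B Y).obj c') :=
    (IsLimit.ofConeEquiv (conesEquiv B Y)).symm hc'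
  have hc2 : IsLimit ((Over.post F (X := B)).mapCone ((conesEquivFunctor B Y).obj c')) :=
    isLimitOfPreserves _ hc1
  have hc3 : IsLimit ((conesEquivInverse (F.obj B) (Y ⋙ Over.post F)).obj
      ((Over.post F (X := B)).mapCone ((conesEquivFunctor B Y).obj c'))) :=
    (IsLimit.ofConeEquiv (conesEquiv (F.obj B) (Y ⋙ Over.post F)).symm).symm hc2
  let e : WidePullbackShape.wideCospan B objs arrows ⋙ F ≅
      widePullbackDiagramOfDiagramOver (F.obj B) (Y ⋙ Over.post F) :=
    NatIso.ofComponents (fun j => match j with
      | none => Iso.refl _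
      | some j => Iso.refl _) (by
      intro j j' g
      obtain - | j₀ := g
      · change (WidePullbackShape.wideCospan B objs arrows ⋙ F).map (𝟙 _) ≫ _ =
          _ ≫ (widePullbackDiagramOfDiagramOver (F.obj B) (Y ⋙ Over.post F)).map (𝟙 _)
        rw [CategoryTheory.Functor.map_id, CategoryTheory.Functor.map_id, Category.id_comp,
          Category.comp_id]
      · change F.map (arrows j₀) ≫ 𝟙 _ = 𝟙 _ ≫ F.map (arrows j₀)
        rw [Category.id_comp, Category.comp_id])
  refine ⟨(IsLimit.postcomposeHomEquiv e (F.mapCone c)) ?_⟩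
  refine IsLimit.ofIsoLimit hc3 (Cone.ext (Iso.refl _) ?_)
  intro j
  rcases j with _ | j
  · simp only [e, Functor.mapCone_pt, Cone.postcompose_obj_pt, Iso.refl_hom,
      Cone.postcompose_obj_π, NatTrans.comp_app, Functor.mapCone_π_app, NatIso.ofComponents_hom_app]
    refine Eq.trans ?_ (Category.id_comp _).symm
    refine Eq.trans ?_ (Category.comp_id _).symm
    rfl
  · simp only [e, Functor.mapCone_pt, Cone.postcompose_obj_pt, Iso.refl_hom,
      Cone.postcompose_obj_π, NatTrans.comp_app, Functor.mapCone_π_app, NatIso.ofComponents_hom_app]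
    refine Eq.trans ?_ (Category.id_comp _).symm
    refine Eq.trans ?_ (Category.comp_id _).symm
    rfl

end Groth.Agent.Lib.Helper53.WidePres

namespace Groth.Agent.Lib.Helper53.WidePres

variable {𝒞 : Type u₁} [Category.{v₁} 𝒞] {𝒟 : Type u₂} [Category.{v₂} 𝒟] (F : 𝒞 ⥤ 𝒟)

/-- a functor preserving pullbacks preserves finite wide pullbacks -/
lemma preservesLimit_wideCospan_fin [HasFiniteWidePullbacks 𝒞]
    [PreservesLimitsOfShape WalkingCospan F] (n : ℕ) (B : 𝒞) (objs : Fin n → 𝒞)
    (arrows : ∀ j, objs j ⟶ B) :
    PreservesLimit (WidePullbackShape.wideCospan B objs arrows) F := by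
  have := preservesFiniteProducts_post F B
  have : PreservesLimitsOfShape (Discrete (Fin n)) (Over.post F (X := B)) :=
    PreservesFiniteProducts.preserves n
  exact preservesLimit_wideCospan F B objs arrows

end Groth.Agent.Lib.Helper53.WidePres
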