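import Groth.Agent.Lib.Helper53.ModTot
import Groth.Agent.Lib.Helper53.WidePres
import Mathlib

/-!
# `g⁻¹` of an injective sheaf of modules is totally acyclic (helper53)

For `u : C ⥤ D` continuous such that `g_!` on sheaves of sets preserves pullbacks.
-/

set_option autoImplicit false
universe u
open CategoryTheory Limits Opposite Abelian Simplicial AlgebraicTopology
open Groth.Agent.Lib.Helper28
open Groth.Agent.Lib.Helper53

namespace Groth.Agent.Lib.Helper53.ModPull

section Exact

variable {D : Type u} [SmallCategory D] (R₀ : Dᵒᵖ ⥤ RingCat.{u})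

/-- free presheaves of modules on a sectionwise Čech-like augmented simplicial presheaf form an
exact complex in positive degrees -/
lemma exactAt_free_of_sectionwiseCechLike (A : SimplicialObject.Augmented (Dᵒᵖ ⥤ Type u))
    (hA : CechQ.SectionwiseCechLike A) (n : ℕ) :
    ((alternatingFaceMapComplex (PresheafOfModules.{u} R₀)).obj
      (A.left ⋙ PresheafOfModules.free R₀)).ExactAt (n + 1) := by
  apply ModTot.exactAt_of_evaluation
  intro V
  let Xv : SimplicialObject.Augmented (ModuleCat.{u} (R₀.obj V)) :=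
    ((SimplicialObject.Augmented.whiskering _ _).obj (ModuleCat.free (R₀.obj V))).obj
      (CechQ.evalAug (CechQ.rangeAug A) V)
  have ed : Xv.ExtraDegeneracy :=
    (CechQ.extraDegeneracy hA V).map (ModuleCat.free (R₀.obj V))
  have : QuasiIso (AlternatingFaceMapComplex.ε.app Xv) := ed.homotopyEquiv.quasiIso_hom
  have h1 := CechH.exactAt_succ_of_quasiIso Xv n
  have e := CechH.afmcMapIso (PresheafOfModules.evaluation R₀ V)
    (A.left ⋙ PresheafOfModules.free R₀)
  exact HomologicalComplex.ExactAt.of_iso h1 e.symm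

end Exact

section Main

variable {C D : Type u} [SmallCategory C] [SmallCategory D]
  (J : GrothendieckTopology C) (K : GrothendieckTopology D) (u : C ⥤ D) [u.IsContinuous J K]
  (R : Sheaf K RingCat.{u})

/-- `g_!` on sheaves of sets -/
noncomputable abbrev gs : Sheaf J (Type u) ⥤ Sheaf K (Type u) := TotPush.pullSet K J u

lemma theta₀_naturality_left {L L' : Sheaf J (Type u)} (a : L' ⟶ L) (G : Sheaf K AddCommGrpCat.{u})
    (x : (TotAcyc.G K).obj ((gs J K u).obj L) ⟶ G) :
    TotPush.theta₀ K J u L' G ((TotAcyc.G K).map ((gs J K u).map a) ≫ x) =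
      (TotAcyc.G J).map a ≫ TotPush.theta₀ K J u L G x := by
  have h1 := (TotAcyc.adjG K).homEquiv_naturality_left ((gs J K u).map a) x
  have h2 := (u.sheafAdjunctionContinuous (Type u) J K).homEquiv_naturality_left a
    ((TotAcyc.adjG K).homEquiv _ G x)
  have h3 := (TotAcyc.adjG J).homEquiv_naturality_left_symm a
    (Y := (CohSite.push K J u).obj G)
    ((u.sheafAdjunctionContinuous (Type u) J K).homEquiv _ _ ((TotAcyc.adjG K).homEquiv _ G x))
  refine Eq.trans ?_ h3
  unfold TotPush.theta₀
  simp only [Equiv.trans_apply]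
  refine congrArg ((TotAcyc.adjG J).homEquiv L' ((CohSite.push K J u).obj G)).symm ?_
  exact (congrArg ((u.sheafAdjunctionContinuous (Type u) J K).homEquiv L' _) h1).trans h2

variable {K' K₀ : Sheaf J (Type u)} (f : K' ⟶ K₀)

/-- the augmented simplicial presheaf `g_!` of the Čech nerve -/
noncomputable abbrev Ag : SimplicialObject.Augmented (Dᵒᵖ ⥤ Type u) :=
  ((SimplicialObject.Augmented.whiskering _ _).obj (gs J K u ⋙ sheafToPresheaf K (Type u))).obj
    (Arrow.mk f).augmentedCechNerve

variable (hfib : PreservesLimitsOfShape WalkingCospan (u.sheafPullback (Type u) J K))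

include hfib in
lemma sectionwiseCechLike_Ag : CechQ.SectionwiseCechLike (Ag J K u f) := by
  intro V
  have : PreservesLimitsOfShape WalkingCospan (gs J K u) := hfib
  have h1 : ∀ n : ℕ, PreservesLimit (WidePullbackShape.wideCospan (Arrow.mk f).right
      (fun _ : Fin (n + 1) => (Arrow.mk f).left) fun _ => (Arrow.mk f).hom) (gs J K u) :=
    fun n => WidePres.preservesLimit_wideCospan_fin (gs J K u) (n + 1) _ _ _
  have h2 : ∀ n : ℕ, PreservesLimit (WidePullbackShape.wideCospan (Arrow.mk f).right
      (fun _ : Fin (n + 1) => (Arrow.mk f).left) fun _ => (Arrow.mk f).hom)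
      ((gs J K u ⋙ sheafToPresheaf K (Type u)) ⋙ (evaluation Dᵒᵖ (Type u)).obj V) :=
    fun n => inferInstance
  exact CechN.isCechLike_whisker_augmentedCechNerve (Arrow.mk f)
    ((gs J K u ⋙ sheafToPresheaf K (Type u)) ⋙ (evaluation Dᵒᵖ (Type u)).obj V)

/-- the simplicial sheaf of free modules on `g_!` of the Čech nerve of `f` -/
noncomputable abbrev Mm : SimplicialObject (SheafOfModules.{u} R) :=
  (Arrow.mk f).cechNerve ⋙ ((gs J K u ⋙ sheafToPresheaf K (Type u)) ⋙ ModTot.freeP K R)

/-- the chain complex of free sheaves of modules on `g_!` of the Čech nerve of `f` -/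
noncomputable abbrev Mc : ChainComplex (SheafOfModules.{u} R) ℕ :=
  (alternatingFaceMapComplex _).obj (Mm J K u R f)

include hfib in
lemma exactAt_Mc (n : ℕ) : (Mc J K u R f).ExactAt (n + 1) := by
  have h := exactAt_free_of_sectionwiseCechLike R.obj (Ag J K u f)
    (sectionwiseCechLike_Ag J K u f hfib) n
  have e := CechH.afmcMapIso (PresheafOfModules.sheafification.{u} (𝟙 R.obj))
    ((Ag J K u f).left ⋙ PresheafOfModules.free R.obj)
  refine HomologicalComplex.ExactAt.of_iso ?_ e
  rw [HomologicalComplex.exactAt_iff_isZero_homology] at h ⊢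
  exact IsZero.of_iso (Functor.map_isZero _ h)
    (SiteCoh.mapHomologyIsoOfExact (PresheafOfModules.sheafification.{u} (𝟙 R.obj)) _ (n + 1))

variable (I : SheafOfModules.{u} R)

/-- `Hom_O(O[g_! L], I) ≃+ Hom(ℤ[L], g⁻¹ I)` -/
noncomputable def Th (L : Sheaf J (Type u)) :
    ((ModTot.freeP K R).obj ((gs J K u).obj L).obj ⟶ I) ≃+
      ((TotAcyc.G J).obj L ⟶ (CohSite.push K J u).obj ((SheafOfModules.toSheaf R).obj I)) :=
  (ModTot.Theta K R ((gs J K u).obj L) I).trans
    (TotPush.theta K J u L ((SheafOfModules.toSheaf R).obj I))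

lemma Th_naturality_left {L L' : Sheaf J (Type u)} (a : L' ⟶ L)
    (x : (ModTot.freeP K R).obj ((gs J K u).obj L).obj ⟶ I) :
    Th J K u R I L' ((ModTot.freeP K R).map ((gs J K u).map a).hom ≫ x) =
      (TotAcyc.G J).map a ≫ Th J K u R I L x := by
  change TotPush.theta₀ K J u L' _ (ModTot.Theta₀ K R _ I _) = _ ≫ TotPush.theta₀ K J u L _ _
  rw [ModTot.Theta₀_naturality_left, theta₀_naturality_left]
  rfl

lemma Th_d (n : ℕ) (y : (Mc J K u R f).X n ⟶ I) :
    Th J K u R I ((Arrow.mk f).cechNerve.obj (op ⦋n + 1⦌)) ((Mc J K u R f).d (n + 1) n ≫ y) =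
      (TotAcyc.L f).d (n + 1) n ≫ Th J K u R I ((Arrow.mk f).cechNerve.obj (op ⦋n⦌)) y := by
  have h1 : (Mc J K u R f).d (n + 1) n =
      ∑ i : Fin (n + 2), (-1 : ℤ) ^ (i : ℕ) • (Mm J K u R f).δ i :=
    alternatingFaceMapComplex_obj_d _ n
  have h2 : (TotAcyc.L f).d (n + 1) n = ∑ i : Fin (n + 2), (-1 : ℤ) ^ (i : ℕ) •
      SimplicialObject.δ ((Arrow.mk f).cechNerve ⋙ TotAcyc.G J) i :=
    alternatingFaceMapComplex_obj_d _ n
  rw [h1, h2, Preadditive.sum_comp, Preadditive.sum_comp, map_sum]
  refine Finset.sum_congr rfl fun i _ => ?_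
  rw [Preadditive.zsmul_comp, Preadditive.zsmul_comp, map_zsmul]
  congr 1
  exact Th_naturality_left J K u R I ((Arrow.mk f).cechNerve.δ i) y

end Main

section Final

variable {C D : Type u} [SmallCategory C] [SmallCategory D]
  (J : GrothendieckTopology C) (K : GrothendieckTopology D) (u : C ⥤ D) [u.IsContinuous J K]
  (R : Sheaf K RingCat.{u})
  (hfib : PreservesLimitsOfShape WalkingCospan (u.sheafPullback (Type u) J K))
  (I : SheafOfModules.{u} R)

include hfib in
/-- `g⁻¹` of the underlying abelian sheaf of an injective sheaf of modules is Čech-acyclic -/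
theorem cechAcyclic_push_of_injective [Injective I] :
    TotAcyc.CechAcyclic ((CohSite.push K J u).obj ((SheafOfModules.toSheaf R).obj I)) := by
  intro K' K₀ f hf q x hx
  let xt : (Mc J K u R f).X (q + 1) ⟶ I :=
    (Th J K u R I ((Arrow.mk f).cechNerve.obj (op ⦋q + 1⦌))).symm x
  have hxt : (Mc J K u R f).d (q + 2) (q + 1) ≫ xt = 0 := by
    apply (Th J K u R I ((Arrow.mk f).cechNerve.obj (op ⦋q + 1 + 1⦌))).injective
    rw [Th_d, map_zero, AddEquiv.apply_symm_apply]
    exact hx
  have hE : ((Mc J K u R f).sc' (q + 2) (q + 1) q).Exact := by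
    have h := exactAt_Mc J K u R f hfib q
    rw [HomologicalComplex.exactAt_iff' _ (q + 2) (q + 1) q (by simp) (by simp)] at h
    exact h
  refine ⟨Th J K u R I ((Arrow.mk f).cechNerve.obj (op ⦋q⦌)) (hE.descToInjective xt hxt), ?_⟩
  have h3 : (Mc J K u R f).d (q + 1) q ≫ hE.descToInjective xt hxt = xt :=
    hE.comp_descToInjective xt hxt
  exact (Th_d J K u R f I q (hE.descToInjective xt hxt)).symm.trans
    ((congrArg (Th J K u R I ((Arrow.mk f).cechNerve.obj (op ⦋q + 1⦌))) h3).trans
      (AddEquiv.apply_symm_apply _ x))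

include hfib in
/-- `g⁻¹ I` is totally acyclic for an injective sheaf of modules `I` -/
theorem isTotallyAcyclic_push_of_injective [Injective I] :
    CohCx.IsTotallyAcyclic ((CohSite.push K J u).obj ((SheafOfModules.toSheaf R).obj I)) := by
  intro L p
  exact subsingleton_of_forall_eq 0 fun x =>
    TotAcyc.ext_eq_zero_of_cechAcyclic p _ (cechAcyclic_push_of_injective J K u R hfib I) L x

end Final

end Groth.Agent.Lib.Helper53.ModPull
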