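import Mathlib

set_option autoImplicit false

namespace Groth.Agent.Lib.Helper53.OpenShriek

universe u
open CategoryTheory Limits Opposite TopologicalSpace

variable {X : TopCat.{u}} (U : Opens X)

/-- the inclusion of the open subspace -/
abbrev j : TopCat.of U ⟶ X := TopCat.ofHom ⟨_, continuous_subtype_val⟩

lemma hj : Topology.IsOpenEmbedding (j U) := U.isOpenEmbedding

noncomputable abbrev R : X.Sheaf (Type u) ⥤ (TopCat.of U).Sheaf (Type u) :=
  U.sheafRestrict (C := Type u)

noncomputable abbrev P : (TopCat.of U).Sheaf (Type u) ⥤ X.Sheaf (Type u) :=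
  TopCat.Sheaf.pushforward (Type u) (j U)

noncomputable def adjRP : R U ⊣ P U :=
  (TopCat.Sheaf.pullbackPushforwardAdjunction (Type u) (j U)).ofNatIsoLeft
    ((hj U).sheafPullbackIso (Type u))

lemma map_functor (W : Opens (TopCat.of U)) :
    (Opens.map (j U)).obj ((hj U).isOpenMap.functor.obj W) = W :=
  Opens.map_functor_eq' _ (hj U) W

noncomputable def prIso : P U ⋙ R U ≅ 𝟭 _ :=
  NatIso.ofComponents (fun H => (fullyFaithfulSheafToPresheaf _ _).preimageIso
    (NatIso.ofComponents (fun W => H.obj.mapIso (eqToIso (map_functor U W.unop).symm).op)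
      (by
        intro W W' f
        dsimp
        change H.obj.map _ ≫ H.obj.map _ = H.obj.map _ ≫ H.obj.map _
        rw [← H.obj.map_comp, ← H.obj.map_comp]
        congr 1)))
    (by
      intro H H' f
      apply (fullyFaithfulSheafToPresheaf _ _).map_injective
      ext W : 2
      change f.hom.app _ ≫ H'.obj.map _ = H.obj.map _ ≫ f.hom.app _
      exact (f.hom.naturality _).symm)

instance : IsIso (adjRP U).counit := (adjRP U).isIso_counit_of_iso (prIso U)

noncomputable def pFF : (P U).FullyFaithful := (adjRP U).fullyFaithfulROfIsIsoCounit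

variable {U} in
noncomputable def lFF {L : (TopCat.of U).Sheaf (Type u) ⥤ X.Sheaf (Type u)} (adj : L ⊣ R U) :
    L.FullyFaithful :=
  (Adjunction.Triple.mk adj (adjRP U)).fullyFaithfulEquiv.symm (pFF U)

/-- the sheaf represented by `U` -/
noncomputable def hU : X.Sheaf (Type u) where
  obj := yoneda.obj U
  property := by
    rw [isSheaf_iff_isSheaf_of_type]
    intro V S hS x hx
    have hVU : V ≤ U := by
      intro p hp
      obtain ⟨W, f, hf, hpW⟩ := hS p hp
      exact (x f hf).le hpW
    refine ⟨homOfLE hVU, ?_, ?_⟩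
    · intro W f hf
      exact Subsingleton.elim (α := W ⟶ U) _ _
    · intro y _
      exact Subsingleton.elim (α := V ⟶ U) _ _

lemma le_of_hom_hU {G : X.Sheaf (Type u)} (φ : G ⟶ hU U) {V : Opens X} (s : G.obj.obj (op V)) :
    V ≤ U :=
  (φ.hom.app (op V) s : V ⟶ U).le

lemma isEmpty_stalk_of_hom_hU {G : X.Sheaf (Type u)} (φ : G ⟶ hU U) (x : X) (hx : x ∉ U) :
    IsEmpty (G.presheaf.stalk x) := by
  constructor
  intro t
  obtain ⟨V, hxV, s, -⟩ := TopCat.Presheaf.exists_germ_eq (C := Type u) G.presheaf t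
  exact hx (le_of_hom_hU U φ s hxV)

lemma functor_obj_le (W : Opens (TopCat.of U)) : (hj U).isOpenMap.functor.obj W ≤ U := by
  rintro _ ⟨y, -, rfl⟩
  exact y.2

noncomputable def toRhU (F : (TopCat.of U).Sheaf (Type u)) : F ⟶ (R U).obj (hU U) :=
  ObjectProperty.homMk
    { app := fun W => TypeCat.ofHom (fun _ => (homOfLE (functor_obj_le U W.unop) :
        (hj U).isOpenMap.functor.obj W.unop ⟶ U))
      naturality := by
        intro W W' f
        ext x
        exact Subsingleton.elim (α := ((hj U).isOpenMap.functor.obj W'.unop ⟶ U)) _ _ }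

variable {U} in
lemma isEmpty_stalk_L {L : (TopCat.of U).Sheaf (Type u) ⥤ X.Sheaf (Type u)} (adj : L ⊣ R U)
    (F : (TopCat.of U).Sheaf (Type u)) (x : X) (hx : x ∉ U) :
    IsEmpty ((L.obj F).presheaf.stalk x) :=
  isEmpty_stalk_of_hom_hU U ((adj.homEquiv _ _).symm (toRhU U F)) x hx

lemma isEmpty_sections {G : X.Sheaf (Type u)}
    (hG : ∀ x : X, x ∉ U → IsEmpty (G.presheaf.stalk x)) (V : Opens X) (hV : ¬ V ≤ U) :
    IsEmpty (G.obj.obj (op V)) := by
  obtain ⟨x, hxV, hxU⟩ := Set.not_subset.mp hV
  constructor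
  intro s
  exact (hG x hxU).false (G.presheaf.germ V x hxV s)

lemma functor_map_of_le (V : Opens X) (hV : V ≤ U) :
    (hj U).isOpenMap.functor.obj ((Opens.map (j U)).obj V) = V := by
  have := Opens.functor_map_eq_inf U V
  exact this.trans (inf_eq_left.mpr hV)

variable {U} in
theorem counit_isIso {L : (TopCat.of U).Sheaf (Type u) ⥤ X.Sheaf (Type u)} (adj : L ⊣ R U)
    (G : X.Sheaf (Type u)) (hG : ∀ x : X, x ∉ U → IsEmpty (G.presheaf.stalk x)) :
    IsIso (adj.counit.app G) := by
  have hFF := lFF adj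
  have := hFF.full
  have := hFF.faithful
  set ε := adj.counit.app G with hε
  have h1 : IsIso ((R U).map ε) := by
    have ht := adj.right_triangle_components G
    have : IsIso (adj.unit.app ((R U).obj G)) := inferInstance
    have h12 : IsIso (adj.unit.app ((R U).obj G) ≫ (R U).map ε) := by
      rw [ht]; exact IsIso.id _
    exact IsIso.of_isIso_comp_left (adj.unit.app ((R U).obj G)) _
  have hbij : ∀ V : Opens X, Function.Bijective (ε.hom.app (op V)) := by
    intro V
    by_cases hV : V ≤ U
    · have h20 : IsIso ((sheafToPresheaf _ _).map ((R U).map ε)) :=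
        @Functor.map_isIso _ _ _ _ _ _ (sheafToPresheaf _ _) _ h1
      have h2 : IsIso (((sheafToPresheaf _ _).map ((R U).map ε)).app
          (op ((Opens.map (j U)).obj V))) := inferInstance
      have h3 := (isIso_iff_bijective _).mp h2
      have h4 : Function.Bijective
          (ε.hom.app (op ((hj U).isOpenMap.functor.obj ((Opens.map (j U)).obj V)))) := h3
      rw [functor_map_of_le U V hV] at h4
      exact h4
    · have e1 := isEmpty_sections U (isEmpty_stalk_L adj ((R U).obj G)) V hV
      have e2 := isEmpty_sections U hG V hV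
      constructor
      · intro a
        exact (e1.false a).elim
      · intro b
        exact (e2.false b).elim
  have h5 : IsIso ε.hom := by
    have : ∀ W : (Opens X)ᵒᵖ, IsIso (ε.hom.app W) := fun W =>
      (isIso_iff_bijective _).mpr (hbij W.unop)
    exact NatIso.isIso_of_isIso_app _
  have h6 : IsIso ((sheafToPresheaf _ _).map ε) := h5
  exact (fullyFaithfulSheafToPresheaf _ _).isIso_of_isIso_map ε

variable {U} in
theorem main (L : (TopCat.of U).Sheaf (Type u) ⥤ X.Sheaf (Type u)) (adj : L ⊣ R U) :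
    L.Full ∧ L.Faithful ∧
    ∀ G : X.Sheaf (Type u), L.essImage G ↔ ∀ x : X, x ∉ U → IsEmpty (G.presheaf.stalk x) := by
  have hFF := lFF adj
  refine ⟨hFF.full, hFF.faithful, fun G => ⟨?_, ?_⟩⟩
  · rintro ⟨F, ⟨e⟩⟩ x hx
    exact isEmpty_stalk_of_hom_hU U (e.inv ≫ (adj.homEquiv _ _).symm (toRhU U F)) x hx
  · intro hG
    have := counit_isIso adj G hG
    exact ⟨(R U).obj G, ⟨asIso (adj.counit.app G)⟩⟩

end Groth.Agent.Lib.Helper53.OpenShriek
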