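import Groth.Agent.Lib.Helper53.OverSite
import Groth.Agent.Lib.Helper53.SiteSec
import Groth.Agent.Lib.Helper53.MapResExact

/-!
# Cohomology over an object of a site and cohomology of the localized site
-/

universe w v u v' u'

open CategoryTheory Opposite Limits Functor Abelian

namespace Groth.Agent.Lib.Helper53.ExtRes

/-- the higher right derived functors of an exact functor vanish -/
lemma isZero_rightDerived_succ_of_exact {C : Type u} [Category.{v} C] [Abelian C]
    [HasInjectiveResolutions C] {D : Type u'} [Category.{v'} D] [Abelian D]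
    (Φ : C ⥤ D) [Φ.Additive] [PreservesFiniteLimits Φ] [PreservesFiniteColimits Φ]
    (Y : C) (n : ℕ) : IsZero ((Φ.rightDerived (n + 1)).obj Y) := by
  let R := injectiveResolution Y
  have h1 : IsZero (R.cocomplex.homology (n + 1)) := by
    rw [← HomologicalComplex.exactAt_iff_isZero_homology]
    exact R.cocomplex_exactAt_succ n
  exact IsZero.of_iso (IsZero.of_iso (Φ.map_isZero h1) ((R.cocomplex.sc (n + 1)).mapHomologyIso Φ))
    (R.isoRightDerivedObj Φ (n + 1))

end Groth.Agent.Lib.Helper53.ExtRes

namespace Groth.Agent.Lib.Helper53.OverSite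

variable {C : Type u} [SmallCategory C] (U : C) (J : GrothendieckTopology C)

instance overRestr_preservesFiniteLimits : PreservesFiniteLimits (overRestr U J) :=
  have := (extZeroAdj U J).rightAdjoint_preservesLimits
  inferInstance

instance overRestr_preservesFiniteColimits : PreservesFiniteColimits (overRestr U J) :=
  have := ((Over.forget U).sheafAdjunctionCocontinuous AddCommGrpCat.{u}
    (J.over U) J).leftAdjoint_preservesColimits
  inferInstance

open SiteCoh

/-- sections over `U` as sections of the restriction over the terminal object of `C/U` -/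
noncomputable def secOver (G : Sheaf J AddCommGrpCat.{u}) :
    (freeSh J U ⟶ G) ≃+ ((overRestr U J).obj G).obj.obj (op (Over.mk (𝟙 U))) :=
  shSecEquiv J U G

lemma secOver_naturality {G G' : Sheaf J AddCommGrpCat.{u}} (φ : G ⟶ G')
    (g : freeSh J U ⟶ G) :
    secOver U J G' (g ≫ φ) =
      ((overRestr U J).map φ).hom.app (op (Over.mk (𝟙 U))) (secOver U J G g) :=
  shSecEquiv_naturality_right J U φ g

/-- `Hom(ℤ_U, G) ≃ Hom(ℤ, G|_{C/U})` -/
noncomputable def overTheta (G : Sheaf J AddCommGrpCat.{u}) :
    (freeSh J U ⟶ G) ≃+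
      ((constantSheaf (J.over U) AddCommGrpCat.{u}).obj (AddCommGrpCat.of (ULift.{u} ℤ)) ⟶
        (overRestr U J).obj G) :=
  (secOver U J G).trans
    ((Sheaf.H.equiv₀ ((overRestr U J).obj G) (Over.mkIdTerminal (X := U))).symm.trans
      Ext.addEquiv₀)

lemma overTheta_naturality {G G' : Sheaf J AddCommGrpCat.{u}} (φ : G ⟶ G')
    (g : freeSh J U ⟶ G) :
    overTheta U J G' (g ≫ φ) = overTheta U J G g ≫ (overRestr U J).map φ := by
  simp only [overTheta, AddEquiv.trans_apply]
  rw [secOver_naturality, ← Sheaf.H.equiv₀_symm_naturality, Sheaf.H.addEquiv₀_map]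

/-- `H^n(U, F) ≅ H^n(C/U, F|_{C/U})` -/
theorem nonempty_HU_equiv_H_over (F : Sheaf J AddCommGrpCat.{u}) (n : ℕ) :
    Nonempty (Sheaf.H' F n U ≃+ Sheaf.H.{u} ((overRestr U J).obj F) n) :=
  ExtRes.nonempty_ext_equiv_of_acyclic (overRestr U J)
    (fun I hI => by have := hI; exact injective_overRestr U J I) _ _
    (overTheta U J) (fun φ g => overTheta_naturality U J φ g) F
    (fun n => ExtRes.isZero_rightDerived_succ_of_exact (overRestr U J) F n) n

end Groth.Agent.Lib.Helper53.OverSite
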