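import Groth.Agent.Lib.Helper53.LanMono2

/-!
# Extension by zero from a localized site `C/U` is exact; restriction preserves injectives
-/

universe u

open CategoryTheory Opposite Limits Functor

namespace Groth.Agent.Lib.Helper53.OverSite

variable {C : Type u} [SmallCategory C] (U : C)

/-- the terminal objects of the components of the costructured arrows of `(Over.forget U).op` -/
def tObj (V : C) (φ : V ⟶ U) : CostructuredArrow (Over.forget U).op (op V) :=
  CostructuredArrow.mk (S := (Over.forget U).op) (Y := op (Over.mk φ)) (𝟙 (op V))

/-- the canonical arrow to the terminal object of the component -/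
def toT (V : C) (a : CostructuredArrow (Over.forget U).op (op V)) :
    a ⟶ tObj U V (a.hom.unop ≫ a.left.unop.hom) :=
  CostructuredArrow.homMk (Over.homMk (U := Over.mk (a.hom.unop ≫ a.left.unop.hom))
    (V := a.left.unop) a.hom.unop rfl).op (by
      simp [tObj])

lemma sigma_eq (V : C) (a : CostructuredArrow (Over.forget U).op (op V))
    (p : Σ φ : V ⟶ U, a ⟶ tObj U V φ) :
    p = ⟨a.hom.unop ≫ a.left.unop.hom, toT U V a⟩ := by
  rcases p with ⟨ψ, m⟩
  have h1 : m.left.unop.left = a.hom.unop := by
    have := CostructuredArrow.w m
    simp only [tObj, CostructuredArrow.mk_hom_eq_self] at this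
    have h2 := congrArg Quiver.Hom.unop this
    simp at h2
    exact h2
  have h3 : ψ = a.hom.unop ≫ a.left.unop.hom := by
    have := Over.w m.left.unop
    rw [h1] at this
    exact this.symm
  subst h3
  congr 1
  apply CostructuredArrow.hom_ext
  apply Quiver.Hom.unop_inj
  apply Over.OverMorphism.ext
  exact h1

/-- uniqueness of the arrow to the terminal objects -/
@[instance_reducible]
def uniqT (V : C) (a : CostructuredArrow (Over.forget U).op (op V)) :
    Unique (Σ φ : V ⟶ U, a ⟶ tObj U V φ) where
  default := ⟨_, toT U V a⟩
  uniq p := sigma_eq U V a p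

/-- extension by zero on presheaves (left Kan extension along `Over.forget U`) preserves
monomorphisms -/
instance lan_overForget_preservesMonomorphisms :
    ((Over.forget U).op.lan : ((Over U)ᵒᵖ ⥤ AddCommGrpCat.{u}) ⥤
      (Cᵒᵖ ⥤ AddCommGrpCat.{u})).PreservesMonomorphisms where
  preserves φ _ := LanMono.lan_map_mono_of_terminals.{u} (Over.forget U).op
    (fun Y => ⟨(Y.unop ⟶ U), tObj U Y.unop, ⟨fun a => uniqT U Y.unop a⟩⟩) φ

variable (J : GrothendieckTopology C)

/-- restriction to the localized site `C/U` -/
noncomputable abbrev overRestr : Sheaf J AddCommGrpCat.{u} ⥤ Sheaf (J.over U) AddCommGrpCat.{u} :=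
  (Over.forget U).sheafPushforwardContinuous AddCommGrpCat.{u} (J.over U) J

/-- extension by zero `j_!` of abelian sheaves from the localized site `C/U` -/
noncomputable abbrev extZero : Sheaf (J.over U) AddCommGrpCat.{u} ⥤ Sheaf J AddCommGrpCat.{u} :=
  Functor.sheafPullbackConstruction.sheafPullback (Over.forget U) AddCommGrpCat.{u} (J.over U) J

/-- `j_! ⊣ j^*` -/
noncomputable def extZeroAdj : extZero U J ⊣ overRestr U J :=
  Functor.sheafPullbackConstruction.sheafAdjunctionContinuous (Over.forget U) AddCommGrpCat.{u}
    (J.over U) J

instance extZero_preservesMonomorphisms : (extZero U J).PreservesMonomorphisms := by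
  unfold extZero Functor.sheafPullbackConstruction.sheafPullback
  have h1 : (sheafToPresheaf (J.over U) AddCommGrpCat.{u}).PreservesMonomorphisms :=
    preservesMonomorphisms_of_preservesLimitsOfShape _
  have h3 : (presheafToSheaf J AddCommGrpCat.{u}).PreservesMonomorphisms :=
    preservesMonomorphisms_of_preservesLimitsOfShape _
  infer_instance

/-- the restriction of an injective abelian sheaf to a localized site is injective -/
instance injective_overRestr (I : Sheaf J AddCommGrpCat.{u}) [Injective I] :
    Injective ((overRestr U J).obj I) :=
  Injective.injective_of_adjoint (extZeroAdj U J) I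

instance overRestr_additive : (overRestr U J).Additive where

instance extZero_additive : (extZero U J).Additive :=
  (extZeroAdj U J).left_adjoint_additive

instance extZero_preservesFiniteColimits : PreservesFiniteColimits (extZero U J) :=
  have := (extZeroAdj U J).leftAdjoint_preservesColimits
  inferInstance

/-- extension by zero is exact -/
instance extZero_preservesFiniteLimits : PreservesFiniteLimits (extZero U J) := by
  refine ((Functor.preservesFiniteLimits_tfae (extZero U J)).out 0 3 rfl rfl).1 (fun S hS => ?_)
  have h1 := ((Functor.preservesFiniteColimits_tfae (extZero U J)).out 3 0 rfl rfl).1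
    inferInstance S hS
  have : Mono S.f := hS.mono_f
  exact ⟨h1.1, inferInstance⟩

end Groth.Agent.Lib.Helper53.OverSite
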