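import Groth.Agent.S0861
import Groth.Agent.Lib.Helper53.CechOG
import Groth.Agent.Lib.Helper28.Cartan
import Mathlib.CategoryTheory.Limits.Preserves.Shapes.Over
import Groth.Agent.Lib.Helper53.SiteSec
import Groth.Agent.Lib.Helper53.ExtCompare

/-!
# Cohomology of `g⁻¹ F = F ∘ u` for a continuous and cocontinuous functor `u` (helper53)
-/

set_option autoImplicit false
universe u
open CategoryTheory Limits Opposite

namespace Groth.Agent.Lib.Helper53.PullCoh

/-- `Over.post u` preserves finite products when `u` preserves pullbacks. -/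
instance preservesFiniteProducts_post {C D : Type u} [SmallCategory C] [SmallCategory D]
    [HasPullbacks C] (u : C ⥤ D) [PreservesLimitsOfShape WalkingCospan u] (U : C) :
    PreservesFiniteProducts (Over.post u (X := U)) := by
  haveI : PreservesLimitsOfShape (WidePullbackShape WalkingPair) u :=
    inferInstanceAs (PreservesLimitsOfShape WalkingCospan u)
  haveI : PreservesLimitsOfShape (Discrete WalkingPair) (Over.post u (X := U)) := inferInstance
  haveI : PreservesLimit (Functor.empty.{0} (Over U)) (Over.post u (X := U)) := by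
    apply preservesLimit_of_preserves_limit_cone (Over.mkIdTerminal (X := U))
    apply (isLimitMapConeEmptyConeEquiv _ _).symm _
    exact IsTerminal.ofIso Over.mkIdTerminal (Over.isoMk (Iso.refl _)
      (by simp [Over.post]))
  haveI := preservesLimitsOfShape_pempty_of_preservesTerminal (Over.post u (X := U))
  exact PreservesFiniteProducts.of_preserves_binary_and_terminal _

variable {C D : Type u} [SmallCategory C] [SmallCategory D] [HasPullbacks C]
  (J : GrothendieckTopology C) (K : GrothendieckTopology D) (u : C ⥤ D)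
  [PreservesLimitsOfShape WalkingCospan u] [u.IsContinuous J K]

/-- Čech cohomology of `I ∘ u` vanishes for an injective abelian sheaf `I`. -/
theorem isZero_cechH_push_of_injective (I : Sheaf K AddCommGrpCat.{u}) [Injective I]
    {U : C} {ι : Type u} (Y : ι → Over U) (p : ℕ) :
    IsZero (CohCx.cechH ((CohSite.push K J u).obj I).obj Y (p + 1)) := by
  haveI : Injective I.obj := Groth.Agent.Lib.Helper28.Cartan.injective_obj K I
  exact CechOG.isZero_cech_homology_succ_of_injective (Over.post u (X := U)) Y I.obj p

/-- `I ∘ u` has vanishing higher cohomology on every object, for `I` injective. -/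
theorem subsingleton_HU_push_of_injective (hu : CoverPreserving J K u)
    (I : Sheaf K AddCommGrpCat.{u}) [Injective I] (U : C) (p : ℕ) :
    Subsingleton (CohSite.HU ((CohSite.push K J u).obj I) (p + 1) U) := by
  refine Groth.Agent.S0861.result J Set.univ
    (fun U ι Y => Sieve.ofArrows (fun i => (Y i).left) (fun i => (Y i).hom) ∈ J U)
    (fun U ι Y h => ⟨trivial, h, fun _ _ => trivial⟩) ?_ _
    (fun U ι Y _ p => isZero_cechH_push_of_injective J K u I Y p) U trivial p
  intro U _ T hT
  refine ⟨(Σ V : C, {f : V ⟶ U // T.arrows f}), fun i => Over.mk i.2.1, ?_, fun i => i.2.2⟩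
  refine J.superset_covering ?_ hT
  intro V f hf
  exact ⟨_, 𝟙 _, f, Presieve.ofArrows.mk (ι := Σ V : C, {f : V ⟶ U // T.arrows f}) ⟨V, f, hf⟩,
    Category.id_comp _⟩


section Compare

open Abelian SiteCoh

variable [u.IsCocontinuous J K]

instance push_preservesFiniteLimits : PreservesFiniteLimits (CohSite.push K J u) := by
  have : (CohSite.push K J u).IsRightAdjoint := inferInstance
  have := (Adjunction.ofIsRightAdjoint (CohSite.push K J u)).rightAdjoint_preservesLimits
  infer_instance

instance push_preservesFiniteColimits : PreservesFiniteColimits (CohSite.push K J u) :=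
  have := (u.sheafAdjunctionCocontinuous AddCommGrpCat.{u} J K).leftAdjoint_preservesColimits
  inferInstance

/-- `Hom(ℤ_{uU}, G) ≃ Hom(ℤ_U, G ∘ u)` -/
noncomputable def pullTheta (U : C) (G : Sheaf K AddCommGrpCat.{u}) :
    (freeSh K (u.obj U) ⟶ G) ≃+ (freeSh J U ⟶ (CohSite.push K J u).obj G) :=
  (shSecEquiv K (u.obj U) G).trans (shSecEquiv J U ((CohSite.push K J u).obj G)).symm

lemma pullTheta_naturality (U : C) {G G' : Sheaf K AddCommGrpCat.{u}} (φ : G ⟶ G')
    (g : freeSh K (u.obj U) ⟶ G) :
    pullTheta J K u U G' (g ≫ φ) = pullTheta J K u U G g ≫ (CohSite.push K J u).map φ := by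
  apply (shSecEquiv J U ((CohSite.push K J u).obj G')).injective
  rw [shSecEquiv_naturality_right]
  unfold pullTheta
  rw [AddEquiv.trans_apply, AddEquiv.trans_apply]
  refine (AddEquiv.apply_symm_apply (shSecEquiv J U ((CohSite.push K J u).obj G')) _).trans ?_
  refine (shSecEquiv_naturality_right K (u.obj U) φ g).trans ?_
  exact congrArg (fun t => (((CohSite.push K J u).map φ).hom.app (op U)) t)
    (AddEquiv.apply_symm_apply (shSecEquiv J U ((CohSite.push K J u).obj G)) _).symm

/-- `H^p(U, g⁻¹F) ≅ H^p(uU, F)` -/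
theorem nonempty_HU_push_equiv (hu : CoverPreserving J K u) (F : Sheaf K AddCommGrpCat.{u})
    (U : C) (p : ℕ) :
    Nonempty (CohSite.HU ((CohSite.push K J u).obj F) p U ≃+ CohSite.HU F p (u.obj U)) := by
  obtain ⟨e⟩ := ExtCompare.nonempty_ext_equiv (CohSite.push K J u) (freeSh K (u.obj U))
    (freeSh J U)
    (fun G => Ext.addEquiv₀.trans ((pullTheta J K u U G).trans Ext.addEquiv₀.symm))
    (fun {G G'} φ x => by
      obtain ⟨g, rfl⟩ := Ext.addEquiv₀.symm.surjective x
      have h1 : (Ext.addEquiv₀.symm g : Ext (freeSh K (u.obj U)) G 0) = Ext.mk₀ g := rfl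
      rw [h1, Ext.mk₀_comp_mk₀]
      simp only [AddEquiv.trans_apply]
      have h2 : ∀ (G₁ : Sheaf K AddCommGrpCat.{u}) (g₁ : freeSh K (u.obj U) ⟶ G₁),
          Ext.addEquiv₀ (Ext.mk₀ g₁) = g₁ := fun G₁ g₁ => Ext.addEquiv₀.apply_symm_apply g₁
      rw [h2, h2, pullTheta_naturality]
      exact (Ext.mk₀_comp_mk₀ _ _).symm)
    (fun I _ n x => by
      haveI := subsingleton_HU_push_of_injective J K u hu I U n
      exact Subsingleton.elim (α := CohSite.HU ((CohSite.push K J u).obj I) (n + 1) U) x 0)
    p F
  exact ⟨e.symm⟩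

end Compare

end Groth.Agent.Lib.Helper53.PullCoh
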