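import Groth.Agent.Lib.Helper53.ModLoc
import Groth.Agent.Lib.Helper53.TruncTower
import Groth.Agent.Lib.Helper62.WSerreEquiv
import Groth.Prelude.Def_SiteCmp

/-!
# Pullback of the free module on a representable along a morphism of ringed sites, and transfer of
cohomology vanishing through `F' ≅ Rf_* f^* F'` (helper53)
-/

set_option autoImplicit false
universe u
open CategoryTheory Limits Opposite Abelian

namespace Groth.Agent.Lib.Helper53.PullFree

open Groth.Agent.Lib.Helper53.ModLoc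

variable {C : Type u} [SmallCategory C] {J : GrothendieckTopology C} {O_C : Sheaf J CommRingCat.{u}}
  {D : Type u} [SmallCategory D] {K : GrothendieckTopology D} {O_D : Sheaf K CommRingCat.{u}}
  (f : ModSite.RMor O_C O_D)

/-- the natural bijection `Hom(f^* T_{V'}, G) ≃ Hom(T_{u V'}, G)` -/
noncomputable def pullTmEquiv (V' : D) (G : ModSite.Mod O_C) :
    (f.pull.obj (Tm K (ModSite.ringSh O_D) V') ⟶ G) ≃
      (Tm J (ModSite.ringSh O_C) (f.fn.obj V') ⟶ G) :=
  ((f.adj.homEquiv _ G).trans (sec₀ K (ModSite.ringSh O_D) V' (f.push.obj G))).trans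
    (sec₀ J (ModSite.ringSh O_C) (f.fn.obj V') G).symm

lemma sec₀_pullTmEquiv (V' : D) (G : ModSite.Mod O_C)
    (x : f.pull.obj (Tm K (ModSite.ringSh O_D) V') ⟶ G) :
    sec₀ J (ModSite.ringSh O_C) (f.fn.obj V') G (pullTmEquiv f V' G x) =
      (sec₀ K (ModSite.ringSh O_D) V' (f.push.obj G) (f.adj.homEquiv _ G x) :
        ((SheafOfModules.toSheaf (ModSite.ringSh O_C)).obj G).obj.obj (op (f.fn.obj V'))) :=
  Equiv.apply_symm_apply (sec₀ J (ModSite.ringSh O_C) (f.fn.obj V') G) _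

lemma pullTmEquiv_naturality (V' : D) {G G' : ModSite.Mod O_C} (φ : G ⟶ G')
    (x : f.pull.obj (Tm K (ModSite.ringSh O_D) V') ⟶ G) :
    pullTmEquiv f V' G' (x ≫ φ) = pullTmEquiv f V' G x ≫ φ := by
  apply (sec₀ J (ModSite.ringSh O_C) (f.fn.obj V') G').injective
  refine (sec₀_pullTmEquiv f V' G' (x ≫ φ)).trans ?_
  refine Eq.trans ?_ (sec₀_right J (ModSite.ringSh O_C) (f.fn.obj V') φ (pullTmEquiv f V' G x)).symm
  rw [sec₀_pullTmEquiv f V' G x, Adjunction.homEquiv_naturality_right]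
  exact sec₀_right K (ModSite.ringSh O_D) V' (f.push.map φ) (f.adj.homEquiv _ G x)

lemma nonempty_pull_Tm_iso (V' : D) :
    Nonempty (f.pull.obj (Tm K (ModSite.ringSh O_D) V') ≅
      Tm J (ModSite.ringSh O_C) (f.fn.obj V')) :=
  nonempty_iso_of_natural_equiv _ _ (pullTmEquiv f V')
    (fun φ x => pullTmEquiv_naturality f V' φ x)

section Transfer

universe w w'

open DerivedCategory

variable [HasDerivedCategory.{w} (ModSite.Mod O_C)] [HasDerivedCategory.{w'} (ModSite.Mod O_D)]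
  [HasExt.{u} (ModSite.Mod O_C)] [HasExt.{u} (ModSite.Mod O_D)]
  [PreservesFiniteLimits f.pull]
  {R : DerivedCategory (ModSite.Mod O_C) ⥤ DerivedCategory (ModSite.Mod O_D)}
  (adj : f.pull.mapDerivedCategory ⊣ R)

include adj in
/-- if `F' ≅ Rf_* f^* F'`, then `Ext^k(T_{V'}, F')` vanishes as soon as `Ext^k(T_{u V'}, f^*F')`
does -/
lemma subsingleton_ext_of_pull (V' : D) (F' : ModSite.Mod O_D)
    (h3 : IsIso (adj.unit.app ((DerivedCategory.singleFunctor (ModSite.Mod O_D) 0).obj F')))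
    (k : ℕ)
    (hC : Subsingleton (Ext.{u} (Tm J (ModSite.ringSh O_C) (f.fn.obj V')) (f.pull.obj F') k)) :
    Subsingleton (Ext.{u} (Tm K (ModSite.ringSh O_D) V') F' k) := by
  let _ : R.CommShift ℤ := adj.rightAdjointCommShift ℤ
  obtain ⟨e⟩ := nonempty_pull_Tm_iso f V'
  have h2 : Subsingleton (Ext.{u} (f.pull.obj (Tm K (ModSite.ringSh O_D) V')) (f.pull.obj F') k) := by
    have key : ∀ z : Ext.{u} (f.pull.obj (Tm K (ModSite.ringSh O_D) V')) (f.pull.obj F') k,
        z = 0 := by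
      intro z
      have h1 : z = (Ext.mk₀ e.hom).comp ((Ext.mk₀ e.inv).comp z (zero_add _)) (zero_add _) := by
        rw [← Ext.comp_assoc_of_second_deg_zero, Ext.mk₀_comp_mk₀, e.hom_inv_id, Ext.mk₀_id_comp]
      have h2 : (Ext.mk₀ e.inv).comp z (zero_add _) = 0 := Subsingleton.elim _ _
      rw [h1, h2, Ext.comp_zero]
    exact ⟨fun x y => by rw [key x, key y]⟩
  have h3' : Subsingleton
      ((singleFunctor (ModSite.Mod O_C) 0).obj (f.pull.obj (Tm K (ModSite.ringSh O_D) V')) ⟶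
        ((singleFunctor (ModSite.Mod O_C) 0).obj (f.pull.obj F'))⟦(k : ℤ)⟧) :=
    (Ext.homEquiv (X := f.pull.obj (Tm K (ModSite.ringSh O_D) V')) (Y := f.pull.obj F')
      (n := k)).symm.subsingleton
  let eT : f.pull.mapDerivedCategory.obj
      ((singleFunctor (ModSite.Mod O_D) 0).obj (Tm K (ModSite.ringSh O_D) V')) ≅
      (singleFunctor (ModSite.Mod O_C) 0).obj (f.pull.obj (Tm K (ModSite.ringSh O_D) V')) :=
    (f.pull.mapDerivedCategorySingleFunctor 0).app _
  let eF : f.pull.mapDerivedCategory.obj ((singleFunctor (ModSite.Mod O_D) 0).obj F') ≅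
      (singleFunctor (ModSite.Mod O_C) 0).obj (f.pull.obj F') :=
    (f.pull.mapDerivedCategorySingleFunctor 0).app _
  have h4 : Subsingleton (f.pull.mapDerivedCategory.obj
      ((singleFunctor (ModSite.Mod O_D) 0).obj (Tm K (ModSite.ringSh O_D) V')) ⟶
      (f.pull.mapDerivedCategory.obj ((singleFunctor (ModSite.Mod O_D) 0).obj F'))⟦(k : ℤ)⟧) := by
    refine ⟨fun x y => ?_⟩
    have h : eT.inv ≫ x ≫ eF.hom⟦(k : ℤ)⟧' = eT.inv ≫ y ≫ eF.hom⟦(k : ℤ)⟧' :=
      Subsingleton.elim _ _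
    have h' := (cancel_epi eT.inv).1 h
    exact (cancel_mono (eF.hom⟦(k : ℤ)⟧')).1 h'
  have h5 : Subsingleton
      ((singleFunctor (ModSite.Mod O_D) 0).obj (Tm K (ModSite.ringSh O_D) V') ⟶
        (R.obj (f.pull.mapDerivedCategory.obj
          ((singleFunctor (ModSite.Mod O_D) 0).obj F')))⟦(k : ℤ)⟧) := by
    refine ⟨fun x y => ?_⟩
    let c := (R.commShiftIso (k : ℤ)).app
      (f.pull.mapDerivedCategory.obj ((singleFunctor (ModSite.Mod O_D) 0).obj F'))
    have h : (adj.homEquiv _ _).symm (x ≫ c.inv) = (adj.homEquiv _ _).symm (y ≫ c.inv) :=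
      Subsingleton.elim _ _
    have h' := (adj.homEquiv _ _).symm.injective h
    exact (cancel_mono c.inv).1 h'
  have h6 : Subsingleton
      ((singleFunctor (ModSite.Mod O_D) 0).obj (Tm K (ModSite.ringSh O_D) V') ⟶
        ((singleFunctor (ModSite.Mod O_D) 0).obj F')⟦(k : ℤ)⟧) := by
    refine ⟨fun x y => ?_⟩
    haveI := h3
    have h : x ≫ (adj.unit.app ((singleFunctor (ModSite.Mod O_D) 0).obj F'))⟦(k : ℤ)⟧' =
        y ≫ (adj.unit.app ((singleFunctor (ModSite.Mod O_D) 0).obj F'))⟦(k : ℤ)⟧' :=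
      h5.elim _ _
    exact (cancel_mono _).1 h
  exact (Ext.homEquiv (X := Tm K (ModSite.ringSh O_D) V') (Y := F') (n := k)).subsingleton

end Transfer

end Groth.Agent.Lib.Helper53.PullFree
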