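import Groth.Agent.Lib.Helper53.ClosedEmbCoh

/-!
# `Hom(ℤ_X, G) ≃ Hom(ℤ_Y, f_* G)`, naturally in `G`
-/

universe u

open CategoryTheory TopologicalSpace Opposite CategoryTheory.Limits Abelian

namespace Groth.Agent.Lib.Helper53

variable {X Y : TopCat.{u}} (f : X ⟶ Y)

/-- `Hom(ℤ_X, G) ≃ Hom(ℤ_Y, f_* G)` -/
noncomputable def pushTheta (G : CohTop.Ab X) :
    (CohTop.const X (ULift.{u} ℤ) ⟶ G) ≃+ (CohTop.const Y (ULift.{u} ℤ) ⟶ (CohTop.push f).obj G) :=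
  Ext.addEquiv₀.symm.trans ((h0Equiv f G).trans Ext.addEquiv₀)

lemma pushTheta_naturality {G G' : CohTop.Ab X} (φ : G ⟶ G')
    (g : CohTop.const X (ULift.{u} ℤ) ⟶ G) :
    pushTheta f G' (g ≫ φ) = pushTheta f G g ≫ (CohTop.push f).map φ := by
  have h1 : (Ext.addEquiv₀.symm (g ≫ φ) : CohTop.H G' 0) =
      Sheaf.H.map φ 0 (Ext.addEquiv₀.symm g) := by
    apply Ext.addEquiv₀.injective
    rw [Sheaf.H.addEquiv₀_map, AddEquiv.apply_symm_apply, AddEquiv.apply_symm_apply]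
  simp only [pushTheta, AddEquiv.trans_apply]
  rw [h1, h0Equiv_naturality, Sheaf.H.addEquiv₀_map]

end Groth.Agent.Lib.Helper53
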