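import Groth.Agent.Lib.Helper4.QcGen.Defs
import Groth.Agent.Lib.Helper28.TopColim

/-!
# QC3 for helper4's S0948: abelian transfer of factorisation through filtered colimits
-/

set_option autoImplicit false

universe u

open CategoryTheory Limits Opposite Simplicial Groth.Agent.Lib.Helper4.QcGen
open Groth.Agent.Lib.Helper28

namespace Groth.Agent.Lib.Helper53.QcGenC3

variable {C : Type u} [SmallCategory C] {J : GrothendieckTopology C}
  {S : Set (Sheaf J (Type u))}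
  {I : Type u} [SmallCategory I] [IsFiltered I]

instance preservesColimit_Uf (M : I ⥤ Sheaf J AddCommGrpCat.{u}) :
    PreservesColimit M (TotAcyc.Uf J) :=
  TopColim.preservesColimit_Φ M

lemma exists_factor_G (M : I ⥤ Sheaf J AddCommGrpCat.{u}) {T : Sheaf J (Type u)} (hfac : ∀ (φ : T ⟶ colimit (M ⋙ TotAcyc.Uf J)), ∃ (k : I) (ψ : T ⟶ (M ⋙ TotAcyc.Uf J).obj k), ψ ≫ colimit.ι (M ⋙ TotAcyc.Uf J) k = φ) (x : (TotAcyc.G J).obj T ⟶ colimit M) : ∃ (k : I) (y : (TotAcyc.G J).obj T ⟶ M.obj k), y ≫ colimit.ι M k = x := by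
  let e : (TotAcyc.Uf J).obj (colimit M) ≅ colimit (M ⋙ TotAcyc.Uf J) :=
    preservesColimitIso (TotAcyc.Uf J) M
  have he : ∀ k, colimit.ι (M ⋙ TotAcyc.Uf J) k ≫ e.inv =
      (TotAcyc.Uf J).map (colimit.ι M k) := fun k =>
    ι_preservesColimitIso_inv (TotAcyc.Uf J) M k
  let x₀ : T ⟶ (TotAcyc.Uf J).obj (colimit M) := (TotAcyc.adjG J).homEquiv T (colimit M) x
  obtain ⟨k, ψ, hψ⟩ := hfac (x₀ ≫ e.hom)
  refine ⟨k, ((TotAcyc.adjG J).homEquiv T (M.obj k)).symm ψ, ?_⟩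
  apply ((TotAcyc.adjG J).homEquiv T (colimit M)).injective
  rw [(TotAcyc.adjG J).homEquiv_naturality_right, Equiv.apply_symm_apply, ← he k,
    ← Category.assoc, hψ, Category.assoc, e.hom_inv_id, Category.comp_id]

lemma exists_eq_zero_G (M : I ⥤ Sheaf J AddCommGrpCat.{u}) {T : Sheaf J (Type u)} (heq : ∀ {k : I} (f g : T ⟶ (M ⋙ TotAcyc.Uf J).obj k), f ≫ colimit.ι (M ⋙ TotAcyc.Uf J) k = g ≫ colimit.ι (M ⋙ TotAcyc.Uf J) k → ∃ (k' : I) (c : k ⟶ k'), f ≫ (M ⋙ TotAcyc.Uf J).map c = g ≫ (M ⋙ TotAcyc.Uf J).map c) (k : I) (y : (TotAcyc.G J).obj T ⟶ M.obj k) (hy : y ≫ colimit.ι M k = 0) : ∃ (k' : I) (g : k ⟶ k'), y ≫ M.map g = 0 := by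
  let e : (TotAcyc.Uf J).obj (colimit M) ≅ colimit (M ⋙ TotAcyc.Uf J) :=
    preservesColimitIso (TotAcyc.Uf J) M
  have he : ∀ k, colimit.ι (M ⋙ TotAcyc.Uf J) k ≫ e.inv =
      (TotAcyc.Uf J).map (colimit.ι M k) := fun k =>
    ι_preservesColimitIso_inv (TotAcyc.Uf J) M k
  let y₀ : T ⟶ (M ⋙ TotAcyc.Uf J).obj k := (TotAcyc.adjG J).homEquiv T (M.obj k) y
  let z₀ : T ⟶ (M ⋙ TotAcyc.Uf J).obj k := (TotAcyc.adjG J).homEquiv T (M.obj k) 0
  have h1 : y₀ ≫ colimit.ι (M ⋙ TotAcyc.Uf J) k = z₀ ≫ colimit.ι (M ⋙ TotAcyc.Uf J) k := by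
    rw [← cancel_mono e.inv, Category.assoc, Category.assoc, he k]
    change (TotAcyc.adjG J).homEquiv T (M.obj k) y ≫ (TotAcyc.Uf J).map (colimit.ι M k) =
      (TotAcyc.adjG J).homEquiv T (M.obj k) 0 ≫ (TotAcyc.Uf J).map (colimit.ι M k)
    rw [← (TotAcyc.adjG J).homEquiv_naturality_right, ← (TotAcyc.adjG J).homEquiv_naturality_right,
      hy, zero_comp]
  obtain ⟨k', c, hc⟩ := heq y₀ z₀ h1
  refine ⟨k', c, ?_⟩
  apply ((TotAcyc.adjG J).homEquiv T (M.obj k')).injective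
  rw [(TotAcyc.adjG J).homEquiv_naturality_right]
  refine hc.trans ?_
  change (TotAcyc.adjG J).homEquiv T (M.obj k) 0 ≫ (TotAcyc.Uf J).map (M.map c) = _
  rw [← (TotAcyc.adjG J).homEquiv_naturality_right, zero_comp]

end Groth.Agent.Lib.Helper53.QcGenC3
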