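import Groth.Agent.Lib.Helper53.RestrInj
import Groth.Agent.Lib.Helper53.MapResExact
import Groth.Agent.Lib.Helper53.SitePush

/-!
# Higher direct images commute with restriction to an open of the base
-/

universe u

open CategoryTheory TopologicalSpace Opposite CategoryTheory.Limits

namespace Groth.Agent.Lib.Helper53

variable {X Y : TopCat.{u}} (f : X ⟶ Y) (V : Opens Y)

/-- the restriction of `f` over an open `V` of the base -/
abbrev restrMap : TopCat.of ((Opens.map f).obj V) ⟶ TopCat.of V :=
  TopCat.ofHom ⟨(V : Set Y).restrictPreimage f, f.hom.continuous.restrictPreimage⟩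

lemma jFun_map_restrMap (W : Opens (TopCat.of V)) :
    (jFun ((Opens.map f).obj V)).obj ((Opens.map (restrMap f V)).obj W) =
      (Opens.map f).obj ((jFun V).obj W) := by
  ext x
  constructor
  · rintro ⟨y, hy, rfl⟩
    exact ⟨⟨f y.1, y.2⟩, hy, rfl⟩
  · rintro ⟨z, hz, hzx⟩
    have hx : x ∈ (Opens.map f).obj V := by
      change f x ∈ V
      rw [← hzx]
      exact z.2
    refine ⟨⟨x, hx⟩, ?_, rfl⟩
    change (⟨f x, hx⟩ : V) ∈ W
    have : (⟨f x, hx⟩ : V) = z := Subtype.ext hzx.symm
    rw [this]
    exact hz

/-- the two ways of going from opens of `V` to opens of `X` agree -/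
def opensSquareIso :
    jFun V ⋙ Opens.map f ≅ Opens.map (restrMap f V) ⋙ jFun ((Opens.map f).obj V) :=
  NatIso.ofComponents (fun W => eqToIso (jFun_map_restrMap f V W).symm)

lemma opensMap_isContinuous {X Y : TopCat.{u}} (f : X ⟶ Y) :
    (Opens.map f).IsContinuous (Opens.grothendieckTopology Y) (Opens.grothendieckTopology X) :=
  inferInstance

/-- base change of direct images to an open of the base -/
noncomputable def restrPushIso :
    CohTop.restrFunctor ((Opens.map f).obj V) ⋙ CohTop.push (restrMap f V) ≅
      CohTop.push f ⋙ CohTop.restrFunctor V := by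
  let JX := Opens.grothendieckTopology X
  let JY := Opens.grothendieckTopology Y
  let JU := Opens.grothendieckTopology (TopCat.of ((Opens.map f).obj V))
  let JV := Opens.grothendieckTopology (TopCat.of V)
  haveI h1 : (Opens.map (restrMap f V)).IsContinuous JV JU := opensMap_isContinuous (restrMap f V)
  haveI h2 : (jFun ((Opens.map f).obj V)).IsContinuous JU JX := jFun_isContinuous _
  haveI h3 : (jFun V).IsContinuous JV JY := jFun_isContinuous V
  haveI h4 : (Opens.map f).IsContinuous JY JX := opensMap_isContinuous f
  haveI h5 : (Opens.map (restrMap f V) ⋙ jFun ((Opens.map f).obj V)).IsContinuous JV JX :=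
    Functor.isContinuous_comp _ _ JV JU JX
  exact (Functor.sheafPushforwardContinuousComp' (F := Opens.map (restrMap f V))
      (G := jFun ((Opens.map f).obj V)) (Iso.refl _) AddCommGrpCat.{u} JV JU JX) ≪≫
    (Functor.sheafPushforwardContinuousComp' (F := jFun V) (G := Opens.map f)
      (opensSquareIso f V) AddCommGrpCat.{u} JV JY JX).symm

lemma push_additive {X Y : TopCat.{u}} (f : X ⟶ Y) : (CohTop.push f).Additive := inferInstance

/-- `(R^p f_* F)|_V ≅ R^p g_* (F|_{f⁻¹ V})` -/
theorem nonempty_restr_Rpush_iso (F : CohTop.Ab X) (p : ℕ) :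
    Nonempty (CohTop.restr ((CohTop.Rpush f p).obj F) V ≅
      (CohTop.Rpush (restrMap f V) p).obj (CohTop.restr F ((Opens.map f).obj V))) := by
  let U := (Opens.map f).obj V
  let I := injectiveResolution F
  let I' : InjectiveResolution (CohTop.restr F U) :=
    ExtRes.mapResExact (CohTop.restrFunctor U) I (fun n => inferInstance)
  let g := restrMap f V
  have : (CohTop.push g).Additive := push_additive g
  let e1 := I'.isoRightDerivedObj (CohTop.push g) p
  let K1 := ((CohTop.push g).mapHomologicalComplex _).obj I'.cocomplex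
  let K0 := ((CohTop.push f).mapHomologicalComplex _).obj I.cocomplex
  let K2 := ((CohTop.restrFunctor V).mapHomologicalComplex _).obj K0
  let eK : K1 ≅ K2 := HomologicalComplex.Hom.isoOfComponents
    (fun n => (restrPushIso f V).app (I.cocomplex.X n))
    (fun i j _ => ((restrPushIso f V).hom.naturality (I.cocomplex.d i j)).symm)
  let e2 : K1.homology p ≅ K2.homology p := (HomologicalComplex.homologyFunctor _ _ p).mapIso eK
  let e3 : K2.homology p ≅ (CohTop.restrFunctor V).obj (K0.homology p) :=
    SiteCoh.mapHomologyIsoOfExact (CohTop.restrFunctor V) K0 p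
  let e4 : (CohTop.Rpush f p).obj F ≅ K0.homology p := I.isoRightDerivedObj (CohTop.push f) p
  exact ⟨(CohTop.restrFunctor V).mapIso e4 ≪≫ e3.symm ≪≫ e2.symm ≪≫ e1.symm⟩

end Groth.Agent.Lib.Helper53
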