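import Mathlib

/-!
# Detecting isomorphisms in the derived category by maps from shifted objects (helper53)

* `isZero_of_hom_single_eq_zero`: an object `C` of `D(𝒜)` receiving only zero maps from all
  `(singleFunctor i).obj T` is zero.
* `hom_cone_eq_zero`: if `Hom(X, f)` is bijective for all `X` in a class stable under `⟦-1⟧`, then the
  cone of `f` receives only zero maps from that class.
* `isIso_of_bijective`: `f` in `D(𝒜)` is an isomorphism once `Hom(T[0]⟦k⟧, f)` is bijective for all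
  `T : 𝒜`, `k : ℤ`.
-/

set_option autoImplicit false
universe w v u
open CategoryTheory Limits Pretriangulated

namespace Groth.Agent.Lib.Helper53.RlimDer

section Tri
variable {𝒟 : Type*} [Category 𝒟] [Preadditive 𝒟] [HasZeroObject 𝒟] [HasShift 𝒟 ℤ]
  [∀ n : ℤ, (shiftFunctor 𝒟 n).Additive] [Pretriangulated 𝒟]

lemma hom_cone_eq_zero (𝒮 : 𝒟 → Prop) (h𝒮 : ∀ X, 𝒮 X → 𝒮 (X⟦(-1 : ℤ)⟧))
    (T : Triangle 𝒟) (hT : T ∈ distTriang 𝒟)
    (hf : ∀ X, 𝒮 X → Function.Bijective (fun φ : X ⟶ T.obj₁ => φ ≫ T.mor₁))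
    (X : 𝒟) (hX : 𝒮 X) (ψ : X ⟶ T.obj₃) : ψ = 0 := by
  have step1 : ψ ≫ T.mor₃ = 0 := by
    let θ : X ⟶ T.obj₁⟦(1 : ℤ)⟧ := ψ ≫ T.mor₃
    let e := shiftFunctorCompIsoId 𝒟 (1 : ℤ) (-1) (by norm_num)
    let θ' : X⟦(-1 : ℤ)⟧ ⟶ T.obj₁ := θ⟦(-1 : ℤ)⟧' ≫ e.hom.app T.obj₁
    have h1 : θ' ≫ T.mor₁ = 0 := by
      have hn := e.hom.naturality T.mor₁
      simp only [Functor.comp_map, Functor.id_map] at hn
      show (θ⟦(-1 : ℤ)⟧' ≫ e.hom.app T.obj₁) ≫ T.mor₁ = 0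
      rw [Category.assoc, ← hn, ← Category.assoc, ← Functor.map_comp]
      have : θ ≫ T.mor₁⟦(1 : ℤ)⟧' = 0 := by
        show (ψ ≫ T.mor₃) ≫ T.mor₁⟦(1 : ℤ)⟧' = 0
        rw [Category.assoc, comp_distTriang_mor_zero₃₁ _ hT, comp_zero]
      rw [this, Functor.map_zero, zero_comp]
    have h2 : θ' = 0 := by
      apply (hf _ (h𝒮 X hX)).1
      show θ' ≫ T.mor₁ = 0 ≫ T.mor₁
      rw [h1, zero_comp]
    have h3 : θ⟦(-1 : ℤ)⟧' = 0 := by
      have : θ⟦(-1 : ℤ)⟧' ≫ e.hom.app T.obj₁ = 0 := h2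
      rw [← cancel_mono (e.hom.app T.obj₁), this, zero_comp]
    apply (shiftFunctor 𝒟 (-1 : ℤ)).map_injective
    rw [Functor.map_zero]
    exact h3
  obtain ⟨χ, hχ⟩ := Triangle.coyoneda_exact₃ T hT ψ step1
  obtain ⟨χ', rfl⟩ := (hf X hX).2 χ
  rw [hχ]
  show (χ' ≫ T.mor₁) ≫ T.mor₂ = 0
  rw [Category.assoc, comp_distTriang_mor_zero₁₂ _ hT, comp_zero]

end Tri

section Der
variable {𝒜 : Type u} [Category.{v} 𝒜] [Abelian 𝒜] [HasDerivedCategory.{w} 𝒜]
open DerivedCategory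

lemma isZero_homology_of_hom_single_eq_zero (K : CochainComplex 𝒜 ℤ) (i : ℤ)
    (h : ∀ φ : (singleFunctor 𝒜 i).obj (K.cycles i) ⟶ Q.obj K, φ = 0) :
    IsZero (K.homology i) := by
  let L : CochainComplex 𝒜 ℤ := (HomologicalComplex.single 𝒜 (ComplexShape.up ℤ) i).obj (K.cycles i)
  let ψ : L ⟶ K := HomologicalComplex.mkHomFromSingle (K.iCycles i) (by
    intro k hk
    simp)
  have hψ : Q.map ψ = 0 := by
    have := h ((singleFunctorIsoCompQ 𝒜 i).hom.app (K.cycles i) ≫ Q.map ψ)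
    exact (cancel_epi ((singleFunctorIsoCompQ 𝒜 i).hom.app (K.cycles i))).1
      (this.trans comp_zero.symm)
  have hh : HomologicalComplex.homologyMap ψ i = 0 := by
    have hn := (homologyFunctorFactors 𝒜 i).hom.naturality ψ
    simp only [Functor.comp_map, hψ, Functor.map_zero, zero_comp] at hn
    have hn' : (homologyFunctorFactors 𝒜 i).hom.app L ≫ HomologicalComplex.homologyMap ψ i = 0 :=
      hn.symm
    exact (cancel_epi ((homologyFunctorFactors 𝒜 i).hom.app L)).1 (hn'.trans comp_zero.symm)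
  let σ : K.cycles i ⟶ L.cycles i :=
    L.liftCycles (HomologicalComplex.singleObjXSelf (ComplexShape.up ℤ) i (K.cycles i)).inv (i + 1)
      (by simp) (by simp [L])
  have hσ : σ ≫ HomologicalComplex.cyclesMap ψ i = 𝟙 _ := by
    rw [← cancel_mono (K.iCycles i), Category.assoc, HomologicalComplex.cyclesMap_i,
      HomologicalComplex.liftCycles_i_assoc, HomologicalComplex.mkHomFromSingle_f,
      Iso.inv_hom_id_assoc, Category.id_comp]
  have hπ : K.homologyπ i = 0 := by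
    have h1 := HomologicalComplex.homologyπ_naturality ψ i
    rw [hh, comp_zero] at h1
    calc K.homologyπ i = (σ ≫ HomologicalComplex.cyclesMap ψ i) ≫ K.homologyπ i := by
          rw [hσ, Category.id_comp]
      _ = 0 := by rw [Category.assoc, ← h1, comp_zero]
  exact IsZero.of_epi_eq_zero _ hπ

theorem isZero_of_hom_single_eq_zero (C : DerivedCategory 𝒜)
    (h : ∀ (T : 𝒜) (i : ℤ) (φ : (singleFunctor 𝒜 i).obj T ⟶ C), φ = 0) : IsZero C := by
  let K := Q.objPreimage C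
  let e : Q.obj K ≅ C := Q.objObjPreimageIso C
  have hK : ∀ i, IsZero (K.homology i) := by
    intro i
    apply isZero_homology_of_hom_single_eq_zero
    intro φ
    have := h _ i (φ ≫ e.hom)
    rwa [← cancel_mono e.hom, zero_comp]
  have hC : ∀ i, IsZero ((homologyFunctor 𝒜 i).obj C) := by
    intro i
    exact (hK i).of_iso ((homologyFunctor 𝒜 i).mapIso e.symm ≪≫ (homologyFunctorFactors 𝒜 i).app K)
  haveI : C.IsLE 0 := (isLE_iff C 0).2 (fun i _ => hC i)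
  haveI : C.IsGE 1 := (isGE_iff C 1).2 (fun i _ => hC i)
  rw [IsZero.iff_id_eq_zero]
  exact TStructure.t.zero (𝟙 C) 0 1 (by norm_num)

/-- the test class: shifts of objects of the heart -/
def IsShiftSingle (X : DerivedCategory 𝒜) : Prop :=
  ∃ (T : 𝒜) (k : ℤ), Nonempty (X ≅ ((singleFunctor 𝒜 0).obj T)⟦k⟧)

lemma isShiftSingle_shift (X : DerivedCategory 𝒜) (hX : IsShiftSingle X) :
    IsShiftSingle (X⟦(-1 : ℤ)⟧) := by
  obtain ⟨T, k, ⟨e⟩⟩ := hX
  exact ⟨T, k + (-1), ⟨(shiftFunctor _ (-1 : ℤ)).mapIso e ≪≫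
    ((shiftFunctorAdd' (DerivedCategory 𝒜) k (-1) (k + (-1)) rfl).app _).symm⟩⟩

lemma isShiftSingle_single (T : 𝒜) (i : ℤ) : IsShiftSingle ((singleFunctor 𝒜 i).obj T) :=
  ⟨T, -i, ⟨(((singleFunctors 𝒜).shiftIso (-i) i 0 (by simp)).app T).symm⟩⟩

lemma bijective_of_iso {X X' A P : DerivedCategory 𝒜} (e : X ≅ X') (f : A ⟶ P)
    (h : Function.Bijective (fun φ : X' ⟶ A => φ ≫ f)) :
    Function.Bijective (fun φ : X ⟶ A => φ ≫ f) := by
  constructor
  · intro φ φ' hφ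
    have h1 : (e.inv ≫ φ) ≫ f = (e.inv ≫ φ') ≫ f := by
      rw [Category.assoc, Category.assoc]
      exact congrArg (e.inv ≫ ·) hφ
    have h2 := h.1 h1
    exact (cancel_epi e.inv).1 h2
  · intro ψ
    obtain ⟨χ, hχ⟩ := h.2 (e.inv ≫ ψ)
    refine ⟨e.hom ≫ χ, ?_⟩
    show (e.hom ≫ χ) ≫ f = ψ
    have hχ' : χ ≫ f = e.inv ≫ ψ := hχ
    rw [Category.assoc, hχ', Iso.hom_inv_id_assoc]

theorem isIso_of_bijective {A P : DerivedCategory 𝒜} (f : A ⟶ P)
    (h : ∀ (T : 𝒜) (k : ℤ),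
      Function.Bijective (fun φ : ((singleFunctor 𝒜 0).obj T)⟦k⟧ ⟶ A => φ ≫ f)) : IsIso f := by
  obtain ⟨C, g, δ, hT⟩ := distinguished_cocone_triangle f
  refine (Triangle.isZero₃_iff_isIso₁ _ hT).1 ?_
  apply isZero_of_hom_single_eq_zero
  intro T i φ
  refine hom_cone_eq_zero IsShiftSingle isShiftSingle_shift _ hT ?_ _ (isShiftSingle_single T i) φ
  rintro X ⟨T', k, ⟨e⟩⟩
  exact bijective_of_iso e f (h T' k)

end Der

end Groth.Agent.Lib.Helper53.RlimDer
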