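import Groth.Agent.Lib.Helper53.AcycSite
import Groth.Agent.Lib.Helper53.RlimInj
import Groth.Agent.Lib.Helper53.HomShf
import Groth.Agent.Lib.Helper13.MLLim

/-!
# `H^q(Rlim K_n) = lim H^q(K_n)` on a site, under acyclicity and vanishing `R¹lim` on a class of
objects (helper53)
-/

set_option autoImplicit false
universe u
open CategoryTheory Limits Pretriangulated Opposite

namespace Groth.Agent.Lib.Helper53.RlimHq

open DerivedCategory Groth.Agent.Lib.Helper53.DerLoc Groth.Agent.Lib.Helper53.DerLocSite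
  Groth.Agent.Lib.Helper53.SiteCoh Groth.Agent.Lib.Helper53.RlimMilnor
  Groth.Agent.Lib.Helper53.AcycSite

/-- transfer of vanishing of `R¹lim` along an isomorphism of towers -/
lemma limOne_transfer {A A' : ℕ → Type u} [∀ n, AddCommGroup (A n)] [∀ n, AddCommGroup (A' n)]
    (tA : ∀ n, A (n + 1) →+ A n) (tA' : ∀ n, A' (n + 1) →+ A' n) (e : ∀ n, A n →+ A' n)
    (he : ∀ n, Function.Bijective (e n)) (hcomm : ∀ n x, e n (tA n x) = tA' n (e (n + 1) x))
    (h : CohCx.LimOneIsZero A' tA') : CohCx.LimOneIsZero A tA := by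
  intro c
  obtain ⟨b', hb'⟩ := h (fun n => e n (c n))
  have hb : ∀ n, ∃ b : A n, e n b = b' n := fun n => (he n).2 (b' n)
  choose b hb using hb
  refine ⟨b, ?_⟩
  funext n
  apply (he n).1
  have h1 := congrFun hb' n
  simp only at h1
  rw [map_sub, hcomm, hb, hb]
  exact h1

variable {C : Type u} [SmallCategory C] {J : GrothendieckTopology C}
  [HasDerivedCategory.{u} (Sheaf J AddCommGrpCat.{u})]
  (K : ℕ → DerivedCategory (Sheaf J AddCommGrpCat.{u})) (t : ∀ n, K (n + 1) ⟶ K n) [HasProduct K]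
  (L : DerivedCategory (Sheaf J AddCommGrpCat.{u})) (a : ∀ n, L ⟶ K n) (q : ℤ)
  (hL : CohCx.IsRlimVia K t L a)

/-- the tower of cohomology sheaves -/
noncomputable abbrev HqTower : ℕᵒᵖ ⥤ Sheaf J AddCommGrpCat.{u} :=
  CohCx.opSequence (fun n => CohCx.HD (K n) q) (fun n => (homologyFunctor _ q).map (t n))

include hL in
lemma map_a_compat (n : ℕ) : (homologyFunctor _ q).map (a n) =
    (homologyFunctor _ q).map (a (n + 1)) ≫ (homologyFunctor _ q).map (t n) := by
  rw [← Functor.map_comp, a_compat K t L a hL n]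

include hL in
lemma cone_naturality (n : ℕ) :
    ((Functor.const ℕᵒᵖ).obj (CohCx.HD L q)).map (homOfLE (n.le_add_right 1)).op ≫
      (homologyFunctor _ q).map (a n) =
    (homologyFunctor _ q).map (a (n + 1)) ≫
      (HqTower K t q).map (homOfLE (n.le_add_right 1)).op := by
  refine (Category.id_comp _).trans ?_
  refine (map_a_compat K t L a q hL n).trans ?_
  congr 1
  exact (Functor.ofOpSequence_map_homOfLE_succ (X := fun n => CohCx.HD (K n) q)
    (fun n => (homologyFunctor (Sheaf J AddCommGrpCat.{u}) q).map (t n)) n).symm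

/-- the cone on the tower of cohomology sheaves with apex `H^q(L)` -/
noncomputable def cone (hL : CohCx.IsRlimVia K t L a) : Cone (HqTower K t q) where
  pt := CohCx.HD L q
  π := NatTrans.ofOpSequence (F := (Functor.const ℕᵒᵖ).obj (CohCx.HD L q)) (G := HqTower K t q)
    (fun n => (homologyFunctor _ q).map (a n)) (fun n => cone_naturality K t L a q hL n)

/-- the comparison map `H^q(L) ⟶ lim H^q(K_n)` -/
noncomputable def Φ (hL : CohCx.IsRlimVia K t L a) : CohCx.HD L q ⟶ limit (HqTower K t q) :=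
  limit.lift (HqTower K t q) (cone K t L a q hL)

lemma Φ_π (n : ℕ) : Φ K t L a q hL ≫ limit.π (HqTower K t q) (op n) =
    (homologyFunctor _ q).map (a n) := by
  exact (limit.lift_π (cone K t L a q hL) (op n)).trans rfl

/-- sections over `U` -/
noncomputable abbrev Γ (U : C) : Sheaf J AddCommGrpCat.{u} ⥤ AddCommGrpCat.{u} :=
  sheafToPresheaf J AddCommGrpCat.{u} ⋙ (evaluation Cᵒᵖ AddCommGrpCat.{u}).obj (op U)

lemma limit_section_ext (U : C) (x y : (limit (HqTower K t q)).obj.obj (op U))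
    (h : ∀ n, (limit.π (HqTower K t q) (op n)).hom.app (op U) x =
      (limit.π (HqTower K t q) (op n)).hom.app (op U) y) : x = y := by
  have hlim := isLimitOfPreserves (Γ (J := J) U) (limit.isLimit (HqTower K t q))
  exact Groth.Agent.Lib.Helper13.MLLim.cone_ext hlim x y (fun j => h j.unop)

lemma limit_π_compat (U : C) (x : (limit (HqTower K t q)).obj.obj (op U)) (n : ℕ) :
    ((homologyFunctor _ q).map (t n)).hom.app (op U)
      ((limit.π (HqTower K t q) (op (n + 1))).hom.app (op U) x) =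
    (limit.π (HqTower K t q) (op n)).hom.app (op U) x := by
  have h1 := limit.w (HqTower K t q) (homOfLE (Nat.le_add_right n 1)).op
  rw [Functor.ofOpSequence_map_homOfLE_succ] at h1
  have h2 := congrArg (fun z => z.hom.app (op U) x) h1
  exact h2

include hL in
/-- sections of `H^q(L)` killed by all `H^q(a n)` are locally zero -/
theorem loc_zero (B : Set C)
    (hB : ∀ U : C, ∃ (ι : Type u) (Y : ι → C) (f : ∀ i, Y i ⟶ U),
      Sieve.ofArrows Y f ∈ J U ∧ ∀ i, Y i ∈ B)
    (hinj : ∀ W ∈ B, ∀ n, Function.Injective (kU (K n) q W))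
    (hlim : ∀ W ∈ B, CohCx.LimOneIsZero (fun n => CohCx.HDU (K n) (q - 1) W)
      (fun n => Preadditive.rightComp _ ((shiftFunctor _ (q - 1)).map (t n))))
    (V : C) (σ : (CohCx.HD L q).obj.obj (op V))
    (hσ : ∀ n, ((homologyFunctor _ q).map (a n)).hom.app (op V) σ = 0) :
    ∃ S : Sieve V, S ∈ J V ∧ ∀ ⦃W : C⦄ (f : W ⟶ V), S f → (CohCx.HD L q).obj.map f.op σ = 0 := by
  obtain ⟨S₁, hS₁⟩ := loc_surj L q V σ
  choose φ hφ using hS₁
  choose ι Yc fc hcov hYB using hB
  have key : ∀ (Y : C) (f₁ : Y ⟶ V) (hf₁ : (S₁ : Sieve V).arrows f₁) (i : ι Y),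
      (CohCx.HD L q).obj.map (fc Y i).op ((CohCx.HD L q).obj.map f₁.op σ) = 0 := by
    intro Y f₁ hf₁ i
    let a₁ : S₁.Arrow := ⟨Y, f₁, hf₁⟩
    let W₀ : C := Yc Y i
    have hW₀ : W₀ ∈ B := hYB Y i
    let γ : CohCx.HDU L q W₀ := (singleFunctor _ 0).map (freeShMap J (fc Y i)) ≫ φ a₁
    have hkγ : kU L q W₀ γ =
        (CohCx.HD L q).obj.map (fc Y i).op ((CohCx.HD L q).obj.map f₁.op σ) := by
      show kU L q W₀ ((singleFunctor _ 0).map (freeShMap J (fc Y i)) ≫ φ a₁) = _
      rw [kU_res, hφ a₁]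
    have hall : ∀ n, γ ≫ (a n)⟦q⟧' = 0 := by
      intro n
      apply hinj W₀ hW₀ n
      rw [kU_comp_right, hkγ, kU_zero]
      have hn1 := ConcreteCategory.congr_hom
        (((homologyFunctor _ q).map (a n)).hom.naturality f₁.op) σ
      have hn2 := ConcreteCategory.congr_hom
        (((homologyFunctor _ q).map (a n)).hom.naturality (fc Y i).op)
        ((CohCx.HD L q).obj.map f₁.op σ)
      simp only [ConcreteCategory.comp_apply] at hn1 hn2
      refine hn2.trans ?_
      rw [hn1, hσ n, map_zero, map_zero]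
    have hγ : γ = 0 := milnor_inj K t L a hL _ (q - 1) q (by omega) γ hall (hlim W₀ hW₀)
    rw [hγ, kU_zero] at hkγ
    exact hkγ.symm
  refine ⟨Sieve.bind (S₁ : Sieve V).arrows (fun Y f hf => Sieve.ofArrows (Yc Y) (fc Y)), ?_, ?_⟩
  · exact J.bind_covering S₁.condition (fun Y f hf => hcov Y)
  · rintro W f ⟨Y, g, f₁, hf₁, ⟨Z, h, k, hk, rfl⟩, rfl⟩
    obtain ⟨i⟩ := hk
    have h3 : (CohCx.HD L q).obj.map ((h ≫ fc _ i) ≫ f₁).op σ =
        (CohCx.HD L q).obj.map h.op
          ((CohCx.HD L q).obj.map (fc _ i).op ((CohCx.HD L q).obj.map f₁.op σ)) := by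
      rw [op_comp, op_comp, Functor.map_comp, Functor.map_comp]
      rfl
    rw [h3, key _ f₁ hf₁ i, map_zero]

include hL in
theorem isIso_Φ (B : Set C)
    (hB : ∀ U : C, ∃ (ι : Type u) (Y : ι → C) (f : ∀ i, Y i ⟶ U),
      Sieve.ofArrows Y f ∈ J U ∧ ∀ i, Y i ∈ B)
    (hbij : ∀ W ∈ B, ∀ (n : ℕ) (m : ℤ), Function.Bijective (kU (K n) m W))
    (h2 : ∀ U ∈ B, ∀ (m : ℤ), CohCx.LimOneIsZero (fun n => (CohCx.HD (K n) m).obj.obj (op U))
      (fun n => (((homologyFunctor _ m).map (t n)).hom.app (op U)).hom)) :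
    IsIso (Φ K t L a q hL) := by
  have hlim : ∀ W ∈ B, ∀ m : ℤ, CohCx.LimOneIsZero (fun n => CohCx.HDU (K n) m W)
      (fun n => Preadditive.rightComp _ ((shiftFunctor _ m).map (t n))) := by
    intro W hW m
    refine limOne_transfer _ _ (fun n => kUHom (K n) m W) (fun n => hbij W hW n m) ?_ (h2 W hW m)
    intro n x
    exact kU_comp_right m (t n) W x
  haveI hmono : Mono (Φ K t L a q hL) := by
    haveI : Sheaf.IsLocallyInjective (Φ K t L a q hL) := by
      refine ⟨fun {X} x y hxy => ?_⟩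
      have hσ : ∀ n, ((homologyFunctor _ q).map (a n)).hom.app (op X.unop) (x - y) = 0 := by
        intro n
        have h1 : ∀ z, ((homologyFunctor _ q).map (a n)).hom.app (op X.unop) z =
            (limit.π (HqTower K t q) (op n)).hom.app (op X.unop)
              ((Φ K t L a q hL).hom.app (op X.unop) z) := by
          intro z
          rw [← Φ_π K t L a q hL n]
          rfl
        rw [map_sub, h1 x, h1 y]
        have : (Φ K t L a q hL).hom.app (op X.unop) x = (Φ K t L a q hL).hom.app (op X.unop) y := hxy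
        exact sub_eq_zero.2 (congrArg
          (fun z => (limit.π (HqTower K t q) (op n)).hom.app (op X.unop) z) this)
      obtain ⟨S, hS, hS'⟩ := loc_zero K t L a q hL B hB (fun W hW n => (hbij W hW n q).1)
        (fun W hW => hlim W hW (q - 1)) X.unop (x - y) hσ
      refine J.superset_covering ?_ hS
      intro W f hf
      have h1 := hS' f hf
      rw [map_sub, sub_eq_zero] at h1
      exact h1
    exact Sheaf.mono_of_isLocallyInjective _
  haveI hepi : Epi (Φ K t L a q hL) := by
    rw [← CategoryTheory.Sheaf.isLocallySurjective_iff_epi']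
    refine HomShf.isLocallySurjective_of_basis (Φ K t L a q hL).hom B hB ?_
    intro U hU s
    let sn : ∀ n, (CohCx.HD (K n) q).obj.obj (op U) := fun n =>
      (limit.π (HqTower K t q) (op n)).hom.app (op U) s
    have hβ : ∀ n, ∃ β : CohCx.HDU (K n) q U, kU (K n) q U β = sn n := fun n => (hbij U hU n q).2 _
    choose β hβ using hβ
    have hcompat : ∀ n, β (n + 1) ≫ (t n)⟦q⟧' = β n := by
      intro n
      apply (hbij U hU n q).1
      rw [kU_comp_right, hβ, hβ]
      exact limit_π_compat K t q U s n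
    obtain ⟨γ, hγ⟩ := milnor_surj K t L a hL _ q β hcompat
    refine ⟨kU L q U γ, ?_⟩
    apply limit_section_ext K t q U
    intro n
    have h1 : (limit.π (HqTower K t q) (op n)).hom.app (op U)
        ((Φ K t L a q hL).hom.app (op U) (kU L q U γ)) =
        ((homologyFunctor _ q).map (a n)).hom.app (op U) (kU L q U γ) := by
      rw [← Φ_π K t L a q hL n]
      rfl
    refine h1.trans ?_
    rw [← kU_comp_right, hγ, hβ]
  exact isIso_of_mono_of_epi _

end Groth.Agent.Lib.Helper53.RlimHq
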