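import Groth.Agent.Lib.Helper53.SchemeTower
import Groth.Agent.Lib.Helper53.ProdExtTop
import Groth.Agent.Lib.Helper53.MilnorSES

/-!
# The Milnor sequence for the cohomology of a limit of quasi-coherent modules (helper53)
-/

set_option autoImplicit false
universe u
open CategoryTheory Limits Abelian Opposite AlgebraicGeometry TopologicalSpace

namespace Groth.Agent.Lib.Helper53.SchemeMilnor

open Groth.Agent.Lib.Helper53.ProdExt Groth.Agent.Lib.Helper53.SchemeTower

variable {X : Scheme.{u}}

lemma surjective_of_epi_qcoh {M N : SheafOfModules.{u} X.ringCatSheaf} (φ : M ⟶ N) [Epi φ]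
    (hM : Coh.IsQCoh (X := X) M) (hN : Coh.IsQCoh (X := X) N) (U : X.Opens)
    (hU : IsAffineOpen U) :
    Function.Surjective
      (((SheafOfModules.toSheaf X.ringCatSheaf).map φ).hom.app (op U)).hom := by
  intro y
  obtain ⟨s, hs⟩ := liftsOn_of_epi_qcoh φ hM hN U hU (((DX X).sec U N).symm y)
  refine ⟨(DX X).sec U M s, ?_⟩
  have := (DX X).sec_right U φ s
  rw [hs] at this
  exact this.symm.trans (AddEquiv.apply_symm_apply ((DX X).sec U N) y)

instance : PreservesLimitsOfShape ℕᵒᵖ (SheafOfModules.toSheaf.{u} X.ringCatSheaf) := by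
  have : PreservesLimitsOfShape ℕᵒᵖ (SheafOfModules.toSheaf.{u} X.ringCatSheaf ⋙
      sheafToPresheaf _ _) := by
    show PreservesLimitsOfShape ℕᵒᵖ (SheafOfModules.forget X.ringCatSheaf ⋙
      PresheafOfModules.toPresheaf X.ringCatSheaf.obj)
    infer_instance
  exact preservesLimitsOfShape_of_reflects_of_preserves _ (sheafToPresheaf _ _)

variable (G : ℕᵒᵖ ⥤ SheafOfModules.{u} X.ringCatSheaf)

theorem milnor (hq : ∀ n, Coh.IsQCoh (X := X) (G.obj (op n)))
    (hepi : ∀ n, Epi (G.map (homOfLE (Nat.le_succ n)).op)) (p : ℕ) :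
    ∃ (α : Formal2.limOne (fun n => Coh.HH X (G.obj (op n)) p)
        (fun n => Sheaf.H.map ((SheafOfModules.toSheaf _).map
          (G.map (homOfLE (Nat.le_succ n)).op)) p) →+
        Coh.HH X (limit G : SheafOfModules.{u} X.ringCatSheaf) (p + 1))
      (β : Coh.HH X (limit G : SheafOfModules.{u} X.ringCatSheaf) (p + 1) →+
        Formal2.limZero (fun n => Coh.HH X (G.obj (op n)) (p + 1))
          (fun n => Sheaf.H.map ((SheafOfModules.toSheaf _).map
            (G.map (homOfLE (Nat.le_succ n)).op)) (p + 1))),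
      Function.Injective α ∧ Function.Surjective β ∧ α.range = β.ker ∧
      ∀ (x : Coh.HH X (limit G : SheafOfModules.{u} X.ringCatSheaf) (p + 1)) (n : ℕ),
        (β x : ∀ n, Coh.HH X (G.obj (op n)) (p + 1)) n =
          Sheaf.H.map ((SheafOfModules.toSheaf _).map (limit.π G (op n))) (p + 1) x := by
  let F : ℕᵒᵖ ⥤ CohTop.Ab X.toTopCat := G ⋙ SheafOfModules.toSheaf X.ringCatSheaf
  let T : CohTop.Ab X.toTopCat :=
    (constantSheaf (Opens.grothendieckTopology X.toTopCat) AddCommGrpCat.{u}).obj
      (AddCommGrpCat.of (ULift.{u} ℤ))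
  let B : Set (Opens X.toTopCat) := {U | IsAffineOpen (X := X) U}
  have hB : Opens.IsBasis B := X.isBasis_affineOpens
  have hgood : ∀ n, Good B (tobj F n) := by
    intro n V hV q
    exact @Groth.Agent.Lib.Helper26.AffineVanishing.subsingleton_HU_succ X (G.obj (op n)) (hq n) q
      V hV
  have hsurj : ∀ V ∈ B, ∀ n : ℕ, Function.Surjective ((tmap F n).hom.app (op V)).hom := by
    intro V hV n
    haveI := hepi n
    exact surjective_of_epi_qcoh (G.map (homOfLE (Nat.le_succ n)).op) (hq (n + 1)) (hq n) V hV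
  have hSE := towerSC_shortExact hB F hsurj
  have hc := fun k => cmp_bijective_of_good hB k (tobj F) hgood T
  let e : (SheafOfModules.toSheaf X.ringCatSheaf).obj (limit G) ≅ limit F :=
    preservesLimitIso (SheafOfModules.toSheaf X.ringCatSheaf) G
  have he : ∀ n, e.hom ≫ limit.π F (op n) =
      (SheafOfModules.toSheaf X.ringCatSheaf).map (limit.π G (op n)) :=
    fun n => preservesLimitIso_hom_π _ _ _
  exact milnor_ses F T hSE hc _ _ e he p

end Groth.Agent.Lib.Helper53.SchemeMilnor
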