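import Groth.Agent.Lib.Helper53.SiteSec
import Groth.Agent.Lib.Helper53.ExtCompare

/-!
# Global cohomology is cohomology over a terminal object (helper53)
-/

set_option autoImplicit false
universe u
open CategoryTheory Limits Opposite Abelian

namespace Groth.Agent.Lib.Helper53.TermCoh

open SiteCoh

variable {C : Type u} [SmallCategory C] (J : GrothendieckTopology C) {T : C} (hT : IsTerminal T)

/-- `Hom(ℤ, G) ≃ Hom(ℤ_T, G)` for a terminal object `T` -/
noncomputable def termTheta (G : Sheaf J AddCommGrpCat.{u}) :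
    Sheaf.H.{u} G 0 ≃+ Ext.{u} (freeSh J T) G 0 :=
  (Sheaf.H.equiv₀ G hT).trans ((shSecEquiv J T G).symm.trans Ext.addEquiv₀.symm)

lemma termTheta_naturality {G G' : Sheaf J AddCommGrpCat.{u}} (φ : G ⟶ G')
    (x : Sheaf.H.{u} G 0) :
    termTheta J hT G' (x.comp (Ext.mk₀ φ) (add_zero 0)) =
      (termTheta J hT G x).comp (Ext.mk₀ φ) (add_zero 0) := by
  have h1 : x.comp (Ext.mk₀ φ) (add_zero 0) = Sheaf.H.map φ 0 x := rfl
  rw [h1]
  unfold termTheta
  rw [AddEquiv.trans_apply, AddEquiv.trans_apply, AddEquiv.trans_apply, AddEquiv.trans_apply,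
    ← Sheaf.H.equiv₀_naturality]
  have h2 : (shSecEquiv J T G').symm (φ.hom.app (op T) (Sheaf.H.equiv₀ G hT x)) =
      (shSecEquiv J T G).symm (Sheaf.H.equiv₀ G hT x) ≫ φ := by
    apply (shSecEquiv J T G').injective
    rw [AddEquiv.apply_symm_apply, shSecEquiv_naturality_right, AddEquiv.apply_symm_apply]
  rw [h2]
  exact (Ext.mk₀_comp_mk₀ _ _).symm

include hT in
/-- `H^p(C, F) ≅ H^p(T, F)` for a terminal object `T` -/
theorem nonempty_H_equiv_H' (F : Sheaf J AddCommGrpCat.{u}) (p : ℕ) :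
    Nonempty (Sheaf.H.{u} F p ≃+ Sheaf.H'.{u} F p T) :=
  ExtCompare.nonempty_ext_equiv (𝟭 (Sheaf J AddCommGrpCat.{u}))
    ((constantSheaf J AddCommGrpCat.{u}).obj (AddCommGrpCat.of (ULift ℤ))) (freeSh J T)
    (termTheta J hT) (fun φ x => termTheta_naturality J hT φ x)
    (fun I _ n x => Ext.eq_zero_of_injective x) p F

end Groth.Agent.Lib.Helper53.TermCoh
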