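import Groth.Agent.Lib.Helper53.TorsCommon
import Groth.Agent.Lib.Helper53.ConstSh

set_option autoImplicit false

namespace Groth.Agent.Lib.Helper53.TorsFibre

universe u
open CategoryTheory Limits Opposite
open Groth.Agent.Lib.Helper53.TorsCommon

variable {C : Type u} [SmallCategory C] {J : GrothendieckTopology C}

section Exactness

variable {S : ShortComplex (Sheaf J AddCommGrpCat.{u})} (hS : S.ShortExact)

include hS in
lemma app_f_injective (U : Cᵒᵖ) : Function.Injective (S.f.hom.app U) := by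
  have := hS.mono_f
  have h1 : Mono S.f.hom := (Sheaf.Hom.mono_iff_presheaf_mono _ _ S.f).1 inferInstance
  have h2 : Mono (S.f.hom.app U) := inferInstance
  exact (AddCommGrpCat.mono_iff_injective _).1 h2

lemma app_g_app_f (U : Cᵒᵖ) (a : S.X₁.obj.obj U) : S.g.hom.app U (S.f.hom.app U a) = 0 := by
  have h := congrArg (fun φ => φ.hom.app U) S.zero
  exact ConcreteCategory.congr_hom h a

include hS in
lemma exists_of_app_g_eq_zero (U : Cᵒᵖ) (s : S.X₂.obj.obj U) (hs : S.g.hom.app U s = 0) :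
    ∃ a : S.X₁.obj.obj U, S.f.hom.app U a = s := by
  have := hS.mono_f
  let Φ : Sheaf J AddCommGrpCat.{u} ⥤ AddCommGrpCat.{u} :=
    sheafToPresheaf J AddCommGrpCat.{u} ⋙ (evaluation Cᵒᵖ AddCommGrpCat.{u}).obj U
  have hΦ : (S.map Φ).Exact :=
    hS.exact.map_of_mono_of_preservesKernel Φ inferInstance inferInstance
  exact (ShortComplex.ab_exact_iff _).1 hΦ s hs

end Exactness

section Fibre

variable (S : ShortComplex (Sheaf J AddCommGrpCat.{u}))
  (σ : GlobalSec ((sheafCompose J (forget AddCommGrpCat.{u})).obj S.X₃))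

/-- the underlying presheaf of sets of the middle term -/
abbrev F₂ : Cᵒᵖ ⥤ Type u := S.X₂.obj ⋙ forget AddCommGrpCat.{u}

lemma g_map {X Y : Cᵒᵖ} (i : X ⟶ Y) (s : S.X₂.obj.obj X) :
    S.g.hom.app Y (S.X₂.obj.map i s) = S.X₃.obj.map i (S.g.hom.app X s) :=
  ConcreteCategory.congr_hom (S.g.hom.naturality i) s

lemma f_map {X Y : Cᵒᵖ} (i : X ⟶ Y) (a : S.X₁.obj.obj X) :
    S.f.hom.app Y (S.X₁.obj.map i a) = S.X₂.obj.map i (S.f.hom.app X a) :=
  ConcreteCategory.congr_hom (S.f.hom.naturality i) a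

/-- the fibre of `X₂ ⟶ X₃` over the global section `σ` -/
def fibreSub : Subfunctor (F₂ S) where
  obj X := {s | S.g.hom.app X s = σ.s X}
  map {X Y} i s hs := by
    change S.g.hom.app Y (S.X₂.obj.map i s) = σ.s Y
    rw [g_map, show S.g.hom.app X s = σ.s X from hs]
    exact σ.compat i

lemma isSheaf_F₂ : Presieve.IsSheaf J (F₂ S) :=
  (isSheaf_iff_isSheaf_of_type J _).mp ((sheafCompose J (forget AddCommGrpCat.{u})).obj S.X₂).property

lemma isSheaf_F₃ : Presieve.IsSheaf J (S.X₃.obj ⋙ forget AddCommGrpCat.{u}) :=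
  (isSheaf_iff_isSheaf_of_type J _).mp ((sheafCompose J (forget AddCommGrpCat.{u})).obj S.X₃).property

/-- the fibre as a sheaf of sets -/
def fibreSheaf : Sheaf J (Type u) where
  obj := (fibreSub S σ).toFunctor
  property := by
    rw [isSheaf_iff_isSheaf_of_type]
    refine (Subfunctor.isSheaf_iff _ (isSheaf_F₂ S)).mpr ?_
    intro U s hs
    change S.g.hom.app U s = σ.s U
    refine ((isSheaf_F₃ S).isSeparated _ hs).ext ?_
    intro V f hf
    have h1 : S.g.hom.app (op V) (S.X₂.obj.map f.op s) = σ.s (op V) := hf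
    have h2 := g_map S f.op s
    exact h2.symm.trans (h1.trans (σ.compat f.op).symm)

variable {S} (hS : S.ShortExact)

/-- the fibre torsor -/
noncomputable def fibreTorsor : Tors.Torsor S.X₁ where
  P := fibreSheaf S σ
  vadd {U} a p := ⟨S.f.hom.app U a + p.1, by
    change S.g.hom.app U (S.f.hom.app U a + p.1) = σ.s U
    rw [map_add, app_g_app_f, zero_add]
    exact p.2⟩
  zero_vadd {U} p := by
    apply Subtype.ext
    change S.f.hom.app U 0 + p.1 = p.1
    rw [map_zero, zero_add]
  add_vadd {U} a b p := by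
    apply Subtype.ext
    change S.f.hom.app U (a + b) + p.1 = S.f.hom.app U a + (S.f.hom.app U b + p.1)
    rw [map_add, add_assoc]
  map_vadd {U V} f a p := by
    apply Subtype.ext
    change S.X₂.obj.map f (S.f.hom.app U a + p.1) =
      S.f.hom.app V (S.X₁.obj.map f a) + S.X₂.obj.map f p.1
    rw [map_add, f_map]
  free_transitive {U} p q := by
    obtain ⟨p', hp⟩ := p
    obtain ⟨q', hq⟩ := q
    let p₂ : S.X₂.obj.obj U := p'
    let q₂ : S.X₂.obj.obj U := q'
    have hp₂ : S.g.hom.app U p₂ = σ.s U := hp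
    have hq₂ : S.g.hom.app U q₂ = σ.s U := hq
    have hz : S.g.hom.app U (q₂ - p₂) = 0 := by
      rw [map_sub, hq₂, hp₂]
      exact sub_self _
    obtain ⟨a, ha⟩ := exists_of_app_g_eq_zero hS U _ hz
    refine ⟨a, ?_, ?_⟩
    · apply Subtype.ext
      change S.f.hom.app U a + p₂ = q₂
      rw [ha, sub_add_cancel]
    · intro b hb
      apply app_f_injective hS U
      have hb' : S.f.hom.app U b + p₂ = q₂ := congrArg Subtype.val hb
      rw [ha, ← hb', add_sub_cancel_right]
  locally_nonempty U := by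
    have := hS.epi_g
    have h1 : CategoryTheory.Sheaf.IsLocallySurjective S.g :=
      (CategoryTheory.Sheaf.isLocallySurjective_iff_epi' (φ := S.g)).2 inferInstance
    have h2 : Presheaf.IsLocallySurjective J S.g.hom := h1
    refine ⟨Presheaf.imageSieve S.g.hom (σ.s (op U)), Presheaf.imageSieve_mem J S.g.hom _, ?_⟩
    intro V f hf
    obtain ⟨t, ht⟩ := hf
    exact ⟨⟨t, ht.trans (σ.compat f.op)⟩⟩

end Fibre

open Abelian in
theorem subsingleton_H_one (G : Sheaf J AddCommGrpCat.{u})
    (h : ∀ T : Tors.Torsor G, T.HasSection) : Subsingleton (Sheaf.H.{u} G 1) := by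
  let S : ShortComplex (Sheaf J AddCommGrpCat.{u}) :=
    ShortComplex.mk (Injective.ι G) (cokernel.π (Injective.ι G)) (cokernel.condition _)
  have hS : S.ShortExact :=
    ShortComplex.ShortExact.mk' (ShortComplex.exact_cokernel _) inferInstance inferInstance
  have hlift : ∀ y : ModExt.constZ J ⟶ S.X₃, ∃ z : ModExt.constZ J ⟶ S.X₂, z ≫ S.g = y := by
    intro y
    let σ : GlobalSec ((sheafCompose J (forget AddCommGrpCat.{u})).obj S.X₃) :=
      ⟨fun X => (ModExt.constShHomEquiv J S.X₃ y).1 X,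
        fun f => (ModExt.constShHomEquiv J S.X₃ y).2 f⟩
    obtain ⟨φ⟩ := h (fibreTorsor σ hS)
    let g := GlobalSec.ofHom φ
    let fam : ((sheafToPresheaf J AddCommGrpCat.{u}).obj S.X₂ ⋙
        forget AddCommGrpCat.{u}).sections :=
      ⟨fun X => (g.s X).1, fun {X Y} f => congrArg Subtype.val (g.compat f)⟩
    refine ⟨(ModExt.constShHomEquiv J S.X₂).symm fam, ?_⟩
    apply (ModExt.constShHomEquiv J S.X₃).injective
    apply Subtype.ext
    funext X
    rw [ModExt.constShHomEquiv_naturality, Equiv.apply_symm_apply]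
    exact (g.s X).2
  refine ⟨fun x x' => ?_⟩
  have key : ∀ x : Ext.{u} (ModExt.constZ J) S.X₁ 1, x = 0 := fun x =>
    ConstSh.ext_one_eq_zero_of_lift hS (ModExt.constZ J) hlift x (Ext.eq_zero_of_injective _)
  exact (key x).trans (key x').symm

end Groth.Agent.Lib.Helper53.TorsFibre
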