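import Groth.Agent.Lib.Helper68.Adapted
import Groth.Agent.S6786
import Groth.Agent.Lib.Helper53.LocData
import Groth.Agent.Lib.Helper53.RlimAbs
import Groth.Agent.Lib.Helper53.HomShf
import Mathlib.CategoryTheory.Abelian.FunctorCategory
import Mathlib.CategoryTheory.CofilteredSystem
import Mathlib.Algebra.Homology.ShortComplex.Ab

/-!
# Right derived functors of `lim` on towers in a sheaf-like abelian category (helper53)

`𝒜` an abelian category with abstract local data `D : LocData C J 𝒜` (test objects `T U`, sections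
functor).  For a generating class `B` of objects of the site, towers `X : ℕᵒᵖ ⥤ 𝒜` which are
`B`-acyclic (`Ext^{i+1}(T_U, X_n) = 0`) with surjective transition maps on sections over `U ∈ B` form
an adapted class for `lim` (helper68's criterion).  Consequences: `R^i lim = 0` for `i ≥ 2` on
`B`-acyclic towers, and for `i ≥ 1` under Mittag-Leffler on sections.
-/

set_option autoImplicit false
universe u
open CategoryTheory Limits Abelian Opposite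

namespace Groth.Agent.Lib.Helper53.TowerAdapted

open Groth.Agent.Lib.Helper53.LocData Groth.Agent.Lib.Helper53.RlimAbs

variable {C : Type u} [SmallCategory C] {J : GrothendieckTopology C}
  {𝒜 : Type (u + 1)} [Category.{u} 𝒜] [Abelian 𝒜] [HasExt.{u} 𝒜] (D : LocData C J 𝒜)

/-- sections over `U` -/
noncomputable abbrev G (U : C) : 𝒜 ⥤ AddCommGrpCat.{u} :=
  D.Γ ⋙ sheafToPresheaf J AddCommGrpCat.{u} ⋙ (evaluation Cᵒᵖ AddCommGrpCat.{u}).obj (op U)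

lemma sec_surjective {S : ShortComplex 𝒜} (hS : S.ShortExact) (U : C)
    (h : Subsingleton (Ext.{u} (D.T U) S.X₁ 1)) :
    Function.Surjective ((G D U).map S.g).hom := by
  intro y
  obtain ⟨s, hs⟩ := liftsOn_of_ext_one hS (D.T U) h ((D.sec U S.X₃).symm y)
  refine ⟨D.sec U S.X₂ s, ?_⟩
  have := D.sec_right U S.g s
  rw [hs, AddEquiv.apply_symm_apply] at this
  exact this.symm

variable (B : Set C)

/-- `B`-acyclic towers -/
def Acy (X : ℕᵒᵖ ⥤ 𝒜) : Prop :=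
  ∀ U ∈ B, ∀ (n : ℕᵒᵖ) (i : ℕ), Subsingleton (Ext.{u} (D.T U) (X.obj n) (i + 1))

/-- towers with surjective transition maps on sections over members of `B` -/
def Sur (X : ℕᵒᵖ ⥤ 𝒜) : Prop :=
  ∀ U ∈ B, ∀ ⦃i j : ℕᵒᵖ⦄ (f : i ⟶ j), Function.Surjective ((G D U).map (X.map f)).hom

/-- the adapted class -/
def Cls : ObjectProperty (ℕᵒᵖ ⥤ 𝒜) := fun X => Acy D B X ∧ Sur D B X

variable {D B}

lemma shortExact_app {S : ShortComplex (ℕᵒᵖ ⥤ 𝒜)} (hS : S.ShortExact) (n : ℕᵒᵖ) :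
    (S.map ((evaluation ℕᵒᵖ 𝒜).obj n)).ShortExact :=
  hS.map_of_exact _

lemma acy_X₃ {S : ShortComplex (ℕᵒᵖ ⥤ 𝒜)} (hS : S.ShortExact) (h₁ : Acy D B S.X₁)
    (h₂ : Acy D B S.X₂) : Acy D B S.X₃ := by
  intro U hU n i
  have hSn := shortExact_app hS n
  have key : ∀ x : Ext.{u} (D.T U) (S.X₃.obj n) (i + 1), x = 0 := by
    intro x
    have h0 : x.comp hSn.extClass rfl = 0 := (h₁ U hU n (i + 1)).elim _ _
    obtain ⟨x₂, hx₂⟩ := Ext.covariant_sequence_exact₃ _ hSn x rfl h0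
    have hx₂0 : x₂ = 0 := (h₂ U hU n i).elim _ _
    rw [← hx₂, hx₂0]
    exact Ext.zero_comp (D.T U) (i + 1) (Ext.mk₀ (S.map ((evaluation ℕᵒᵖ 𝒜).obj n)).g) _ _
  exact ⟨fun a b => by rw [key a, key b]⟩

lemma sur_X₃ {S : ShortComplex (ℕᵒᵖ ⥤ 𝒜)} (hS : S.ShortExact) (h₁ : Acy D B S.X₁)
    (h₂ : Sur D B S.X₂) : Sur D B S.X₃ := by
  intro U hU i j f z
  have hSj := shortExact_app hS j
  obtain ⟨y, rfl⟩ := sec_surjective D hSj U (h₁ U hU j 0) z
  obtain ⟨x, rfl⟩ := h₂ U hU f y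
  refine ⟨((G D U).map (S.g.app i)).hom x, ?_⟩
  have h1 : (G D U).map (S.g.app i) ≫ (G D U).map (S.X₃.map f) =
      (G D U).map (S.X₂.map f) ≫ (G D U).map (S.g.app j) := by
    rw [← Functor.map_comp, ← Functor.map_comp, S.g.naturality f]
  exact ConcreteCategory.congr_hom h1 x

section Lim

variable [HasLimitsOfShape ℕᵒᵖ 𝒜]

omit [Abelian 𝒜] [HasExt.{u} 𝒜] in
/-- comparison of sections of a limit with the limit of sections -/
lemma map_limMap_comp (F : 𝒜 ⥤ AddCommGrpCat.{u}) [PreservesLimitsOfShape ℕᵒᵖ F]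
    {X Y : ℕᵒᵖ ⥤ 𝒜} (g : X ⟶ Y) :
    F.map (limMap g) ≫ (preservesLimitIso F Y).hom =
      (preservesLimitIso F X).hom ≫ limMap (Functor.whiskerRight g F) := by
  apply limit.hom_ext
  intro j
  rw [Category.assoc, preservesLimitIso_hom_π, Category.assoc, limMap_π,
    preservesLimitIso_hom_π_assoc, ← Functor.map_comp, limMap_π, Functor.map_comp]
  rfl

variable (D) in
theorem limMap_sections_surjective {S : ShortComplex (ℕᵒᵖ ⥤ 𝒜)} (hS : S.ShortExact) (U : C)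
    [PreservesLimitsOfShape ℕᵒᵖ (G D U)] [PreservesFiniteLimits (G D U)]
    [(G D U).PreservesZeroMorphisms]
    (hex : ∀ n, Subsingleton (Ext.{u} (D.T U) (S.X₁.obj n) 1))
    (hML : ((S.X₁ ⋙ G D U) ⋙ forget AddCommGrpCat).IsMittagLeffler) :
    Function.Surjective ((G D U).map (limMap S.g)).hom := by
  let a : S.X₁ ⋙ G D U ⟶ S.X₂ ⋙ G D U := Functor.whiskerRight S.f (G D U)
  let b : S.X₂ ⋙ G D U ⟶ S.X₃ ⋙ G D U := Functor.whiskerRight S.g (G D U)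
  have hB : ∀ i, (b.app i).hom.ker = (a.app i).hom.range := by
    intro i
    have hSi := shortExact_app hS i
    have hex' : ((S.map ((evaluation ℕᵒᵖ 𝒜).obj i)).map (G D U)).Exact :=
      hSi.exact.map_of_mono_of_preservesKernel (G D U) hSi.mono_f inferInstance
    exact (ShortComplex.ab_exact_iff_range_eq_ker.1 hex').symm
  have hC : ∀ i, ((0 : S.X₃ ⋙ G D U ⟶ S.X₃ ⋙ G D U).app i).hom.ker = (b.app i).hom.range := by
    intro i
    have hg : Function.Surjective (b.app i).hom :=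
      sec_surjective D (shortExact_app hS i) U (hex i)
    rw [AddMonoidHom.range_eq_top.2 hg]
    ext x
    simp
  have key := Groth.Agent.S6786.result a b (0 : S.X₃ ⋙ G D U ⟶ S.X₃ ⋙ G D U) hB hC hML
  have hsurj : Function.Surjective (limMap b).hom := by
    intro z
    have hz : z ∈ (limMap (0 : S.X₃ ⋙ G D U ⟶ S.X₃ ⋙ G D U)).hom.ker := by
      rw [AddMonoidHom.mem_ker]
      have h0 : limMap (0 : S.X₃ ⋙ G D U ⟶ S.X₃ ⋙ G D U) = 0 := by
        apply limit.hom_ext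
        intro j
        rw [limMap_π, zero_comp, NatTrans.app_zero, comp_zero]
      rw [h0]
      rfl
    rw [key] at hz
    exact hz
  intro z
  obtain ⟨y', hy'⟩ := hsurj ((preservesLimitIso (G D U) S.X₃).hom.hom z)
  refine ⟨(preservesLimitIso (G D U) S.X₂).inv.hom y', ?_⟩
  have h1 := map_limMap_comp (G D U) S.g
  have h2 : (preservesLimitIso (G D U) S.X₂).inv ≫ (G D U).map (limMap S.g) =
      limMap b ≫ (preservesLimitIso (G D U) S.X₃).inv := by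
    rw [Iso.inv_comp_eq, ← Category.assoc, ← h1, Category.assoc, Iso.hom_inv_id, Category.comp_id]
  have h3 := ConcreteCategory.congr_hom h2 y'
  have h4 : (limMap b).hom y' = (preservesLimitIso (G D U) S.X₃).hom.hom z := hy'
  have h5 := ConcreteCategory.congr_hom (preservesLimitIso (G D U) S.X₃).hom_inv_id z
  refine Eq.trans h3 ?_
  refine Eq.trans ?_ h5
  show (preservesLimitIso (G D U) S.X₃).inv.hom ((limMap b).hom y') = _
  rw [h4]
  rfl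

end Lim

section Big

variable [EnoughInjectives 𝒜] (X : ℕᵒᵖ ⥤ 𝒜)

omit [HasExt.{u} 𝒜] in
lemma injective_pi {β : Type*} (c : β → 𝒜) [HasProduct c] [∀ b, Injective (c b)] :
    Injective (∏ᶜ c) where
  factors g f mono := by
    refine ⟨Pi.lift fun b => Injective.factorThru (g ≫ Pi.π c _) f, ?_⟩
    apply Limits.Pi.hom_ext
    intro b
    simp only [Category.assoc, Pi.lift_π, Injective.comp_factorThru]

/-- injective envelopes of the terms -/
noncomputable abbrev Jn (m : ℕ) : 𝒜 := Injective.under (X.obj (op m))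

/-- `∏_{m ≤ n} J_m` -/
noncomputable abbrev bigObj (n : ℕ) : 𝒜 := ∏ᶜ (fun m : Fin (n + 1) => Jn X m.val)

/-- the projection `∏_{m ≤ n} J_m ⟶ ∏_{m ≤ n'} J_m` -/
noncomputable def bigMap {n n' : ℕ} (h : n' ≤ n) : bigObj X n ⟶ bigObj X n' :=
  Pi.lift (fun m' : Fin (n' + 1) =>
    Pi.π (fun m : Fin (n + 1) => Jn X m.val) (Fin.castLE (by omega) m'))

omit [HasExt.{u} 𝒜] in
lemma bigMap_π {n n' : ℕ} (h : n' ≤ n) (m' : Fin (n' + 1)) :
    bigMap X h ≫ Pi.π (fun m : Fin (n' + 1) => Jn X m.val) m' =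
      Pi.π (fun m : Fin (n + 1) => Jn X m.val) (Fin.castLE (by omega) m') := by
  unfold bigMap
  exact Pi.lift_π _ m'

/-- the tower `n ↦ ∏_{m ≤ n} J_m` -/
noncomputable def big : ℕᵒᵖ ⥤ 𝒜 where
  obj n := bigObj X n.unop
  map f := bigMap X (leOfHom f.unop)
  map_id n := by
    apply Limits.Pi.hom_ext
    intro m
    rw [bigMap_π, Category.id_comp]
    rfl
  map_comp f g := by
    apply Limits.Pi.hom_ext
    intro m
    rw [Category.assoc, bigMap_π, bigMap_π, bigMap_π]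
    rfl

/-- components of the embedding `X ⟶ big X` -/
noncomputable def toBigApp (n : ℕ) : X.obj (op n) ⟶ bigObj X n :=
  Pi.lift (fun m : Fin (n + 1) =>
    X.map (homOfLE (Nat.lt_succ_iff.mp m.isLt)).op ≫ Injective.ι (X.obj (op m.val)))

omit [HasExt.{u} 𝒜] in
lemma toBigApp_π (n : ℕ) (m : Fin (n + 1)) :
    toBigApp X n ≫ Pi.π (fun m : Fin (n + 1) => Jn X m.val) m =
      X.map (homOfLE (Nat.lt_succ_iff.mp m.isLt)).op ≫ Injective.ι (X.obj (op m.val)) := by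
  unfold toBigApp
  exact Pi.lift_π _ m

/-- the embedding `X ⟶ big X` -/
noncomputable def toBig : X ⟶ big X where
  app n := toBigApp X n.unop
  naturality n n' f := by
    show X.map f ≫ toBigApp X n'.unop = toBigApp X n.unop ≫ bigMap X (leOfHom f.unop)
    apply Limits.Pi.hom_ext
    intro m
    rw [Category.assoc, Category.assoc, bigMap_π, toBigApp_π, toBigApp_π, ← Category.assoc,
      ← X.map_comp]
    rfl

omit [HasExt.{u} 𝒜] in
lemma mono_toBig : Mono (toBig X) := by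
  haveI : ∀ n, Mono ((toBig X).app n) := fun n => by
    have h : (toBig X).app n ≫ Pi.π (fun m : Fin (n.unop + 1) => Jn X m.val) (Fin.last n.unop) =
        Injective.ι (X.obj n) := by
      show toBigApp X n.unop ≫ Pi.π _ _ = _
      rw [toBigApp_π]
      have : (homOfLE (Nat.lt_succ_iff.mp (Fin.last n.unop).isLt)).op = 𝟙 n := rfl
      rw [this, X.map_id, Category.id_comp]
      rfl
    exact mono_of_mono_fac h
  exact NatTrans.mono_of_mono_app _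

/-- a section of the projection -/
noncomputable def bigSec {n n' : ℕ} (h : n' ≤ n) : bigObj X n' ⟶ bigObj X n :=
  Pi.lift (fun m : Fin (n + 1) =>
    if hm : m.val ≤ n' then
      Pi.π (fun m : Fin (n' + 1) => Jn X m.val) ⟨m.val, Nat.lt_succ_of_le hm⟩
    else 0)

omit [HasExt.{u} 𝒜] in
lemma bigSec_bigMap {n n' : ℕ} (h : n' ≤ n) : bigSec X h ≫ bigMap X h = 𝟙 _ := by
  apply Limits.Pi.hom_ext
  intro m'
  rw [Category.assoc, bigMap_π, Category.id_comp, bigSec, Pi.lift_π]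
  have hm : (Fin.castLE (by omega : n' + 1 ≤ n + 1) m').val ≤ n' := Nat.lt_succ_iff.mp m'.isLt
  rw [dif_pos hm]
  rfl

variable (D B) in
lemma cls_big : Cls D B (big X) := by
  constructor
  · intro U hU n i
    haveI : Injective ((big X).obj n) :=
      injective_pi (fun m : Fin (n.unop + 1) => Jn X m.val)
    exact ⟨fun a b => by rw [Ext.eq_zero_of_injective a, Ext.eq_zero_of_injective b]⟩
  · intro U hU i j f y
    refine ⟨((G D U).map (bigSec X (leOfHom f.unop))).hom y, ?_⟩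
    have h1 : (G D U).map (bigSec X (leOfHom f.unop)) ≫
        (G D U).map (bigMap X (leOfHom f.unop)) = 𝟙 _ := by
      rw [← Functor.map_comp, bigSec_bigMap, CategoryTheory.Functor.map_id]
    exact ConcreteCategory.congr_hom h1 y

end Big

section Main

open Groth.Agent.Lib.Helper68

variable [HasLimitsOfShape ℕᵒᵖ 𝒜]
  (hB : ∀ U : C, ∃ (ι : Type u) (Y : ι → C) (f : ∀ i, Y i ⟶ U),
    Sieve.ofArrows Y f ∈ J U ∧ ∀ i, Y i ∈ B)
  (hG₁ : ∀ U, PreservesLimitsOfShape ℕᵒᵖ (G D U)) (hG₂ : ∀ U, PreservesFiniteLimits (G D U))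
  (hG₃ : ∀ U, (G D U).PreservesZeroMorphisms)

include hB hG₁ hG₂ hG₃ in
lemma epi_limMap {S : ShortComplex (ℕᵒᵖ ⥤ 𝒜)} (hS : S.ShortExact)
    (hex : ∀ U ∈ B, ∀ n, Subsingleton (Ext.{u} (D.T U) (S.X₁.obj n) 1))
    (hML : ∀ U ∈ B, ((S.X₁ ⋙ G D U) ⋙ forget AddCommGrpCat).IsMittagLeffler) :
    Epi (limMap S.g) := by
  apply D.epi_of_locSurj
  refine HomShf.isLocallySurjective_of_basis (D.Γ.map (limMap S.g)).hom B hB ?_
  intro U hU
  haveI := hG₁ U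
  haveI := hG₂ U
  haveI := hG₃ U
  exact limMap_sections_surjective D hS U (hex U hU) (hML U hU)

variable [(lim : (ℕᵒᵖ ⥤ 𝒜) ⥤ 𝒜).Additive]

include hB hG₁ hG₂ hG₃ in
theorem closure (S : ShortComplex (ℕᵒᵖ ⥤ 𝒜)) (hS : S.ShortExact) (h₁ : Cls D B S.X₁)
    (h₂ : Cls D B S.X₂) :
    Cls D B S.X₃ ∧ (S.map (lim : (ℕᵒᵖ ⥤ 𝒜) ⥤ 𝒜)).ShortExact := by
  refine ⟨⟨acy_X₃ hS h₁.1 h₂.1, sur_X₃ hS h₁.1 h₂.2⟩, ?_⟩
  haveI : PreservesLimitsOfSize.{0, 0} (lim : (ℕᵒᵖ ⥤ 𝒜) ⥤ 𝒜) :=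
    constLimAdj.rightAdjoint_preservesLimits
  have := hS.mono_f
  have hmono : Mono ((lim : (ℕᵒᵖ ⥤ 𝒜) ⥤ 𝒜).map S.f) := inferInstance
  have hepi : Epi ((lim : (ℕᵒᵖ ⥤ 𝒜) ⥤ 𝒜).map S.g) :=
    epi_limMap hB hG₁ hG₂ hG₃ hS (fun U hU n => h₁.1 U hU n 0)
      (fun U hU => Functor.isMittagLeffler_of_surjective _ (fun i j f => h₁.2 U hU f))
  exact
    { exact := hS.exact.map_of_mono_of_preservesKernel _ hS.mono_f inferInstance
      mono_f := hmono
      epi_g := hepi }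

variable [EnoughInjectives 𝒜] [EnoughInjectives (ℕᵒᵖ ⥤ 𝒜)]

include hB hG₁ hG₂ hG₃ in
theorem cls_acyclic (X : ℕᵒᵖ ⥤ 𝒜) (hX : Cls D B X) :
    IsIso ((lim : (ℕᵒᵖ ⥤ 𝒜) ⥤ 𝒜).toRightDerivedZero.app X) ∧
      ∀ i : ℕ, 0 < i → IsZero (((lim : (ℕᵒᵖ ⥤ 𝒜) ⥤ 𝒜).rightDerived i).obj X) :=
  Adapted.acyclic (lim : (ℕᵒᵖ ⥤ 𝒜) ⥤ 𝒜) (Cls D B)
    (fun X => ⟨big X, toBig X, cls_big D B X, mono_toBig X⟩)
    (fun S hS h₁ h₂ => closure hB hG₁ hG₂ hG₃ S hS h₁ h₂) hX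

include hB hG₁ hG₂ hG₃ in
/-- `R^i lim = 0` for `i ≥ 2` on `B`-acyclic towers -/
theorem isZero_rightDerived_lim (E : ℕᵒᵖ ⥤ 𝒜) (hE : Acy D B E) (i : ℕ) (hi : 2 ≤ i) :
    IsZero (((lim : (ℕᵒᵖ ⥤ 𝒜) ⥤ 𝒜).rightDerived i).obj E) := by
  have := mono_toBig E
  let S : ShortComplex (ℕᵒᵖ ⥤ 𝒜) := ShortComplex.cokernelSequence (toBig E)
  have hS : S.ShortExact :=
    ShortComplex.ShortExact.mk' (ShortComplex.cokernelSequence_exact _)
      (show Mono (toBig E) from inferInstance)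
      (show Epi (cokernel.π (toBig E)) from inferInstance)
  have hP : Cls D B S.X₂ := cls_big D B E
  have hQ : Cls D B S.X₃ := ⟨acy_X₃ hS hE hP.1, sur_X₃ hS hE hP.2⟩
  obtain ⟨j, rfl⟩ : ∃ j, i = j + 1 + 1 := ⟨i - 2, by omega⟩
  have h2 := (cls_acyclic hB hG₁ hG₂ hG₃ S.X₂ hP).2 (j + 1 + 1) (by omega)
  have h3 := (cls_acyclic hB hG₁ hG₂ hG₃ S.X₃ hQ).2 (j + 1) (by omega)
  have hδe : Epi (RightDerivedLES.δ (lim : (ℕᵒᵖ ⥤ 𝒜) ⥤ 𝒜) hS (j + 1)) :=
    RightDerivedLES.epi_δ _ hS (j + 1) h2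
  exact @IsZero.of_epi_eq_zero _ _ _ _ _ _ hδe (h3.eq_of_src _ 0)

include hB hG₁ hG₂ hG₃ in
/-- `R^i lim = 0` for `i ≥ 1` on `B`-acyclic towers which are Mittag-Leffler on sections -/
theorem isZero_rightDerived_lim_of_mittagLeffler (E : ℕᵒᵖ ⥤ 𝒜) (hE : Acy D B E)
    (hML : ∀ U ∈ B, ((E ⋙ G D U) ⋙ forget AddCommGrpCat).IsMittagLeffler)
    (i : ℕ) (hi : 1 ≤ i) :
    IsZero (((lim : (ℕᵒᵖ ⥤ 𝒜) ⥤ 𝒜).rightDerived i).obj E) := by
  by_cases h2 : 2 ≤ i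
  · exact isZero_rightDerived_lim hB hG₁ hG₂ hG₃ E hE i h2
  obtain rfl : i = 0 + 1 := by omega
  have := mono_toBig E
  let S : ShortComplex (ℕᵒᵖ ⥤ 𝒜) := ShortComplex.cokernelSequence (toBig E)
  have hS : S.ShortExact :=
    ShortComplex.ShortExact.mk' (ShortComplex.cokernelSequence_exact _)
      (show Mono (toBig E) from inferInstance)
      (show Epi (cokernel.π (toBig E)) from inferInstance)
  have hP : Cls D B S.X₂ := cls_big D B E
  have hQ : Cls D B S.X₃ := ⟨acy_X₃ hS hE hP.1, sur_X₃ hS hE hP.2⟩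
  obtain ⟨isoP, accP⟩ := cls_acyclic hB hG₁ hG₂ hG₃ S.X₂ hP
  obtain ⟨isoQ, accQ⟩ := cls_acyclic hB hG₁ hG₂ hG₃ S.X₃ hQ
  have hδe : Epi (RightDerivedLES.δ (lim : (ℕᵒᵖ ⥤ 𝒜) ⥤ 𝒜) hS 0) :=
    RightDerivedLES.epi_δ _ hS 0 (accP 1 one_pos)
  have hepi : Epi ((lim : (ℕᵒᵖ ⥤ 𝒜) ⥤ 𝒜).map S.g) :=
    epi_limMap hB hG₁ hG₂ hG₃ hS (fun U hU n => hE U hU n 0) hML
  have hnat := (lim : (ℕᵒᵖ ⥤ 𝒜) ⥤ 𝒜).toRightDerivedZero.naturality S.g
  have hepi' : Epi (((lim : (ℕᵒᵖ ⥤ 𝒜) ⥤ 𝒜).rightDerived 0).map S.g) := by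
    haveI : Epi ((lim : (ℕᵒᵖ ⥤ 𝒜) ⥤ 𝒜).toRightDerivedZero.app S.X₂ ≫
        ((lim : (ℕᵒᵖ ⥤ 𝒜) ⥤ 𝒜).rightDerived 0).map S.g) := by
      rw [← hnat]
      infer_instance
    exact epi_of_epi ((lim : (ℕᵒᵖ ⥤ 𝒜) ⥤ 𝒜).toRightDerivedZero.app S.X₂) _
  have hδ0 : RightDerivedLES.δ (lim : (ℕᵒᵖ ⥤ 𝒜) ⥤ 𝒜) hS 0 = 0 := by
    rw [← cancel_epi (((lim : (ℕᵒᵖ ⥤ 𝒜) ⥤ 𝒜).rightDerived 0).map S.g),
      RightDerivedLES.map_g_δ, comp_zero]
  exact @IsZero.of_epi_eq_zero _ _ _ _ _ _ hδe hδ0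

end Main

end Groth.Agent.Lib.Helper53.TowerAdapted
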