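import Groth.Agent.Lib.Helper13.MLLimHomology
import Groth.Prelude.Def_CohCx

/-!
# Homology of a "limit" of a tower of complexes of abelian groups (helper53)

`K n` a tower of cochain complexes of abelian groups with transition maps `t n`, `Λ` a complex with
compatible maps `p n : Λ ⟶ K n` which is termwise a limit in the relevant degrees.  If `R¹lim` of
the terms in degrees `m-2`, `m-1` and of `H^{m-1}` vanish and `H^m(K (n+1)) → H^m(K n)` is bijective
for `n ≥ n₀`, then `H^m(Λ) → H^m(K n₀)` is bijective.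
-/

set_option autoImplicit false
universe u

namespace Groth.Agent.Lib.Helper53.TowerHom

open CategoryTheory Limits HomologicalComplex
open Groth.Agent.Lib.Helper13.MLLimHomology

section Ext
variable {G : ℕ → Type*} (τ : ∀ n, G (n + 1) → G n) (n₀ : ℕ) (y : ∀ d, G (n₀ + d))

/-- extension of a family on the tail of a tower to the whole tower -/
noncomputable def extDown (n : ℕ) : G n :=
  if h : n₀ ≤ n then (Nat.add_sub_cancel' h) ▸ y (n - n₀) else τ n (extDown (n + 1))
termination_by n₀ - n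
decreasing_by omega

lemma cast_y {a d : ℕ} (e : a = d) (h' : n₀ + a = n₀ + d) : h' ▸ y a = y d := by
  subst e
  rfl

lemma extDown_tail (d : ℕ) : extDown τ n₀ y (n₀ + d) = y d := by
  rw [extDown, dif_pos (Nat.le_add_right _ _)]
  exact cast_y n₀ y (Nat.add_sub_cancel_left n₀ d) _

lemma extDown_lt (n : ℕ) (h : ¬ n₀ ≤ n) : extDown τ n₀ y n = τ n (extDown τ n₀ y (n + 1)) := by
  rw [extDown, dif_neg h]

lemma extDown_compat (hy : ∀ d, τ (n₀ + d) (y (d + 1)) = y d) (n : ℕ) :
    τ n (extDown τ n₀ y (n + 1)) = extDown τ n₀ y n := by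
  by_cases h : n₀ ≤ n
  · obtain ⟨d, rfl⟩ := Nat.exists_eq_add_of_le h
    have h1 : extDown τ n₀ y (n₀ + d + 1) = y (d + 1) := extDown_tail τ n₀ y (d + 1)
    rw [h1, extDown_tail, hy]
  · exact (extDown_lt τ n₀ y n h).symm

end Ext

variable (K : ℕ → CochainComplex AddCommGrpCat.{u} ℤ) (t : ∀ n, K (n + 1) ⟶ K n)

/-- vanishing of `R¹lim` of the cycles -/
lemma limOne_cycles (m1 m2 : ℤ) (h21 : m2 + 1 = m1)
    (ha2 : CohCx.LimOneIsZero (fun n => (K n).X m2) (fun n => ((t n).f m2).hom))
    (hb : CohCx.LimOneIsZero (fun n => (K n).homology m1)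
      (fun n => (homologyMap (t n) m1).hom))
    (ε : ∀ n, (K n).cycles m1) :
    ∃ c : ∀ n, (K n).cycles m1, ∀ n, c n - (cyclesMap (t n) m1).hom (c (n + 1)) = ε n := by
  obtain ⟨h, hh⟩ := hb (fun n => ((K n).homologyπ m1).hom (ε n))
  have hh' : ∀ n, h n - (homologyMap (t n) m1).hom (h (n + 1)) =
      ((K n).homologyπ m1).hom (ε n) := fun n => congrFun hh n
  choose c' hc' using fun n => homologyπ_surjective (K n) m1 (h n)
  have key : ∀ n, ∃ u : (K n).X m2, ((K n).toCycles m2 m1).hom u =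
      ε n - (c' n - (cyclesMap (t n) m1).hom (c' (n + 1))) := by
    intro n
    have h0 : ε n - (c' n - (cyclesMap (t n) m1).hom (c' (n + 1))) ∈
        ((K n).homologyπ m1).hom.ker := by
      rw [AddMonoidHom.mem_ker, map_sub, map_sub, homologyπ_cyclesMap_apply, hc', hc', hh',
        sub_self]
    rw [ker_homologyπ (K n) m2 m1 h21] at h0
    exact h0
  choose u hu using key
  obtain ⟨v, hv⟩ := ha2 u
  have hv' : ∀ n, v n - ((t n).f m2).hom (v (n + 1)) = u n := fun n => congrFun hv n
  refine ⟨fun n => c' n + ((K n).toCycles m2 m1).hom (v n), fun n => ?_⟩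
  show c' n + ((K n).toCycles m2 m1).hom (v n) -
    (cyclesMap (t n) m1).hom (c' (n + 1) + ((K (n + 1)).toCycles m2 m1).hom (v (n + 1))) = ε n
  rw [map_add, toCycles_cyclesMap_apply]
  have h1 : ((K n).toCycles m2 m1).hom (v n) -
      ((K n).toCycles m2 m1).hom (((t n).f m2).hom (v (n + 1))) =
      ε n - (c' n - (cyclesMap (t n) m1).hom (c' (n + 1))) := by
    rw [← map_sub, hv', hu]
  have h2 : c' n + ((K n).toCycles m2 m1).hom (v n) -
      ((cyclesMap (t n) m1).hom (c' (n + 1)) +
        ((K n).toCycles m2 m1).hom (((t n).f m2).hom (v (n + 1)))) =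
      (c' n - (cyclesMap (t n) m1).hom (c' (n + 1))) +
      (((K n).toCycles m2 m1).hom (v n) -
        ((K n).toCycles m2 m1).hom (((t n).f m2).hom (v (n + 1)))) := by abel
  rw [h2, h1]
  abel

variable (Λ : CochainComplex AddCommGrpCat.{u} ℤ) (p : ∀ n, Λ ⟶ K n)
  (hp : ∀ n, p (n + 1) ≫ t n = p n)

include hp in
lemma cyclesMap_p (m : ℤ) (n : ℕ) (z : Λ.cycles m) :
    (cyclesMap (t n) m).hom ((cyclesMap (p (n + 1)) m).hom z) = (cyclesMap (p n) m).hom z := by
  rw [← hp n, cyclesMap_comp]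
  rfl

include hp in
lemma p_f (j : ℤ) (n : ℕ) (x : Λ.X j) :
    ((t n).f j).hom (((p (n + 1)).f j).hom x) = ((p n).f j).hom x := by
  rw [← hp n]
  rfl

include hp in
theorem homologyMap_injective (m m1 m2 : ℤ) (h10 : m1 + 1 = m) (h21 : m2 + 1 = m1) (n₀ : ℕ)
    (hex1 : ∀ x : ∀ n, (K n).X m1, (∀ n, ((t n).f m1).hom (x (n + 1)) = x n) →
      ∃ l : Λ.X m1, ∀ n, ((p n).f m1).hom l = x n)
    (hinj0 : ∀ l : Λ.X m, (∀ n, ((p n).f m).hom l = 0) → l = 0)
    (ha2 : CohCx.LimOneIsZero (fun n => (K n).X m2) (fun n => ((t n).f m2).hom))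
    (hb : CohCx.LimOneIsZero (fun n => (K n).homology m1)
      (fun n => (homologyMap (t n) m1).hom))
    (hc : ∀ n, n₀ ≤ n → Function.Injective (homologyMap (t n) m).hom) :
    Function.Injective (homologyMap (p n₀) m).hom := by
  rw [injective_iff_map_eq_zero]
  intro h hh
  obtain ⟨z, rfl⟩ := homologyπ_surjective Λ m h
  have hstep : ∀ n, ((K n).homologyπ m).hom ((cyclesMap (p n) m).hom z) =
      (homologyMap (t n) m).hom (((K (n + 1)).homologyπ m).hom ((cyclesMap (p (n + 1)) m).hom z)) := by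
    intro n
    rw [← homologyπ_cyclesMap_apply, cyclesMap_p K t Λ p hp]
  have hup : ∀ d, ((K (n₀ + d)).homologyπ m).hom ((cyclesMap (p (n₀ + d)) m).hom z) = 0 := by
    intro d
    induction d with
    | zero =>
      rw [homologyπ_cyclesMap_apply]
      exact hh
    | succ d ih =>
      apply hc (n₀ + d) (Nat.le_add_right _ _)
      rw [map_zero]
      have := hstep (n₀ + d)
      rw [ih] at this
      exact this.symm
  have hdown : ∀ e n, ((K (n + e)).homologyπ m).hom ((cyclesMap (p (n + e)) m).hom z) = 0 →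
      ((K n).homologyπ m).hom ((cyclesMap (p n) m).hom z) = 0 := by
    intro e
    induction e with
    | zero => intro n h; exact h
    | succ e ih =>
      intro n h
      apply ih n
      have h1 := hstep (n + e)
      have h2 : ((K (n + e + 1)).homologyπ m).hom ((cyclesMap (p (n + e + 1)) m).hom z) = 0 := h
      rw [h2, map_zero] at h1
      exact h1
  have hb0 : ∀ n, ((K n).homologyπ m).hom ((cyclesMap (p n) m).hom z) = 0 := by
    intro n
    apply hdown n₀ n
    have := hup n
    rw [Nat.add_comm] at this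
    exact this
  have hy : ∀ n, ∃ y : (K n).X m1, ((K n).toCycles m1 m).hom y = (cyclesMap (p n) m).hom z := by
    intro n
    have h0 : (cyclesMap (p n) m).hom z ∈ ((K n).homologyπ m).hom.ker := hb0 n
    rw [ker_homologyπ (K n) m1 m h10] at h0
    exact h0
  choose y hy using hy
  have he : ∀ n, ∃ ε : (K n).cycles m1,
      ((K n).iCycles m1).hom ε = y n - ((t n).f m1).hom (y (n + 1)) := by
    intro n
    have h0 : y n - ((t n).f m1).hom (y (n + 1)) ∈ ((K n).toCycles m1 m).hom.ker := by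
      rw [AddMonoidHom.mem_ker, map_sub, ← toCycles_cyclesMap_apply, hy, hy,
        cyclesMap_p K t Λ p hp, sub_self]
    rw [ker_toCycles (K n) m1 m h10] at h0
    exact h0
  choose ε hε using he
  obtain ⟨c, hc'⟩ := limOne_cycles K t m1 m2 h21 ha2 hb ε
  let y' : ∀ n, (K n).X m1 := fun n => y n - ((K n).iCycles m1).hom (c n)
  have hcompat : ∀ n, ((t n).f m1).hom (y' (n + 1)) = y' n := by
    intro n
    show ((t n).f m1).hom (y (n + 1) - ((K (n + 1)).iCycles m1).hom (c (n + 1))) =
      y n - ((K n).iCycles m1).hom (c n)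
    rw [map_sub, ← iCycles_cyclesMap_apply]
    have h1 : ((K n).iCycles m1).hom (c n) = ((K n).iCycles m1).hom (ε n) +
        ((K n).iCycles m1).hom ((cyclesMap (t n) m1).hom (c (n + 1))) := by
      rw [← map_add, ← hc' n, sub_add_cancel]
    rw [h1, hε]
    abel
  obtain ⟨l, hl⟩ := hex1 y' hcompat
  have hlz : (Λ.toCycles m1 m).hom l = z := by
    apply iCycles_injective Λ m
    rw [iCycles_toCycles_apply]
    apply sub_eq_zero.1
    apply hinj0
    intro n
    rw [map_sub, d_apply_comm, hl, ← iCycles_cyclesMap_apply, ← hy]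
    show ((K n).d m1 m).hom (y n - ((K n).iCycles m1).hom (c n)) -
      ((K n).iCycles m).hom (((K n).toCycles m1 m).hom (y n)) = 0
    rw [map_sub, d_iCycles_apply, iCycles_toCycles_apply, sub_zero, sub_self]
  rw [← hlz]
  exact ConcreteCategory.congr_hom (Λ.toCycles_comp_homologyπ m1 m) l

include hp in
theorem homologyMap_surjective (m m1 m' : ℤ) (h10 : m1 + 1 = m) (h01 : m + 1 = m') (n₀ : ℕ)
    (hex0 : ∀ x : ∀ n, (K n).X m, (∀ n, ((t n).f m).hom (x (n + 1)) = x n) →
      ∃ l : Λ.X m, ∀ n, ((p n).f m).hom l = x n)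
    (hinj1 : ∀ l : Λ.X m', (∀ n, ((p n).f m').hom l = 0) → l = 0)
    (ha1 : CohCx.LimOneIsZero (fun n => (K n).X m1) (fun n => ((t n).f m1).hom))
    (hc : ∀ n, n₀ ≤ n → Function.Surjective (homologyMap (t n) m).hom) :
    Function.Surjective (homologyMap (p n₀) m).hom := by
  intro g
  let a : ∀ d, (K (n₀ + d)).homology m := fun d =>
    Nat.rec (motive := fun d => (K (n₀ + d)).homology m) g
      (fun d ad => Classical.choose (hc (n₀ + d) (Nat.le_add_right _ _) ad)) d
  have ha_spec : ∀ d, (homologyMap (t (n₀ + d)) m).hom (a (d + 1)) = a d :=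
    fun d => Classical.choose_spec (hc (n₀ + d) (Nat.le_add_right _ _) (a d))
  let τ : ∀ n, (K (n + 1)).homology m → (K n).homology m :=
    fun n x => (homologyMap (t n) m).hom x
  let h : ∀ n, (K n).homology m := extDown (G := fun n => (K n).homology m) τ n₀ a
  have hcompat : ∀ n, (homologyMap (t n) m).hom (h (n + 1)) = h n :=
    extDown_compat (G := fun n => (K n).homology m) τ n₀ a ha_spec
  have htail : h n₀ = g := extDown_tail (G := fun n => (K n).homology m) τ n₀ a 0
  choose z' hz' using fun n => homologyπ_surjective (K n) m (h n)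
  have hu : ∀ n, ∃ u : (K n).X m1, ((K n).toCycles m1 m).hom u =
      z' n - (cyclesMap (t n) m).hom (z' (n + 1)) := by
    intro n
    have h0 : z' n - (cyclesMap (t n) m).hom (z' (n + 1)) ∈ ((K n).homologyπ m).hom.ker := by
      rw [AddMonoidHom.mem_ker, map_sub, homologyπ_cyclesMap_apply, hz', hz', hcompat, sub_self]
    rw [ker_homologyπ (K n) m1 m h10] at h0
    exact h0
  choose u hu using hu
  obtain ⟨v, hv⟩ := ha1 u
  have hv' : ∀ n, v n - ((t n).f m1).hom (v (n + 1)) = u n := fun n => congrFun hv n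
  let zc : ∀ n, (K n).cycles m := fun n => z' n - ((K n).toCycles m1 m).hom (v n)
  have hzc : ∀ n, (cyclesMap (t n) m).hom (zc (n + 1)) = zc n := by
    intro n
    show (cyclesMap (t n) m).hom (z' (n + 1) - ((K (n + 1)).toCycles m1 m).hom (v (n + 1))) =
      z' n - ((K n).toCycles m1 m).hom (v n)
    rw [map_sub, toCycles_cyclesMap_apply]
    have h1 : ((K n).toCycles m1 m).hom (v n) =
        ((K n).toCycles m1 m).hom (u n) +
          ((K n).toCycles m1 m).hom (((t n).f m1).hom (v (n + 1))) := by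
      rw [← map_add, ← hv' n, sub_add_cancel]
    rw [h1, hu]
    abel
  let x : ∀ n, (K n).X m := fun n => ((K n).iCycles m).hom (zc n)
  have hx : ∀ n, ((t n).f m).hom (x (n + 1)) = x n := by
    intro n
    show ((t n).f m).hom (((K (n + 1)).iCycles m).hom (zc (n + 1))) = ((K n).iCycles m).hom (zc n)
    rw [← iCycles_cyclesMap_apply, hzc]
  obtain ⟨l, hl⟩ := hex0 x hx
  have hdl : (Λ.d m m').hom l = 0 := by
    apply hinj1
    intro n
    rw [d_apply_comm, hl]
    exact d_iCycles_apply (K n) m m' (zc n)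
  obtain ⟨ζ, hζ⟩ := exists_cycles Λ m m' h01 l hdl
  refine ⟨(Λ.homologyπ m).hom ζ, ?_⟩
  rw [← homologyπ_cyclesMap_apply]
  have h1 : (cyclesMap (p n₀) m).hom ζ = zc n₀ := by
    apply iCycles_injective (K n₀) m
    rw [iCycles_cyclesMap_apply, hζ, hl]
  rw [h1]
  show ((K n₀).homologyπ m).hom (z' n₀ - ((K n₀).toCycles m1 m).hom (v n₀)) = g
  rw [map_sub, hz', htail]
  have h2 := ConcreteCategory.congr_hom ((K n₀).toCycles_comp_homologyπ m1 m) (v n₀)
  have h3 : ((K n₀).homologyπ m).hom (((K n₀).toCycles m1 m).hom (v n₀)) = 0 := h2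
  rw [h3, sub_zero]

end Groth.Agent.Lib.Helper53.TowerHom
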