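import Groth.Agent.Lib.Helper53.TowerHom
import Groth.Agent.Lib.Helper53.HomShf

/-!
# `H^m(lim F_n) → H^m(F_{n₀})` for towers of complexes of abelian sheaves on a site (helper53)
-/

set_option autoImplicit false
universe u

namespace Groth.Agent.Lib.Helper53.TowerShf

open CategoryTheory Limits HomologicalComplex Opposite

variable {C : Type u} [SmallCategory C] (J : GrothendieckTopology C)
  (F : ℕ → CochainComplex (Sheaf J AddCommGrpCat.{u}) ℤ) (t : ∀ n, F (n + 1) ⟶ F n) (m : ℤ)

/-- the statement on sections over a single object -/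
theorem isIso_sections (U : C) (n₀ : ℕ)
    (ha : ∀ j : ℤ, (j = m - 2 ∨ j = m - 1) →
      CohCx.LimOneIsZero (fun n => ((F n).X j).obj.obj (op U))
        (fun n => (((t n).f j).hom.app (op U)).hom))
    (hb : CohCx.LimOneIsZero
      (fun n => ((CohCx.sectCx J U).obj (F n)).homology (m - 1))
      (fun n => (HomologicalComplex.homologyMap ((CohCx.sectCx J U).map (t n)) (m - 1)).hom))
    (hc : ∀ k : ℕ, IsIso (HomologicalComplex.homologyMap
      ((CohCx.sectCx J U).map (CohCx.transition F t n₀ k)) m)) :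
    IsIso (HomologicalComplex.homologyMap
      ((CohCx.sectCx J U).map (limit.π (CohCx.opSequence F t) (op n₀))) m) := by
  let K : ℕ → CochainComplex AddCommGrpCat.{u} ℤ := fun n => (CohCx.sectCx J U).obj (F n)
  let tK : ∀ n, K (n + 1) ⟶ K n := fun n => (CohCx.sectCx J U).map (t n)
  let Λ : CochainComplex AddCommGrpCat.{u} ℤ :=
    (CohCx.sectCx J U).obj (limit (CohCx.opSequence F t))
  let p : ∀ n, Λ ⟶ K n := fun n =>
    (CohCx.sectCx J U).map (limit.π (CohCx.opSequence F t) (op n))
  have hp : ∀ n, p (n + 1) ≫ tK n = p n := by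
    intro n
    show (CohCx.sectCx J U).map _ ≫ (CohCx.sectCx J U).map _ = (CohCx.sectCx J U).map _
    rw [← Functor.map_comp]
    congr 1
    have h1 := limit.w (CohCx.opSequence F t) (homOfLE (Nat.le_add_right n 1)).op
    rw [Functor.ofOpSequence_map_homOfLE_succ] at h1
    exact h1
  -- step maps are isomorphisms on `H^m` from `n₀` on
  have hstep : ∀ k : ℕ, IsIso (homologyMap (tK (n₀ + k)) m) := by
    intro k
    have h1 : (CohCx.sectCx J U).map (CohCx.transition F t n₀ (k + 1)) =
        tK (n₀ + k) ≫ (CohCx.sectCx J U).map (CohCx.transition F t n₀ k) := by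
      show (CohCx.sectCx J U).map (t (n₀ + k) ≫ CohCx.transition F t n₀ k) = _
      rw [Functor.map_comp]
    have h2 := hc (k + 1)
    rw [h1, homologyMap_comp] at h2
    haveI := hc k
    exact IsIso.of_isIso_comp_right _
      (homologyMap ((CohCx.sectCx J U).map (CohCx.transition F t n₀ k)) m)
  have hbij : ∀ n, n₀ ≤ n → Function.Bijective (homologyMap (tK n) m).hom := by
    intro n hn
    obtain ⟨k, rfl⟩ := Nat.exists_eq_add_of_le hn
    exact (ConcreteCategory.isIso_iff_bijective _).1 (hstep k)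
  have hex : ∀ j : ℤ, ∀ x : ∀ n, (K n).X j, (∀ n, ((tK n).f j).hom (x (n + 1)) = x n) →
      ∃ l : Λ.X j, ∀ n, ((p n).f j).hom l = x n :=
    fun j x hx => HomShf.exists_section_limit J F t U j x hx
  have hinj : ∀ j : ℤ, ∀ l : Λ.X j, (∀ n, ((p n).f j).hom l = 0) → l = 0 :=
    fun j l hl => HomShf.section_limit_ext J F t U j l hl
  have hinjective := TowerHom.homologyMap_injective K tK Λ p hp m (m - 1) (m - 2) (by omega)
    (by omega) n₀ (hex (m - 1)) (hinj m) (ha (m - 2) (Or.inl rfl)) hb
    (fun n hn => (hbij n hn).1)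
  have hsurjective := TowerHom.homologyMap_surjective K tK Λ p hp m (m - 1) (m + 1) (by omega)
    rfl n₀ (hex m) (hinj (m + 1)) (ha (m - 1) (Or.inr rfl)) (fun n hn => (hbij n hn).2)
  exact (ConcreteCategory.isIso_iff_bijective _).2 ⟨hinjective, hsurjective⟩

theorem main (B : Set C)
    (hB : ∀ U : C, ∃ (ι : Type u) (Y : ι → C) (f : ∀ i, Y i ⟶ U),
      Sieve.ofArrows Y f ∈ J U ∧ ∀ i, Y i ∈ B)
    (n₀ : ℕ)
    (ha : ∀ U ∈ B, ∀ j : ℤ, (j = m - 2 ∨ j = m - 1) →
      CohCx.LimOneIsZero (fun n => ((F n).X j).obj.obj (op U))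
        (fun n => (((t n).f j).hom.app (op U)).hom))
    (hb : ∀ U ∈ B, CohCx.LimOneIsZero
      (fun n => ((CohCx.sectCx J U).obj (F n)).homology (m - 1))
      (fun n => (HomologicalComplex.homologyMap ((CohCx.sectCx J U).map (t n)) (m - 1)).hom))
    (hc : ∀ U ∈ B, ∀ k : ℕ, IsIso (HomologicalComplex.homologyMap
      ((CohCx.sectCx J U).map (CohCx.transition F t n₀ k)) m)) :
    IsIso (HomologicalComplex.homologyMap (limit.π (CohCx.opSequence F t) (op n₀)) m) :=
  HomShf.isIso_homologyMap_of_sections J _ m B hB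
    (fun U hU => isIso_sections J F t m U n₀ (ha U hU) (hb U hU) (hc U hU))

end Groth.Agent.Lib.Helper53.TowerShf
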