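import Groth.Agent.Lib.Helper62.WSerreEquiv
import Groth.Agent.Lib.Helper53.LocConst
import Groth.Agent.Lib.Helper13.KInjMain
import Groth.Agent.Lib.Helper13.CochainLimit
import Groth.Prelude.Def_CohCx

/-!
# Unbounded version of the equivalence `D_{A'} ≃ D_A` for an exact functor with a derived right
adjoint (helper53)

Abstract form of Stacks 0D6T-type statement: `L : 𝒜 ⥤ ℬ` exact, `R` right adjoint of
`L.mapDerivedCategory`, `A' ⊂ 𝒜`, `A ⊂ ℬ` weak Serre with `L : A' → A` essentially surjective and the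
unit an isomorphism on `A'`.  If objects of `D_A(ℬ)` are derived limits of their truncations (`H4`) and
derived limits of eventually constant towers in `D⁺_{A'}(𝒜)` have the expected cohomology (`H5`), then
`L` and `R` are inverse equivalences between `D_{A'}(𝒜)` and `D_A(ℬ)`.
-/

set_option autoImplicit false
universe w w' v u

open CategoryTheory CategoryTheory.Limits CategoryTheory.Pretriangulated DerivedCategory

namespace Groth.Agent.Lib.Helper53.WSerreUnb

open Groth.Agent.Lib.Helper62.WSE Groth.Agent.Lib.Helper53.TruncTower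
  Groth.Agent.Lib.Helper53.DerLoc Groth.Agent.Lib.Helper53.LocConst

section Products

variable {A : Type u} [Category.{v} A] [Abelian A] [IsGrothendieckAbelian.{v} A]
  [HasDerivedCategory.{w} A]

/-- products in the derived category of a Grothendieck abelian category (any universe of the
localization) -/
theorem hasProducts_derivedCategory : HasProducts.{v} (DerivedCategory A) := by
  intro J
  constructor
  intro F
  have hres : ∀ j : J, ∃ (I : CochainComplex A ℤ), I.IsKInjective ∧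
      Nonempty (DerivedCategory.Q.obj I ≅ F.obj ⟨j⟩) := by
    intro j
    obtain ⟨I, f, h1, h2, -, -⟩ :=
      Groth.Agent.Lib.Helper13.KInjMain.exists_kInjective_resolution
        (DerivedCategory.Q.objPreimage (F.obj ⟨j⟩))
    haveI := h2
    haveI : IsIso (DerivedCategory.Q.map f) := by
      rw [DerivedCategory.isIso_Q_map_iff_quasiIso]; exact h2
    exact ⟨I, h1, ⟨(asIso (DerivedCategory.Q.map f)).symm ≪≫
      DerivedCategory.Q.objObjPreimageIso (F.obj ⟨j⟩)⟩⟩
  choose I hI e using hres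
  have e' := fun j => (e j).some
  haveI : Limits.HasLimitsOfShape (Discrete J) A := inferInstance
  haveI : Limits.HasLimitsOfShape (Discrete J) (CochainComplex A ℤ) := inferInstance
  obtain ⟨hl⟩ := Groth.Agent.Lib.Helper13.CochainLimit.nonempty_isLimit_Q_fan
    (Limits.Fan.mk (∏ᶜ I) (Limits.Pi.π I)) (Limits.productIsProduct I) hI
  haveI : Limits.HasLimit (Discrete.functor (fun j => DerivedCategory.Q.obj (I j))) :=
    ⟨⟨⟨_, hl⟩⟩⟩
  exact Limits.hasLimit_of_iso (Discrete.natIso (fun ⟨j⟩ => e' j) :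
    Discrete.functor (fun j => DerivedCategory.Q.obj (I j)) ≅ F)

lemma hasProduct_nat (K : ℕ → DerivedCategory A) : HasProduct K := by
  haveI : HasProducts.{v} (DerivedCategory A) := hasProducts_derivedCategory
  haveI : HasProducts.{0} (DerivedCategory A) := has_smallest_products_of_hasProducts
  infer_instance

end Products

section MapRlim

variable {D : Type*} [Category D] [Preadditive D] [HasZeroObject D] [HasShift D ℤ]
  [∀ n : ℤ, (shiftFunctor D n).Additive] [Pretriangulated D]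
  {E : Type*} [Category E] [Preadditive E] [HasZeroObject E] [HasShift E ℤ]
  [∀ n : ℤ, (shiftFunctor E n).Additive] [Pretriangulated E]

/-- a triangulated functor preserving the relevant product preserves derived limits (with the
structure maps) -/
lemma map_isRlimVia (R : D ⥤ E) [R.CommShift ℤ] [R.IsTriangulated]
    (K : ℕ → D) (t : ∀ n, K (n + 1) ⟶ K n) [HasProduct K]
    [HasProduct (fun n => R.obj (K n))] [PreservesLimit (Discrete.functor K) R]
    {L : D} {a : ∀ n, L ⟶ K n} (h : CohCx.IsRlimVia K t L a) :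
    CohCx.IsRlimVia (fun n => R.obj (K n)) (fun n => R.map (t n)) (R.obj L)
      (fun n => R.map (a n)) := by
  obtain ⟨c, hc⟩ := h
  have hδ := R.map_distinguished _ hc
  let cmp : R.obj (∏ᶜ K) ⟶ ∏ᶜ fun n => R.obj (K n) := piComparison R K
  haveI hcmp : IsIso cmp := by
    show IsIso (piComparison R K)
    infer_instance
  let e : R.obj (∏ᶜ K) ≅ ∏ᶜ fun n => R.obj (K n) := asIso cmp
  have c0 : R.map (Pi.lift a) ≫ cmp = Pi.lift (fun n => R.map (a n)) := by
    apply Limits.Pi.hom_ext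
    intro n
    rw [Category.assoc, piComparison_comp_π, ← R.map_comp, Pi.lift_π, Pi.lift_π]
  have c1 : R.map (Pi.lift fun n => Pi.π K n - Pi.π K (n + 1) ≫ t n) ≫ cmp =
      cmp ≫ Pi.lift fun n => Pi.π (fun n => R.obj (K n)) n -
        Pi.π (fun n => R.obj (K n)) (n + 1) ≫ R.map (t n) := by
    apply Limits.Pi.hom_ext
    intro n
    rw [Category.assoc, Category.assoc, Pi.lift_π, piComparison_comp_π, ← R.map_comp, Pi.lift_π,
      Preadditive.comp_sub, piComparison_comp_π, ← Category.assoc, piComparison_comp_π,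
      R.map_sub, R.map_comp]
  refine ⟨e.inv ≫ R.map c ≫ (R.commShiftIso (1 : ℤ)).hom.app L, ?_⟩
  refine isomorphic_distinguished _ hδ _ (Triangle.isoMk _ _ (Iso.refl _) e.symm e.symm ?_ ?_ ?_)
  · show Pi.lift (fun n => R.map (a n)) ≫ e.inv = 𝟙 _ ≫ R.map (Pi.lift a)
    rw [Category.id_comp, Iso.comp_inv_eq]
    exact c0.symm
  · show (Pi.lift fun n => Pi.π (fun n => R.obj (K n)) n -
        Pi.π (fun n => R.obj (K n)) (n + 1) ≫ R.map (t n)) ≫ e.inv =
      e.inv ≫ R.map (Pi.lift fun n => Pi.π K n - Pi.π K (n + 1) ≫ t n)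
    rw [Iso.comp_inv_eq, Category.assoc, Iso.eq_inv_comp]
    exact c1.symm
  · show (e.inv ≫ R.map c ≫ (R.commShiftIso (1 : ℤ)).hom.app L) ≫
        (shiftFunctor E (1 : ℤ)).map (𝟙 _) = e.inv ≫ R.map c ≫ (R.commShiftIso (1 : ℤ)).hom.app L
    rw [CategoryTheory.Functor.map_id]
    exact Category.comp_id _

end MapRlim

section CohIn

variable {𝒞 : Type (u + 1)} [Category.{u} 𝒞] [Abelian 𝒞] [HasDerivedCategory.{w} 𝒞]
  (P : ObjectProperty 𝒞) [WSerre.IsWeakSerre P]

lemma cohInPlus_truncTower (X : DerivedCategory 𝒞) (hX : WSerre.cohIn P X) (n : ℕ) :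
    WSerre.cohInPlus P (CohCx.truncTower X n) := by
  refine ⟨fun i => ?_, -(n : ℤ), ?_⟩
  · by_cases hi : -(n : ℤ) ≤ i
    · haveI := isIso_homology_toTruncTower X n i hi
      exact P.prop_of_iso (asIso ((homologyFunctor 𝒞 i).map (CohCx.toTruncTower X n))) (hX i)
    · exact P.prop_of_isZero (isZero_homology_truncTower X n i (by omega))
  · dsimp only [CohCx.truncTower]
    infer_instance

lemma cohIn_cone (T : Triangle (DerivedCategory 𝒞)) (hT : T ∈ distTriang _)
    (h₁ : WSerre.cohIn P T.obj₁) (h₂ : WSerre.cohIn P T.obj₂) : WSerre.cohIn P T.obj₃ := by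
  intro i
  exact prop_of_exact₅ P _ _ _ _ _ _ _
    (HomologySequence.exact₂ T hT i) (HomologySequence.exact₃ T hT i (i + 1) rfl)
    (HomologySequence.exact₁ T hT i (i + 1) rfl) (h₁ i) (h₂ i) (h₁ (i + 1)) (h₂ (i + 1))

lemma isZero_of_homology (Z : DerivedCategory 𝒞)
    (hz : ∀ q : ℤ, IsZero ((homologyFunctor 𝒞 q).obj Z)) : IsZero Z := by
  haveI : Z.IsGE 1 := (isGE_iff Z 1).2 (fun i _ => hz i)
  haveI : Z.IsLE 0 := (isLE_iff Z 0).2 (fun i _ => hz i)
  exact TStructure.t.isZero Z 0 1 (by omega)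

end CohIn

section Main

variable {𝒜 : Type (u + 1)} [Category.{u} 𝒜] [Abelian 𝒜] [HasDerivedCategory.{w} 𝒜]
  {ℬ : Type (u + 1)} [Category.{u} ℬ] [Abelian ℬ] [HasDerivedCategory.{w'} ℬ]
  {L : 𝒜 ⥤ ℬ} [L.Additive] [PreservesFiniteLimits L] [PreservesFiniteColimits L]
  {R : DerivedCategory ℬ ⥤ DerivedCategory 𝒜} (adj : L.mapDerivedCategory ⊣ R)
  [R.CommShift ℤ] [adj.CommShift ℤ] [R.IsTriangulated]
  (A : ObjectProperty ℬ) [WSerre.IsWeakSerre A] (A' : ObjectProperty 𝒜) [WSerre.IsWeakSerre A']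
  (h2a : ∀ F' : 𝒜, A' F' → A (L.obj F'))
  (h2c : ∀ F : ℬ, A F → ∃ F' : 𝒜, A' F' ∧ Nonempty (L.obj F' ≅ F))
  (h3 : ∀ F' : 𝒜, A' F' → IsIso (adj.unit.app ((DerivedCategory.singleFunctor 𝒜 0).obj F')))
  [hPB : ∀ K : ℕ → DerivedCategory ℬ, HasProduct K]
  [hPA : ∀ K : ℕ → DerivedCategory 𝒜, HasProduct K]
  (H4 : ∀ X : DerivedCategory ℬ, WSerre.cohIn A X →
    CohCx.IsRlimVia (CohCx.truncTower X) (CohCx.truncTowerMap X) X (CohCx.toTruncTower X))
  (H5 : ∀ (K : ℕ → DerivedCategory 𝒜) (t : ∀ n, K (n + 1) ⟶ K n),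
    (∀ n, WSerre.cohInPlus A' (K n)) →
    (∀ j : ℤ, ∃ n₀ : ℕ, ∀ n, n₀ ≤ n → IsIso ((homologyFunctor 𝒜 j).map (t n))) →
    ∀ (Lim : DerivedCategory 𝒜) (a : ∀ n, Lim ⟶ K n), CohCx.IsRlimVia K t Lim a → ∀ j : ℤ,
      ∃ n₀ : ℕ, ∀ n, n₀ ≤ n → IsIso ((homologyFunctor 𝒜 j).map (a n)))

include h2c h3 in
lemma R_single_iso (F : ℬ) (hF : A F) (b : ℤ) :
    ∃ F' : 𝒜, Nonempty (R.obj ((DerivedCategory.singleFunctor ℬ b).obj F) ≅
      (DerivedCategory.singleFunctor 𝒜 b).obj F') := by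
  obtain ⟨F', hF', ⟨e⟩⟩ := h2c F hF
  let X' := (DerivedCategory.singleFunctor 𝒜 b).obj F'
  let e₁ : L.mapDerivedCategory.obj X' ≅ (DerivedCategory.singleFunctor ℬ b).obj F :=
    (L.mapDerivedCategorySingleFunctor b).app F' ≪≫ (DerivedCategory.singleFunctor ℬ b).mapIso e
  have hu : IsIso (adj.unit.app X') :=
    Groth.Agent.Lib.Helper22.isIso_app_single A' adj.unit h3 F' hF' b
  exact ⟨F', ⟨(asIso (adj.unit.app X') ≪≫ R.mapIso e₁).symm⟩⟩

include h2c h3 in
lemma isIso_homology_R_truncTowerMap (X : DerivedCategory ℬ) (hX : WSerre.cohIn A X) (n : ℕ)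
    (j : ℤ) (hj : -(n : ℤ) ≤ j) :
    IsIso ((homologyFunctor 𝒜 j).map (R.map (CohCx.truncTowerMap X n))) := by
  obtain ⟨F, f, δ, hTr⟩ := distinguished_cocone_triangle₁ (CohCx.truncTowerMap X n)
  obtain ⟨eF⟩ := exists_iso_fibre X n F f δ hTr
  obtain ⟨F', ⟨e'⟩⟩ := R_single_iso adj A A' h2c h3 _ (hX (-((n : ℤ) + 1))) (-((n : ℤ) + 1))
  have hz : ∀ q : ℤ, q ≠ -((n : ℤ) + 1) → IsZero ((homologyFunctor 𝒜 q).obj (R.obj F)) := by
    intro q hq
    have e2 : R.obj F ≅ (DerivedCategory.singleFunctor 𝒜 (-((n : ℤ) + 1))).obj F' :=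
      R.mapIso eF ≪≫ e'
    have h0 : IsZero ((homologyFunctor 𝒜 q).obj
        ((DerivedCategory.singleFunctor 𝒜 (-((n : ℤ) + 1))).obj F')) := by
      by_cases hlt : q < -((n : ℤ) + 1)
      · exact isZero_of_isGE _ (-((n : ℤ) + 1)) q hlt
      · exact isZero_of_isLE _ (-((n : ℤ) + 1)) q (by omega)
    exact h0.of_iso ((homologyFunctor 𝒜 q).mapIso e2)
  have hRT := R.map_distinguished _ hTr
  exact isIso_homologyMap_mor₂ _ hRT j (j + 1) rfl (hz j (by omega)) (hz (j + 1) (by omega))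

include h2c h3 in
lemma cohInPlus_R_truncTower (X : DerivedCategory ℬ) (hX : WSerre.cohIn A X) (n : ℕ) :
    WSerre.cohInPlus A' (R.obj (CohCx.truncTower X n)) := by
  have hτ := cohInPlus_truncTower A X hX n
  haveI : (CohCx.truncTower X n).IsGE (-(n : ℤ)) := by
    dsimp only [CohCx.truncTower]; infer_instance
  exact ⟨cohIn_rightAdjoint adj A A' h2c h3 _ (-(n : ℤ)) hτ.1, -(n : ℤ),
    isGE_rightAdjoint adj _ _⟩

include h2c h3 H4 H5 in
lemma KL (X : DerivedCategory ℬ) (hX : WSerre.cohIn A X) (j : ℤ) :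
    ∃ n₀ : ℕ, ∀ n, n₀ ≤ n →
      IsIso ((homologyFunctor 𝒜 j).map (R.map (CohCx.toTruncTower X n))) := by
  haveI : PreservesLimit (Discrete.functor (CohCx.truncTower X)) R := by
    haveI := adj.rightAdjoint_preservesLimits
    infer_instance
  have hR := map_isRlimVia R (CohCx.truncTower X) (CohCx.truncTowerMap X) (H4 X hX)
  refine H5 _ _ (fun n => cohInPlus_R_truncTower adj A A' h2c h3 X hX n)
    (fun j' => ⟨(-j').toNat, fun n hn => ?_⟩) _ _ hR j
  exact isIso_homology_R_truncTowerMap adj A A' h2c h3 X hX n j' (by omega)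

include h2c h3 H4 H5 in
lemma cohIn_R (X : DerivedCategory ℬ) (hX : WSerre.cohIn A X) : WSerre.cohIn A' (R.obj X) := by
  intro q
  obtain ⟨n₀, h⟩ := KL adj A A' h2c h3 H4 H5 X hX q
  haveI := h n₀ le_rfl
  exact A'.prop_of_iso
    (asIso ((homologyFunctor 𝒜 q).map (R.map (CohCx.toTruncTower X n₀)))).symm
    ((cohInPlus_R_truncTower adj A A' h2c h3 X hX n₀).1 q)

include h2a h2c h3 H4 H5 in
lemma isIso_unit_unb (Y : DerivedCategory 𝒜) (hY : WSerre.cohIn A' Y) :
    IsIso (adj.unit.app Y) := by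
  rw [DerivedCategory.isIso_iff]
  intro q
  have hX : WSerre.cohIn A (L.mapDerivedCategory.obj Y) :=
    cohIn_mapDerivedCategory A A' h2a Y hY
  obtain ⟨n₀, hn₀⟩ := KL adj A A' h2c h3 H4 H5 _ hX q
  obtain ⟨n, hn1, hn2⟩ : ∃ n : ℕ, n₀ ≤ n ∧ -(n : ℤ) ≤ q :=
    ⟨max n₀ (-q).toNat, le_max_left _ _, by
      have := le_max_right n₀ (-q).toNat
      omega⟩
  have hT : Triangle.mk ((TStructure.t.truncLEι (-(n : ℤ) - 1)).app Y)
      ((TStructure.t.truncGEπ (-(n : ℤ))).app Y)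
      ((TStructure.t.truncGEδLE (-(n : ℤ) - 1) (-(n : ℤ)) (by omega)).app Y) ∈ distTriang _ :=
    TStructure.t.triangleLEGE_distinguished (-(n : ℤ) - 1) (-(n : ℤ)) (by omega) Y
  have hT' : Triangle.mk ((TStructure.t.truncLEι (-(n : ℤ) - 1)).app (L.mapDerivedCategory.obj Y))
      ((TStructure.t.truncGEπ (-(n : ℤ))).app (L.mapDerivedCategory.obj Y))
      ((TStructure.t.truncGEδLE (-(n : ℤ) - 1) (-(n : ℤ)) (by omega)).app
        (L.mapDerivedCategory.obj Y)) ∈ distTriang _ :=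
    TStructure.t.triangleLEGE_distinguished (-(n : ℤ) - 1) (-(n : ℤ)) (by omega) _
  have hLT := L.mapDerivedCategory.map_distinguished _ hT
  haveI : ((TStructure.t.truncLE (-(n : ℤ) - 1)).obj Y).IsLE (-(n : ℤ) - 1) := inferInstance
  haveI : ((TStructure.t.truncGE (-(n : ℤ))).obj Y).IsGE (-(n : ℤ)) := inferInstance
  obtain ⟨e', he'⟩ := TStructure.t.triangle_iso_exists hLT hT' (Iso.refl _)
    (-(n : ℤ) - 1) (-(n : ℤ))
    (isLE_mapDerivedCategory L ((TStructure.t.truncLE (-(n : ℤ) - 1)).obj Y) (-(n : ℤ) - 1))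
    (isGE_mapDerivedCategory L ((TStructure.t.truncGE (-(n : ℤ))).obj Y) (-(n : ℤ)))
    (inferInstanceAs (TStructure.t.IsLE ((TStructure.t.truncLE (-(n : ℤ) - 1)).obj
      (L.mapDerivedCategory.obj Y)) (-(n : ℤ) - 1)))
    (inferInstanceAs (TStructure.t.IsGE ((TStructure.t.truncGE (-(n : ℤ))).obj
      (L.mapDerivedCategory.obj Y)) (-(n : ℤ)))) (by omega)
  let e3 : L.mapDerivedCategory.obj (CohCx.truncTower Y n) ≅
      CohCx.truncTower (L.mapDerivedCategory.obj Y) n := Triangle.π₃.mapIso e'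
  have hcomm := e'.hom.comm₂
  have key : L.mapDerivedCategory.map (CohCx.toTruncTower Y n) =
      CohCx.toTruncTower (L.mapDerivedCategory.obj Y) n ≫ e3.inv := by
    rw [Iso.eq_comp_inv]
    have h1 : L.mapDerivedCategory.map (CohCx.toTruncTower Y n) ≫ e'.hom.hom₃ =
        e'.hom.hom₂ ≫ CohCx.toTruncTower (L.mapDerivedCategory.obj Y) n := hcomm
    rw [he'] at h1
    exact h1.trans (Category.id_comp _)
  haveI h1 : IsIso ((homologyFunctor 𝒜 q).map
      (R.map (L.mapDerivedCategory.map (CohCx.toTruncTower Y n)))) := by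
    rw [key, R.map_comp, Functor.map_comp]
    haveI := hn₀ n hn1
    infer_instance
  have h2 : (homologyFunctor 𝒜 q).map (CohCx.toTruncTower Y n) ≫
      (homologyFunctor 𝒜 q).map (adj.unit.app (CohCx.truncTower Y n)) =
      (homologyFunctor 𝒜 q).map (adj.unit.app Y) ≫ (homologyFunctor 𝒜 q).map
        (R.map (L.mapDerivedCategory.map (CohCx.toTruncTower Y n))) := by
    rw [← Functor.map_comp, ← Functor.map_comp]
    congr 1
    exact adj.unit.naturality (CohCx.toTruncTower Y n)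
  haveI h3' : IsIso ((homologyFunctor 𝒜 q).map (CohCx.toTruncTower Y n)) :=
    isIso_homology_toTruncTower Y n q hn2
  haveI : (CohCx.truncTower Y n).IsGE (-(n : ℤ)) := by
    dsimp only [CohCx.truncTower]; infer_instance
  haveI h4 : IsIso (adj.unit.app (CohCx.truncTower Y n)) :=
    isIso_unit adj A' h3 _ (-(n : ℤ)) (cohInPlus_truncTower A' Y hY n).1
  haveI h5 : IsIso ((homologyFunctor 𝒜 q).map (adj.unit.app Y) ≫ (homologyFunctor 𝒜 q).map
      (R.map (L.mapDerivedCategory.map (CohCx.toTruncTower Y n)))) := by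
    rw [← h2]
    infer_instance
  exact IsIso.of_isIso_comp_right _ ((homologyFunctor 𝒜 q).map
      (R.map (L.mapDerivedCategory.map (CohCx.toTruncTower Y n))))

include h2a h2c h3 H4 H5 in
lemma isIso_counit_unb (X : DerivedCategory ℬ) (hX : WSerre.cohIn A X) :
    IsIso (adj.counit.app X) := by
  have hRX : WSerre.cohIn A' (R.obj X) := cohIn_R adj A A' h2c h3 H4 H5 X hX
  haveI hu : IsIso (adj.unit.app (R.obj X)) :=
    isIso_unit_unb adj A A' h2a h2c h3 H4 H5 _ hRX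
  have hRc : IsIso (R.map (adj.counit.app X)) := by
    have h := IsIso.eq_inv_of_hom_inv_id (adj.right_triangle_components X)
    rw [h]
    infer_instance
  obtain ⟨Z, g, δ, hT⟩ := distinguished_cocone_triangle (adj.counit.app X)
  have hRT := R.map_distinguished _ hT
  have hRZ : IsZero (R.obj Z) := (Triangle.isZero₃_iff_isIso₁ _ hRT).2 hRc
  have hZ : WSerre.cohIn A Z := cohIn_cone A _ hT
    (cohIn_mapDerivedCategory A A' h2a _ hRX) hX
  have hz : ∀ q : ℤ, IsZero ((homologyFunctor ℬ q).obj Z) := by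
    intro q
    obtain ⟨n₀, hn₀⟩ := KL adj A A' h2c h3 H4 H5 Z hZ q
    obtain ⟨n, hn1, hn2⟩ : ∃ n : ℕ, n₀ ≤ n ∧ -(n : ℤ) ≤ q :=
      ⟨max n₀ (-q).toNat, le_max_left _ _, by
        have := le_max_right n₀ (-q).toNat
        omega⟩
    haveI := hn₀ n hn1
    have h2 : IsZero ((homologyFunctor 𝒜 q).obj (R.obj (CohCx.truncTower Z n))) :=
      ((homologyFunctor 𝒜 q).map_isZero hRZ).of_iso
        (asIso ((homologyFunctor 𝒜 q).map (R.map (CohCx.toTruncTower Z n)))).symm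
    haveI : (CohCx.truncTower Z n).IsGE (-(n : ℤ)) := by
      dsimp only [CohCx.truncTower]; infer_instance
    haveI hc : IsIso (adj.counit.app (CohCx.truncTower Z n)) :=
      isIso_counit adj A A' h2c h3 _ (-(n : ℤ)) (cohInPlus_truncTower A Z hZ n).1
    have h3' : IsZero ((homologyFunctor ℬ q).obj (CohCx.truncTower Z n)) :=
      (L.map_isZero h2).of_iso ((homologyFunctor ℬ q).mapIso
        (asIso (adj.counit.app (CohCx.truncTower Z n))).symm ≪≫
        mapDerivedCategoryHomologyIso L (R.obj (CohCx.truncTower Z n)) q)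
    haveI := isIso_homology_toTruncTower Z n q hn2
    exact h3'.of_iso (asIso ((homologyFunctor ℬ q).map (CohCx.toTruncTower Z n)))
  exact (Triangle.isZero₃_iff_isIso₁ _ hT).1 (isZero_of_homology Z hz)

end Main

section Final

variable {𝒜 : Type (u + 1)} [Category.{u} 𝒜] [Abelian 𝒜] [HasDerivedCategory.{w} 𝒜]
  {ℬ : Type (u + 1)} [Category.{u} ℬ] [Abelian ℬ] [HasDerivedCategory.{w'} ℬ]
  {L : 𝒜 ⥤ ℬ} [L.Additive] [PreservesFiniteLimits L] [PreservesFiniteColimits L]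
  {R : DerivedCategory ℬ ⥤ DerivedCategory 𝒜} (adj : L.mapDerivedCategory ⊣ R)
  (A : ObjectProperty ℬ) [WSerre.IsWeakSerre A] (A' : ObjectProperty 𝒜) [WSerre.IsWeakSerre A']

theorem equivalence_unbounded
    (h2a : ∀ F' : 𝒜, A' F' → A (L.obj F'))
    (h2c : ∀ F : ℬ, A F → ∃ F' : 𝒜, A' F' ∧ Nonempty (L.obj F' ≅ F))
    (h3 : ∀ F' : 𝒜, A' F' → IsIso (adj.unit.app ((DerivedCategory.singleFunctor 𝒜 0).obj F')))
    [hPB : ∀ K : ℕ → DerivedCategory ℬ, HasProduct K]
    [hPA : ∀ K : ℕ → DerivedCategory 𝒜, HasProduct K]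
    (H4 : ∀ X : DerivedCategory ℬ, WSerre.cohIn A X →
      CohCx.IsRlimVia (CohCx.truncTower X) (CohCx.truncTowerMap X) X (CohCx.toTruncTower X))
    (H5 : ∀ (K : ℕ → DerivedCategory 𝒜) (t : ∀ n, K (n + 1) ⟶ K n),
      (∀ n, WSerre.cohInPlus A' (K n)) →
      (∀ j : ℤ, ∃ n₀ : ℕ, ∀ n, n₀ ≤ n → IsIso ((homologyFunctor 𝒜 j).map (t n))) →
      ∀ (Lim : DerivedCategory 𝒜) (a : ∀ n, Lim ⟶ K n), CohCx.IsRlimVia K t Lim a → ∀ j : ℤ,
        ∃ n₀ : ℕ, ∀ n, n₀ ≤ n → IsIso ((homologyFunctor 𝒜 j).map (a n))) :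
    (∀ Y : DerivedCategory 𝒜, WSerre.cohIn A' Y →
      WSerre.cohIn A (L.mapDerivedCategory.obj Y) ∧ IsIso (adj.unit.app Y)) ∧
    (∀ X : DerivedCategory ℬ, WSerre.cohIn A X →
      WSerre.cohIn A' (R.obj X) ∧ IsIso (adj.counit.app X)) := by
  let _ : R.CommShift ℤ := adj.rightAdjointCommShift ℤ
  have : adj.CommShift ℤ := adj.commShift_of_leftAdjoint ℤ
  have : R.IsTriangulated := adj.isTriangulated_rightAdjoint
  exact ⟨fun Y hY => ⟨cohIn_mapDerivedCategory A A' h2a Y hY,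
      isIso_unit_unb adj A A' h2a h2c h3 H4 H5 Y hY⟩,
    fun X hX => ⟨cohIn_R adj A A' h2c h3 H4 H5 X hX,
      isIso_counit_unb adj A A' h2a h2c h3 H4 H5 X hX⟩⟩

end Final

end Groth.Agent.Lib.Helper53.WSerreUnb
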